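import Cfsg.Prelude.Def_FusionSystem
import Mathlib
import Cfsg.Agent.H794.FusTop
import Cfsg.Agent.H759.FusNormal
import Cfsg.Agent.H771.ModelUnique
import Cfsg.Agent.S5255
set_option linter.all false

-- part: H780/NatPair
section
/-!
# A counting-free lemma on natural `SL₂(q)`-like actions (helper780)

`B` a finite group, `G ≤ Aut(B)`, `U` a Sylow `p`-subgroup of `G`, `Z ≤ B` a `p`-subgroup, centralised by `U`, with
`[B, U] ≤ Z`, such that for `b ∉ Z` the map `u ↦ b⁻¹ u(b)` is a bijection `U → Z`.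
If a nontrivial subgroup `Q ≤ Z` is `G`-invariant then `U` is normal in `G`.
-/

set_option autoImplicit false

namespace Cfsg.Agent.H780

open Cfsg

/-- A subgroup of `Aut(B)` acting trivially on a `p`-subgroup `Z` and on the cosets of `Z` is a `p`-group. -/
theorem isPGroup_of_stabilizes {B : Type*} [Group B] {p : ℕ} (Z : Subgroup B)
    (hZ : ∃ k : ℕ, ∀ z ∈ Z, z ^ p ^ k = 1) (K : Subgroup (MulAut B))
    (h1 : ∀ u ∈ K, ∀ z ∈ Z, u z = z) (h2 : ∀ u ∈ K, ∀ b, b⁻¹ * u b ∈ Z) : IsPGroup p K := by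
  obtain ⟨k, hk⟩ := hZ
  rintro ⟨u, hu⟩
  refine ⟨k, Subtype.ext ?_⟩
  show u ^ p ^ k = 1
  apply MulEquiv.ext
  intro b
  have hpow : ∀ n : ℕ, (u ^ n) b = b * (b⁻¹ * u b) ^ n := by
    intro n
    induction n with
    | zero => simp
    | succ n ih =>
      rw [pow_succ', MulAut.mul_apply, ih, map_mul]
      rw [h1 u hu _ (pow_mem (h2 u hu b) n), pow_succ', ← mul_assoc, mul_inv_cancel_left]
  rw [hpow, hk _ (h2 u hu b), mul_one]
  rfl

/-- **Lemma A.** -/
theorem normal_of_invariant {B : Type*} [Group B] [Finite B] {p : ℕ} [Fact p.Prime]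
    (G U : Subgroup (MulAut B)) (hUG : U ≤ G)
    (hU : ∃ R : Sylow p G, (R : Subgroup G) = U.subgroupOf G)
    (Z Q : Subgroup B) (hZ : IsPGroup p Z) (hQZ : Q ≤ Z) (hQ : Q ≠ ⊥)
    (hQG : ∀ g ∈ G, ∀ x ∈ Q, g x ∈ Q)
    (h1 : ∀ u ∈ U, ∀ z ∈ Z, u z = z)
    (h2 : ∀ u ∈ U, ∀ b, b⁻¹ * u b ∈ Z)
    (h3 : ∀ b, b ∉ Z → ∀ z ∈ Z, ∃ u ∈ U, u b = b * z)
    (h4 : ∀ u ∈ U, u ≠ 1 → ∀ b, u b = b → b ∈ Z) :
    ∀ g ∈ G, ∀ u ∈ U, g * u * g⁻¹ ∈ U := by
  have hfinMA : Finite (MulAut B) := inferInstance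
  have hZk : ∃ k : ℕ, ∀ z ∈ Z, z ^ p ^ k = 1 := by
    obtain ⟨k, hk⟩ := (IsPGroup.iff_card).1 hZ
    refine ⟨k, fun z hz => ?_⟩
    have h := pow_card_eq_one' (x := (⟨z, hz⟩ : Z))
    rw [hk] at h
    exact congrArg Subtype.val h
  obtain ⟨R, hR⟩ := hU
  have hUp : IsPGroup p U := by
    have h := R.isPGroup'
    rw [hR] at h
    exact h.of_equiv (Subgroup.subgroupOfEquivOfLe hUG)
  -- maximality of `U`
  have hmax : ∀ K : Subgroup (MulAut B), K ≤ G → IsPGroup p K → U ≤ K → K ≤ U := by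
    intro K hKG hK hUK
    have h5 : IsPGroup p (K.subgroupOf G) := hK.of_equiv (Subgroup.subgroupOfEquivOfLe hKG).symm
    have h6 : (R : Subgroup G) ≤ K.subgroupOf G := by
      rw [hR]
      exact fun x hx => hUK hx
    have h7 := R.is_maximal' h5 h6
    intro x hx
    have h8 : (⟨x, hKG hx⟩ : G) ∈ K.subgroupOf G := hx
    rw [h7, hR] at h8
    exact h8
  intro g hg
  by_cases hcase : ∀ z ∈ Z, g z ∈ Z
  · -- the group `K`
    have hcase' : ∀ z ∈ Z, g⁻¹ z ∈ Z := by
      intro z hz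
      have hinj : Function.Injective (fun z : Z => (⟨g z, hcase z z.2⟩ : Z)) := by
        intro a b hab
        exact Subtype.ext (g.injective (congrArg Subtype.val hab))
      obtain ⟨w, hw⟩ := Finite.surjective_of_injective hinj ⟨z, hz⟩
      have hw' : g w = z := congrArg Subtype.val hw
      have : g⁻¹ z = w := by
        rw [← hw']
        exact g.symm_apply_apply w
      rw [this]
      exact w.2
    let K : Subgroup (MulAut B) :=
      { carrier := {k | k ∈ G ∧ (∀ z ∈ Z, k z = z) ∧ ∀ b, b⁻¹ * k b ∈ Z}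
        one_mem' := ⟨G.one_mem, fun z _ => rfl, fun b => by simp⟩
        mul_mem' := by
          rintro a b ⟨ha, ha1, ha2⟩ ⟨hb, hb1, hb2⟩
          refine ⟨G.mul_mem ha hb, fun z hz => ?_, fun x => ?_⟩
          · rw [MulAut.mul_apply, hb1 z hz, ha1 z hz]
          · rw [MulAut.mul_apply]
            have h5 : x⁻¹ * a (b x) = (x⁻¹ * a x) * (a (x⁻¹ * b x)) := by
              rw [map_mul, map_inv]; group
            rw [h5, ha1 _ (hb2 x)]
            exact Z.mul_mem (ha2 x) (hb2 x)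
        inv_mem' := by
          rintro a ⟨ha, ha1, ha2⟩
          have h5 : ∀ z ∈ Z, a⁻¹ z = z := by
            intro z hz
            have := ha1 z hz
            calc a⁻¹ z = a⁻¹ (a z) := by rw [this]
              _ = z := a.symm_apply_apply z
          refine ⟨G.inv_mem ha, h5, fun x => ?_⟩
          have h6 : a (a⁻¹ x) = x := a.apply_symm_apply x
          have h7 := ha2 (a⁻¹ x)
          rw [h6] at h7
          have h8 : x⁻¹ * a⁻¹ x = ((a⁻¹ x)⁻¹ * x)⁻¹ := by group
          rw [h8]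
          exact Z.inv_mem h7 }
    have hKp : IsPGroup p K := isPGroup_of_stabilizes Z hZk K (fun u hu => hu.2.1) (fun u hu => hu.2.2)
    have hKU : K ≤ U := hmax K (fun k hk => hk.1) hKp (fun u hu => ⟨hUG hu, h1 u hu, h2 u hu⟩)
    intro u hu
    apply hKU
    refine ⟨G.mul_mem (G.mul_mem hg (hUG hu)) (G.inv_mem hg), fun z hz => ?_, fun b => ?_⟩
    · rw [MulAut.mul_apply, MulAut.mul_apply, h1 u hu _ (hcase' z hz)]
      exact g.apply_symm_apply z
    · have h5 := hcase _ (h2 u hu (g⁻¹ b))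
      rw [map_mul, map_inv] at h5
      have h6 : g (g⁻¹ b) = b := g.apply_symm_apply b
      rw [h6] at h5
      exact h5
  · -- contradiction
    exfalso
    push Not at hcase
    obtain ⟨z, hz, hgz⟩ := hcase
    set c := g z with hc
    -- the stabiliser of the coset `c Q`
    let H : Subgroup (MulAut B) :=
      { carrier := {k | k ∈ G ∧ c⁻¹ * k c ∈ Q}
        one_mem' := ⟨G.one_mem, by simp⟩
        mul_mem' := by
          rintro a b ⟨ha, ha1⟩ ⟨hb, hb1⟩
          refine ⟨G.mul_mem ha hb, ?_⟩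
          rw [MulAut.mul_apply]
          have h5 : c⁻¹ * a (b c) = (c⁻¹ * a c) * a (c⁻¹ * b c) := by
            rw [map_mul, map_inv]; group
          rw [h5]
          exact Q.mul_mem ha1 (hQG a ha _ hb1)
        inv_mem' := by
          rintro a ⟨ha, ha1⟩
          refine ⟨G.inv_mem ha, ?_⟩
          have h6 := hQG a⁻¹ (G.inv_mem ha) _ ha1
          rw [map_mul, map_inv] at h6
          have h7 : a⁻¹ (a c) = c := a.symm_apply_apply c
          rw [h7] at h6
          have h8 : c⁻¹ * a⁻¹ c = ((a⁻¹ c)⁻¹ * c)⁻¹ := by group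
          rw [h8]
          exact Q.inv_mem h6 }
    have hHG : H ≤ G := fun k hk => hk.1
    -- the conjugate of `U` by `g`
    set U' := U.map (MulAut.conj g).toMonoidHom with hU'
    have hU'fix : ∀ u ∈ U', u c = c := by
      rintro _ ⟨u, hu, rfl⟩
      show (g * u * g⁻¹) c = c
      rw [MulAut.mul_apply, MulAut.mul_apply]
      have : g⁻¹ c = z := g.symm_apply_apply z
      rw [this, h1 u hu z hz]
    have hU'H : U' ≤ H := by
      intro u hu
      refine ⟨?_, ?_⟩
      · obtain ⟨v, hv, rfl⟩ := hu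
        exact G.mul_mem (G.mul_mem hg (hUG hv)) (G.inv_mem hg)
      · rw [hU'fix u hu]
        simp
    have hU'p : IsPGroup p U' := hUp.map _
    have hcardU' : Nat.card U' = Nat.card U :=
      (Nat.card_congr (U.equivMapOfInjective _ (MulAut.conj g).injective).toEquiv).symm
    -- an element of `U` moving `c` by an element of `Q`
    obtain ⟨q, hq, hq1⟩ : ∃ q ∈ Q, q ≠ 1 := by
      by_contra hcon
      push Not at hcon
      exact hQ ((Subgroup.eq_bot_iff_forall Q).2 hcon)
    obtain ⟨u, hu, huc⟩ := h3 c hgz q (hQZ hq)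
    have hu1 : u ≠ 1 := by
      rintro rfl
      apply hq1
      have : c = c * q := huc
      exact (mul_left_cancel (a := c) (by rw [mul_one]; exact this)).symm
    have huH : u ∈ H := ⟨hUG hu, by rw [huc]; simpa using hq⟩
    -- Sylow's theorem in `H`
    have hup : IsPGroup p (Subgroup.zpowers u) := by
      refine hUp.to_le ?_
      rw [Subgroup.zpowers_le]
      exact hu
    have hzH : Subgroup.zpowers u ≤ H := by
      rw [Subgroup.zpowers_le]
      exact huH
    have h9 : IsPGroup p (U'.subgroupOf H) := hU'p.of_equiv (Subgroup.subgroupOfEquivOfLe hU'H).symm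
    obtain ⟨R₁, hR₁⟩ := h9.exists_le_sylow
    have h10 : IsPGroup p ((Subgroup.zpowers u).subgroupOf H) :=
      hup.of_equiv (Subgroup.subgroupOfEquivOfLe hzH).symm
    obtain ⟨R₂, hR₂⟩ := h10.exists_le_sylow
    obtain ⟨h, hh⟩ := MulAction.exists_smul_eq H R₁ R₂
    -- `R₁ = U'`
    have hR₁eq : ∀ x : H, x ∈ (R₁ : Subgroup H) → (x : MulAut B) ∈ U' := by
      have h11 : IsPGroup p ((R₁ : Subgroup H).map H.subtype) := R₁.isPGroup'.map _
      -- card comparison
      have h12 : Nat.card ((R₁ : Subgroup H).map H.subtype : Subgroup (MulAut B)) ≤ Nat.card U := by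
        have h13 : ((R₁ : Subgroup H).map H.subtype) ≤ G := by
          rintro _ ⟨x, -, rfl⟩
          exact hHG x.2
        have h14 : IsPGroup p (((R₁ : Subgroup H).map H.subtype).subgroupOf G) :=
          h11.of_equiv (Subgroup.subgroupOfEquivOfLe h13).symm
        obtain ⟨R₃, hR₃⟩ := h14.exists_le_sylow
        have h15 : Nat.card R₃ = Nat.card R := Nat.card_congr (Sylow.equiv R₃ R).toEquiv
        have h16 : Nat.card (R : Subgroup G) = Nat.card U := by
          rw [hR]
          exact Nat.card_congr (Subgroup.subgroupOfEquivOfLe hUG).toEquiv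
        calc Nat.card ((R₁ : Subgroup H).map H.subtype : Subgroup (MulAut B))
            = Nat.card (((R₁ : Subgroup H).map H.subtype).subgroupOf G) :=
              (Nat.card_congr (Subgroup.subgroupOfEquivOfLe h13).toEquiv).symm
          _ ≤ Nat.card (R₃ : Subgroup G) := Subgroup.card_le_of_le hR₃
          _ = Nat.card (R : Subgroup G) := h15
          _ = Nat.card U := h16
      have h17 : U' ≤ (R₁ : Subgroup H).map H.subtype := by
        intro x hx
        exact ⟨⟨x, hU'H hx⟩, hR₁ hx, rfl⟩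
      have h18 : U' = (R₁ : Subgroup H).map H.subtype :=
        Subgroup.eq_of_le_of_card_ge h17 (by rw [hcardU']; exact h12)
      intro x hx
      rw [h18]
      exact ⟨x, hx, rfl⟩
    have hu2 : (⟨u, huH⟩ : H) ∈ (R₂ : Subgroup H) := hR₂ (Subgroup.mem_zpowers u)
    rw [← hh] at hu2
    -- h⁻¹ u h ∈ R₁
    have hu3 : h⁻¹ * (⟨u, huH⟩ : H) * h ∈ (R₁ : Subgroup H) := by
      have h19 := (Subgroup.mem_pointwise_smul_iff_inv_smul_mem (a := MulAut.conj h)
        (S := (R₁ : Subgroup H)) (x := ⟨u, huH⟩)).1 hu2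
      have h20 : (MulAut.conj h)⁻¹ • (⟨u, huH⟩ : H) = h⁻¹ * (⟨u, huH⟩ : H) * h := by
        rw [← map_inv]
        show h⁻¹ * (⟨u, huH⟩ : H) * h⁻¹⁻¹ = _
        rw [inv_inv]
      rwa [h20] at h19
    have hu4 := hU'fix _ (hR₁eq _ hu3)
    have hu5 : ((h : MulAut B)⁻¹ * u * (h : MulAut B)) c = c := hu4
    rw [MulAut.mul_apply, MulAut.mul_apply] at hu5
    have hu6 : u ((h : MulAut B) c) = (h : MulAut B) c := by
      have := congrArg (h : MulAut B) hu5
      rwa [show (h : MulAut B) ((h : MulAut B)⁻¹ (u ((h : MulAut B) c))) = u ((h : MulAut B) c) from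
        (h : MulAut B).apply_symm_apply _] at this
    have hu7 := h4 u hu hu1 _ hu6
    -- `h c ∈ c Q`
    have hu8 := h.2.2
    apply hgz
    have : c = (h : MulAut B) c * (c⁻¹ * (h : MulAut B) c)⁻¹ := by group
    rw [this]
    exact Z.mul_mem hu7 (Z.inv_mem (hQZ hu8))

end Cfsg.Agent.H780
end

-- part: H780/Heis
section
/-!
# Saturated fusion systems over Heisenberg-like groups (helper780)

`S` a finite `p`-group with centre `Z` such that `[S,S] ≤ Z`, for `x ∈ S ∖ Z` the centralizer `C_S(x)` is abelian and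
`[x, S] = Z`.  A saturated system over `S` with `O_p(F) ≠ 1` is constrained.
-/

set_option autoImplicit false

universe u

namespace Cfsg.Agent.H780

open Cfsg Cfsg.FusionSystem Cfsg.Agent.H802

variable {Ω : Type u} [Group Ω] {S : Subgroup Ω}

theorem isCentric_of_stronglyClosed [Finite S] {F : FusionSystem S} {Q : Subgroup Ω}
    (hQ : F.StronglyClosed Q) (hc : centralizerIn S Q ≤ Q) : F.IsCentric Q := by
  refine ⟨hQ.1, ?_⟩
  rintro R ⟨φ, hφ, rfl⟩
  have hfQ : Finite Q := finite_of_le hQ.1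
  have h1 : φ.range = Q := range_eq_of_mapsTo hφ (fun x => hQ.2 Q le_rfl φ hφ x)
  rw [h1]
  exact hc

/-- `Aut_S(P)` normal in `Aut_F(P)` gives the normal Sylow subgroup. -/
theorem exists_normal_sylow_of_normal [Finite S] {p : ℕ} [Fact p.Prime] (hS : IsPGroup p S)
    {F : FusionSystem S} (hF : F.IsSaturated p) {P : Subgroup Ω} (hP : F.IsFullyNormalized P)
    (hn : ∀ g ∈ F.autGroup P, ∀ u ∈ autInducedBy S P, g * u * g⁻¹ ∈ autInducedBy S P) :
    ∃ R : Sylow p ↥(F.autGroup P), (R : Subgroup ↥(F.autGroup P)).Normal := by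
  obtain ⟨-, R, hR⟩ := isFullyAutomized_of_isFullyNormalized hS hF hP
  refine ⟨R, ⟨fun u hu g => ?_⟩⟩
  rw [hR] at hu ⊢
  exact hn g g.2 u hu

/-- The hypotheses on the group. -/
structure IsHeis (S : Subgroup Ω) : Prop where
  comm : ∀ s ∈ S, ∀ t ∈ S, t⁻¹ * (s * t * s⁻¹) ∈ centralizerIn S S
  abel : ∀ x ∈ S, x ∉ centralizerIn S S → ∀ a ∈ S, ∀ b ∈ S, a * x = x * a → b * x = x * b → a * b = b * a
  surj : ∀ x ∈ S, x ∉ centralizerIn S S → ∀ z ∈ centralizerIn S S, ∃ s ∈ S, s * x * s⁻¹ = x * z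

theorem mem_centralizerIn_self {x : Ω} : x ∈ centralizerIn S S ↔ x ∈ S ∧ ∀ y ∈ S, y * x = x * y :=
  ⟨fun h => ⟨h.1, fun y hy => Subgroup.mem_centralizer_iff.1 h.2 y hy⟩,
    fun h => ⟨h.1, Subgroup.mem_centralizer_iff.2 fun y hy => h.2 y hy⟩⟩

theorem mem_centralizerIn {P : Subgroup Ω} {x : Ω} :
    x ∈ centralizerIn S P ↔ x ∈ S ∧ ∀ y ∈ P, y * x = x * y :=
  ⟨fun h => ⟨h.1, fun y hy => Subgroup.mem_centralizer_iff.1 h.2 y hy⟩,
    fun h => ⟨h.1, Subgroup.mem_centralizer_iff.2 fun y hy => h.2 y hy⟩⟩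

/-- If `P` is not abelian then `C_S(P) = Z(S)`. -/
theorem IsHeis.centralizer_le (h : IsHeis S) {P : Subgroup Ω} (hP : P ≤ S) {a b : Ω} (ha : a ∈ P)
    (hb : b ∈ P) (hab : a * b ≠ b * a) : centralizerIn S P ≤ centralizerIn S S := by
  intro x hx
  by_contra hxZ
  have h1 := mem_centralizerIn.1 hx
  exact hab (h.abel x h1.1 hxZ a (hP ha) b (hP hb) (h1.2 a ha) (h1.2 b hb))

/-- A subgroup containing the centre is normal in `S`. -/
theorem IsHeis.conj_mem (h : IsHeis S) {P : Subgroup Ω} (hP : P ≤ S) (hZ : centralizerIn S S ≤ P)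
    {s x : Ω} (hs : s ∈ S) (hx : x ∈ P) : s * x * s⁻¹ ∈ P := by
  have h1 := h.comm s hs x (hP hx)
  have h2 : s * x * s⁻¹ = x * (x⁻¹ * (s * x * s⁻¹)) := by group
  rw [h2]
  exact P.mul_mem hx (hZ h1)

/-- `S` is normal when a nontrivial subgroup of the centre is strongly closed. -/
theorem IsHeis.isNormal_top (h : IsHeis S) [Finite S] {p : ℕ} [Fact p.Prime] (hS : IsPGroup p S)
    {F : FusionSystem S} (hF : F.IsSaturated p) {Q : Subgroup Ω} (hQ : F.StronglyClosed Q)
    (hQ1 : Q ≠ ⊥) (hQZ : Q ≤ centralizerIn S S) : F.IsNormal S := by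
  classical
  set Z := centralizerIn S S with hZdef
  have hZS : Z ≤ S := inf_le_left
  refine H794.isNormal_of_p_closed hS hF (fun P hPn hPc _ => ?_)
  apply exists_normal_sylow_of_normal hS hF hPn
  have hPS : P ≤ S := hPn.1
  have hfP : Finite P := finite_of_le hPS
  have hCP : centralizerIn S P ≤ P := hPc.2 P (isConj_refl F hPS)
  have hZP : Z ≤ P := fun z hz => hCP (mem_centralizerIn.2 ⟨hz.1, fun y hy =>
    (mem_centralizerIn_self.1 hz).2 y (hPS hy)⟩)
  -- `U` acts trivially on `Z`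
  have hU1 : ∀ u ∈ autInducedBy S P, ∀ z : P, (z : Ω) ∈ Z → u z = z := by
    intro u hu z hz
    obtain ⟨g, hg, hgu⟩ := (mem_autInducedBy_iff S P u).1 hu
    apply Subtype.ext
    rw [hgu, (mem_centralizerIn_self.1 hz).2 g hg]
    group
  have hU2 : ∀ u ∈ autInducedBy S P, ∀ b : P, ((b⁻¹ * u b : P) : Ω) ∈ Z := by
    intro u hu b
    obtain ⟨g, hg, hgu⟩ := (mem_autInducedBy_iff S P u).1 hu
    show (b : Ω)⁻¹ * (u b : P) ∈ Z
    rw [hgu]
    exact h.comm g hg b (hPS b.2)
  have hUG : autInducedBy S P ≤ F.autGroup P := autInducedBy_le_autGroup F hPS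
  obtain ⟨-, R, hR⟩ := isFullyAutomized_of_isFullyNormalized hS hF hPn
  by_cases hab : ∃ a ∈ P, ∃ b ∈ P, a * b ≠ b * a
  · -- `P` nonabelian
    obtain ⟨a, ha, b, hb, hab⟩ := hab
    have hCZ := h.centralizer_le hPS ha hb hab
    -- `Z(P) = Z`
    have hcen : ∀ x : P, x ∈ Subgroup.center P ↔ (x : Ω) ∈ Z := by
      intro x
      rw [Subgroup.mem_center_iff]
      constructor
      · intro hx
        exact hCZ (mem_centralizerIn.2 ⟨hPS x.2, fun y hy => congrArg Subtype.val (hx ⟨y, hy⟩)⟩)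
      · intro hx y
        exact Subtype.ext ((mem_centralizerIn_self.1 hx).2 y (hPS y.2))
    have hchar : ∀ (g : MulAut P) (x : P), (x : Ω) ∈ Z → ((g x : P) : Ω) ∈ Z := by
      intro g x hx
      rw [← hcen] at hx ⊢
      rw [Subgroup.mem_center_iff] at hx ⊢
      intro y
      have h5 := congrArg g (hx (g.symm y))
      rwa [map_mul, map_mul, MulEquiv.apply_symm_apply] at h5
    -- the group of automorphisms centralizing `Z` and `P/Z`
    let K : Subgroup (MulAut P) :=
      { carrier := {k | k ∈ F.autGroup P ∧ (∀ z : P, (z : Ω) ∈ Z → k z = z) ∧ ∀ b : P, ((b⁻¹ * k b : P) : Ω) ∈ Z}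
        one_mem' := ⟨Subgroup.one_mem _, fun z _ => rfl, fun b => by simp⟩
        mul_mem' := by
          rintro a b ⟨ha, ha1, ha2⟩ ⟨hb, hb1, hb2⟩
          refine ⟨Subgroup.mul_mem _ ha hb, fun z hz => ?_, fun x => ?_⟩
          · rw [MulAut.mul_apply, hb1 z hz, ha1 z hz]
          · rw [MulAut.mul_apply]
            have h5 : x⁻¹ * a (b x) = (x⁻¹ * a x) * (a (x⁻¹ * b x)) := by
              rw [map_mul, map_inv]; group
            rw [h5, ha1 _ (hb2 x)]
            exact Z.mul_mem (ha2 x) (hb2 x)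
        inv_mem' := by
          rintro a ⟨ha, ha1, ha2⟩
          have h5 : ∀ z : P, (z : Ω) ∈ Z → a⁻¹ z = z := by
            intro z hz
            have := ha1 z hz
            calc a⁻¹ z = a⁻¹ (a z) := by rw [this]
              _ = z := a.symm_apply_apply z
          refine ⟨Subgroup.inv_mem _ ha, h5, fun x => ?_⟩
          have h6 : a (a⁻¹ x) = x := a.apply_symm_apply x
          have h7 := ha2 (a⁻¹ x)
          rw [h6] at h7
          have h8 : x⁻¹ * a⁻¹ x = ((a⁻¹ x)⁻¹ * x)⁻¹ := by group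
          rw [h8]
          exact Z.inv_mem h7 }
    have hZk : ∃ k : ℕ, ∀ z ∈ Z.subgroupOf P, z ^ p ^ k = 1 := by
      have hP' : IsPGroup p P := hS.to_le hPS
      obtain ⟨k, hk⟩ := (IsPGroup.iff_card).1 hP'
      refine ⟨k, fun z _ => ?_⟩
      rw [← hk]
      exact pow_card_eq_one'
    have hKp : IsPGroup p K := isPGroup_of_stabilizes (Z.subgroupOf P) hZk K
      (fun u hu z hz => hu.2.1 z hz) (fun u hu b => hu.2.2 b)
    have hKU : K ≤ autInducedBy S P := by
      have h5 : IsPGroup p (K.subgroupOf (F.autGroup P)) :=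
        hKp.of_equiv (Subgroup.subgroupOfEquivOfLe (H := K) (K := F.autGroup P) (fun k hk => hk.1)).symm
      have h6 : (R : Subgroup (F.autGroup P)) ≤ K.subgroupOf (F.autGroup P) := by
        rw [hR]
        intro x hx
        exact ⟨x.2, fun z hz => hU1 x hx z hz, fun b => hU2 x hx b⟩
      have h7 := R.is_maximal' h5 h6
      intro x hx
      have h8 : (⟨x, hx.1⟩ : F.autGroup P) ∈ K.subgroupOf (F.autGroup P) := hx
      rw [h7, hR] at h8
      exact h8
    intro g hg u hu
    apply hKU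
    refine ⟨Subgroup.mul_mem _ (Subgroup.mul_mem _ hg (hUG hu)) (Subgroup.inv_mem _ hg), fun z hz => ?_, fun b => ?_⟩
    · rw [MulAut.mul_apply, MulAut.mul_apply, hU1 u hu _ (hchar g⁻¹ z hz)]
      exact g.apply_symm_apply z
    · have h5 := hchar g _ (hU2 u hu (g⁻¹ b))
      rw [map_mul, map_inv] at h5
      have h6 : g (g⁻¹ b) = b := g.apply_symm_apply b
      rw [h6] at h5
      exact h5
  · -- `P` abelian
    push Not at hab
    by_cases hPZ : P ≤ Z
    · -- `P = S`
      have hPS' : P = S := by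
        apply le_antisymm hPS
        intro s hs
        exact hCP (mem_centralizerIn.2 ⟨hs, fun y hy => ((mem_centralizerIn_self.1 (hPZ hy)).2 s hs).symm⟩)
      intro g _ u hu
      obtain ⟨s, hs, hsu⟩ := (mem_autInducedBy_iff S P u).1 hu
      rw [← hPS'] at hs
      rw [mem_autInducedBy_iff]
      refine ⟨(g ⟨s, hs⟩ : P), hPS (g ⟨s, hs⟩).2, fun x => ?_⟩
      rw [MulAut.mul_apply, MulAut.mul_apply]
      have h5 : u (g⁻¹ x) = ⟨s, hs⟩ * (g⁻¹ x) * ⟨s, hs⟩⁻¹ := Subtype.ext (hsu _)
      rw [h5, map_mul, map_mul, map_inv]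
      have h6 : g (g⁻¹ x) = x := g.apply_symm_apply x
      rw [h6]
      rfl
    · -- `P = C_S(x)` for every `x ∈ P ∖ Z`
      have hcent : ∀ x ∈ P, x ∉ Z → ∀ s ∈ S, s * x = x * s → s ∈ P := by
        intro x hx hxZ s hs hsx
        apply hCP
        refine mem_centralizerIn.2 ⟨hs, fun y hy => ?_⟩
        exact h.abel x (hPS hx) hxZ y (hPS hy) s hs (hab y hy x hx) hsx
      refine normal_of_invariant (p := p) (F.autGroup P) (autInducedBy S P) hUG ⟨R, hR⟩
        (Z.subgroupOf P) (Q.subgroupOf P) ?_ ?_ ?_ ?_ (fun u hu z hz => hU1 u hu z hz)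
        (fun u hu b => hU2 u hu b) ?_ ?_
      · exact (hS.to_le hPS).to_subgroup _
      · exact fun x hx => hQZ hx
      · intro hb
        apply hQ1
        rw [Subgroup.eq_bot_iff_forall]
        intro x hx
        have h5 : (⟨x, hZP (hQZ hx)⟩ : P) ∈ Q.subgroupOf P := hx
        rw [hb, Subgroup.mem_bot] at h5
        exact congrArg Subtype.val h5
      · intro g hg x hx
        have h5 := hQ.2 Q le_rfl ((P.subtype.comp g.toMonoidHom).comp
          (Subgroup.inclusion (hQZ.trans hZP))) (restrict_mem ((mem_autGroup_iff F hPS g).1 hg) _)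
          ⟨x, hx⟩
        exact h5
      · intro b hb z hz
        obtain ⟨s, hs, hsx⟩ := h.surj b (hPS b.2) hb z hz
        have hsN : s ∈ Subgroup.normalizer (P : Set Ω) := by
          rw [Subgroup.mem_normalizer_iff]
          intro y
          constructor
          · exact fun hy => h.conj_mem hPS hZP hs hy
          · intro hy
            have h5 := h.conj_mem hPS hZP (S.inv_mem hs) hy
            have h6 : s⁻¹ * (s * y * s⁻¹) * s⁻¹⁻¹ = y := by group
            rwa [h6] at h5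
        obtain ⟨α, hα⟩ := exists_conjAut hsN
        refine ⟨α, (mem_autInducedBy_iff S P α).2 ⟨s, hs, hα⟩, Subtype.ext ?_⟩
        rw [hα]
        exact hsx
      · intro u hu hu1 b hb
        by_contra hbZ
        obtain ⟨s, hs, hsu⟩ := (mem_autInducedBy_iff S P u).1 hu
        have h5 : s * (b : Ω) = b * s := by
          have h6 := hsu b
          rw [hb] at h6
          calc s * (b : Ω) = (s * (b : Ω) * s⁻¹) * s := by group
            _ = b * s := by rw [← h6]
        have h7 := hcent b b.2 hbZ s hs h5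
        apply hu1
        apply MulEquiv.ext
        intro x
        apply Subtype.ext
        rw [hsu, hab s h7 x x.2]
        simp

/-- **A saturated fusion system over a Heisenberg-like group with nontrivial core is constrained.** -/
theorem IsHeis.exists_normal_centric (h : IsHeis S) [Finite S] {p : ℕ} [Fact p.Prime]
    (hS : IsPGroup p S) {F : FusionSystem S} (hF : F.IsSaturated p) (hcore : F.core ≠ ⊥) :
    ∃ Q : Subgroup Ω, F.IsNormal Q ∧ F.IsCentric Q := by
  classical
  have hQn : F.IsNormal F.core := H759.isNormal_core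
  have hQs := H759.IsNormal.stronglyClosed hQn
  set Q := F.core with hQdef
  by_cases hQZ : Q ≤ centralizerIn S S
  · have h1 := h.isNormal_top hS hF hQs hcore hQZ
    exact ⟨S, h1, isCentric_of_stronglyClosed (H759.IsNormal.stronglyClosed h1) inf_le_left⟩
  · obtain ⟨x, hxQ, hxZ⟩ := SetLike.not_le_iff_exists.1 hQZ
    have hQS : Q ≤ S := hQs.1
    by_cases hab : ∃ a ∈ Q, ∃ b ∈ Q, a * b ≠ b * a
    · obtain ⟨a, ha, b, hb, hab⟩ := hab
      refine ⟨Q, hQn, isCentric_of_stronglyClosed hQs ?_⟩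
      refine (h.centralizer_le hQS ha hb hab).trans ?_
      intro z hz
      obtain ⟨s, hs, hsx⟩ := h.surj x (hQS hxQ) hxZ z hz
      have h1 : s * x * s⁻¹ ∈ Q := by
        have := hQs.2 Q le_rfl (conjHom Q s) (F.conj_mem hQS hs) ⟨x, hxQ⟩
        exact this
      rw [hsx] at h1
      exact (Q.mul_mem_cancel_left hxQ).1 h1
    · push Not at hab
      -- `B = C_S(Q)`
      have hQB : Q ≤ centralizerIn S Q := fun y hy => mem_centralizerIn.2 ⟨hQS hy, fun w hw => hab w hw y hy⟩
      have hBab : ∀ a ∈ centralizerIn S Q, ∀ b ∈ centralizerIn S Q, a * b = b * a := by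
        intro a ha b hb
        have ha' := mem_centralizerIn.1 ha
        have hb' := mem_centralizerIn.1 hb
        exact h.abel x (hQS hxQ) hxZ a ha'.1 b hb'.1 (ha'.2 x hxQ).symm (hb'.2 x hxQ).symm
      have hBs : F.StronglyClosed (Q ⊔ centralizerIn S Q) := S5255.result p hS F hF Q hQs
      rw [sup_eq_right.2 hQB] at hBs
      refine ⟨centralizerIn S Q, H759.isNormal_of_abelian hS hF hBs ?_, isCentric_of_stronglyClosed hBs ?_⟩
      · rw [Subgroup.commutator_eq_bot_iff_le_centralizer]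
        intro a ha
        rw [Subgroup.mem_centralizer_iff]
        intro b hb
        exact hBab b hb a ha
      · intro y hy
        have h1 := mem_centralizerIn.1 hy
        exact mem_centralizerIn.2 ⟨h1.1, fun w hw => h1.2 w (hQB hw)⟩

end Cfsg.Agent.H780
end
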