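import Cfsg.Agent.H780.QGood
import Cfsg.Agent.H757.Sf.FactG
import Cfsg.Agent.H745.Q.Gen_mg
set_option linter.all false

/-! # S5176 (A6): `CaseA.trans` and `CaseA.gen` (helper780; plan: tools/plans/S5176.md, section 4) -/
set_option autoImplicit false
set_option linter.unusedSectionVars false

namespace Cfsg.Agent.H784.Q
open Cfsg Cfsg.FusionSystem Cfsg.Agent.H752 Cfsg.Agent.H784.SF

universe u

variable {Ω : Type u} [Group Ω] {S : Subgroup Ω}
variable {F : FusionSystem S} {R : Subgroup Ω} {a b z r : Ω} {m : ℕ}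

section
variable {t c d k : Ω} {β : Ω → Ω} (h : CaseA F R a b z r m t c d k β) [Finite S]
include h

/-- an involution acting on `R` as `a ↦ a⁻¹`, `b ↦ b a^even` commutes with an element of `R` outside `C_S(t)`. -/
lemma CaseA.exists_rho {t₂ : Ω} (hta : t₂ * a = a⁻¹ * t₂) {l : ℤ} (hl : t₂⁻¹ * b * t₂ = b * a ^ (l + l)) :
    ∃ ρ ∈ S, ρ * t₂ = t₂ * ρ ∧ ρ ∉ CS S t := by
  have hbinv : b * a⁻¹ = a * b := by
    have := h.sit.qr.baz (-1)
    rw [neg_neg, zpow_one, zpow_neg_one, mul_inv_eq_iff_eq_mul] at this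
    exact this
  -- `ρ = b a^l`
  have hρR : b * a ^ l ∈ R := mul_mem h.sit.qr.bR (Subgroup.zpow_mem _ h.sit.qr.aR l)
  have hρS := h.sit.RS hρR
  refine ⟨b * a ^ l, hρS, ?_, ?_⟩
  · -- `κ = t₂ ρ⁻¹` centralizes `R`
    have hκa : (t₂ * (b * a ^ l)⁻¹) * a = a * (t₂ * (b * a ^ l)⁻¹) := by
      have h1 : (b * a ^ l)⁻¹ * a = a⁻¹ * (b * a ^ l)⁻¹ := by
        have h2 : (b * a ^ l) * a⁻¹ = a * (b * a ^ l) := by
          calc (b * a ^ l) * a⁻¹ = (b * a⁻¹) * a ^ l := by group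
            _ = a * (b * a ^ l) := by rw [hbinv]; group
        calc (b * a ^ l)⁻¹ * a = (b * a ^ l)⁻¹ * (a * (b * a ^ l)) * (b * a ^ l)⁻¹ := by group
          _ = (b * a ^ l)⁻¹ * ((b * a ^ l) * a⁻¹) * (b * a ^ l)⁻¹ := by rw [h2]
          _ = a⁻¹ * (b * a ^ l)⁻¹ := by group
      have h3 : t₂ * a⁻¹ = a * t₂ := by
        calc t₂ * a⁻¹ = a * (a⁻¹ * t₂) * a⁻¹ := by group
          _ = a * (t₂ * a) * a⁻¹ := by rw [hta]
          _ = a * t₂ := by group
      calc t₂ * (b * a ^ l)⁻¹ * a = t₂ * ((b * a ^ l)⁻¹ * a) := by group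
        _ = (t₂ * a⁻¹) * (b * a ^ l)⁻¹ := by rw [h1]; group
        _ = _ := by rw [h3]; group
    have hκb : (t₂ * (b * a ^ l)⁻¹) * b = b * (t₂ * (b * a ^ l)⁻¹) := by
      have h1 : (b * a ^ l)⁻¹ * b * (b * a ^ l) = b * a ^ (l + l) := by
        have h2 : a ^ (-l) = b * a ^ l * b⁻¹ := (h.sit.qr.baz l).symm
        calc (b * a ^ l)⁻¹ * b * (b * a ^ l) = a ^ (-l) * b * a ^ l := by group
          _ = b * a ^ l * b⁻¹ * b * a ^ l := by rw [h2]
          _ = b * a ^ (l + l) := by rw [zpow_add]; group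
      have h2 : t₂⁻¹ * b * t₂ = (b * a ^ l)⁻¹ * b * (b * a ^ l) := by rw [hl, h1]
      calc t₂ * (b * a ^ l)⁻¹ * b = t₂ * ((b * a ^ l)⁻¹ * b * (b * a ^ l)) * (b * a ^ l)⁻¹ := by group
        _ = t₂ * (t₂⁻¹ * b * t₂) * (b * a ^ l)⁻¹ := by rw [h2]
        _ = _ := by group
    have hκ := h.sit.qr.cen_of hκa hκb _ hρR
    calc b * a ^ l * t₂ = b * a ^ l * (t₂ * (b * a ^ l)⁻¹) * (b * a ^ l) := by group
      _ = t₂ * (b * a ^ l) := by rw [← hκ]; group
  · intro hC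
    have h1 := (mem_CS.1 hC).2
    have h2 : a ^ l * t = t * a ^ l := by
      have hc : Commute a t := h.ta.symm
      exact (hc.zpow_left l).eq
    have h3 : b * t = t * b := by
      have h4 : b * a ^ l * t = b * t * a ^ l := by rw [mul_assoc, h2]; group
      rw [h4, ← mul_assoc] at h1
      exact mul_right_cancel h1
    have h5 := h.bt
    rw [h3, mul_inv_cancel_right] at h5
    exact h.sit.qr.z1 (by rwa [left_eq_mul] at h5)

/-- Every conjugate of `z` is sent to `z` by a composite of maps of `F` fixing `z` and restrictions of `β`. -/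
theorem CaseA.trans_gen (X : Subgroup Ω → (Ω → Ω) → Prop)
    (hres : ∀ P Q f, X P f → Q ≤ P → X Q f)
    (hcomp : ∀ P Q f g, X P f → X Q g → (∀ x ∈ P, f x ∈ Q) → X P (fun x => g (f x)))
    (hC : ∀ P f, Mp F P f → z ∈ P → f z = z → X P f) (hβ : X (CS S t) β) :
    ∀ t₁, CE F z t₁ → t₁ ≠ z → ∃ f : Ω → Ω, Mp F (CS S t₁) f ∧ X (CS S t₁) f ∧ f t₁ = z := by
  obtain ⟨e, he, hmul⟩ := h.sit.exists_e
  intro t₁ ht₁ hne
  induction hn : Nat.card S - Nat.card (CS S t₁) using Nat.strong_induction_on generalizing t₁ with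
  | _ n ih =>
  -- the fully centralized conjugate
  obtain ⟨ψ, β₁, hψ, hψz, v, hψC⟩ := h.sit.factG ht₁ hne
  have ht₁C : t₁ ∈ CS S t₁ := by
    obtain ⟨f, hf, rfl⟩ := ht₁
    exact mem_CS.2 ⟨hf.mem (Subgroup.mem_zpowers z), rfl⟩
  have hzC : z ∈ CS S t₁ := mem_CS.2 ⟨h.sit.zS, (h.sit.z_centr t₁ (mem_CS.1 ht₁C).1).symm⟩
  have hψ₁ : X (CS S t₁) ψ := hC _ _ hψ hzC hψz
  have hcard : Nat.card (CS S t₁) ≤ Nat.card (CS S (ψ t₁)) := by
    have hfin : Finite (CS S (ψ t₁)) := H802.finite_of_le inf_le_left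
    refine Nat.card_le_card_of_injective (fun x : CS S t₁ => (⟨ψ x, hψC x x.2⟩ : CS S (ψ t₁))) ?_
    intro x y hxy
    exact Subtype.ext (hψ.inj x.2 y.2 (congrArg Subtype.val hxy))
  -- it is enough to treat `ψ t₁`
  suffices hsuf : ∃ f : Ω → Ω, Mp F (CS S (ψ t₁)) f ∧ X (CS S (ψ t₁)) f ∧ f (ψ t₁) = z by
    obtain ⟨f, hf, hf₁, hfz⟩ := hsuf
    exact ⟨fun x => f (ψ x), hψ.comp hf hψC, hcomp _ _ _ _ hψ₁ hf₁ hψC, hfz⟩
  obtain ⟨t₂, ht₂⟩ : ∃ t₂, t₂ = ψ t₁ := ⟨_, rfl⟩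
  rw [← ht₂] at v hcard ⊢
  have ht₂S : t₂ ∈ S := by rw [ht₂]; exact hψ.mem ht₁C
  have ht₂C : t₂ ∈ CS S t₂ := mem_CS.2 ⟨ht₂S, rfl⟩
  rcases h.sit.type_cases v with hA | hSD
  · -- type A
    rcases h.typeA v hA with rfl | h2
    · refine ⟨fun x => β (β x), h.v.mp.comp h.v.mp h.v.maps, hcomp _ _ _ _ hβ hβ h.v.maps, ?_⟩
      show β (β t₂) = z
      have hm := h.v.mp
      rw [h.v.βt, hm.mul (h.MC h.tM) (h.MC h.zM), h.v.βt, h.v.βz, h.tzt, mul_assoc, h.tt, mul_one]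
    · have hCeq : CS S t₂ = CS S t := by
        ext x
        rw [mem_CS, mem_CS, h2]
        refine and_congr_right fun hxS => ?_
        have h3 := h.sit.z_centr x hxS
        constructor
        · intro h4
          have h5 : x * t * z = t * x * z := by
            calc x * t * z = x * (t * z) := by group
              _ = t * z * x := h4
              _ = t * (z * x) := by group
              _ = t * x * z := by rw [← h3]; group
          exact mul_right_cancel h5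
        · intro h4
          calc x * (t * z) = (x * t) * z := by group
            _ = t * (x * z) := by rw [h4]; group
            _ = t * z * x := by rw [h3]; group
      rw [hCeq]
      refine ⟨β, h.v.mp, hβ, ?_⟩
      have hm := h.v.mp
      rw [h2, hm.mul (h.MC h.tM) (h.MC h.zM), h.v.βt, h.v.βz, h.tzt, mul_assoc, h.tt, mul_one]
  · -- type SD
    obtain ⟨j', hj'odd, hj'⟩ := hSD.ex
    have hodd : Odd (j' : ℤ) := by exact_mod_cast hj'odd
    have hj : t₂⁻¹ * b * t₂ = b * a ^ (j' : ℤ) := by rw [zpow_natCast]; exact hj'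
    have ht₂2 : t₂ * t₂ = 1 := h.sit.tt v.cj
    have htt := h.sd_t ht₂S hSD.ta hodd hj ht₂2
    have hCle := h.sd_C v hSD.ta htt
    obtain ⟨f, hf, hfX, hfC, hfM, hfe⟩ : ∃ f : Ω → Ω, Mp F (CS S t) f ∧ X (CS S t) f ∧ (∀ x ∈ CS S t, f x ∈ CS S t) ∧
        (∀ x ∈ CS S t, x⁻¹ * f x ∈ Subgroup.zpowers a ⊔ Subgroup.zpowers d) ∧ e (f t₂) = 0 := by
      rcases h.good he hmul (hCle ht₂C) hodd hj with h1 | h1
      · exact ⟨β, h.v.mp, hβ, h.v.maps, fun x hx => h.β_M hx, h1⟩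
      · refine ⟨fun x => β (β x), h.v.mp.comp h.v.mp h.v.maps, hcomp _ _ _ _ hβ hβ h.v.maps,
          fun x hx => h.v.maps _ (h.v.maps _ hx), fun x hx => ?_, h1⟩
        have h2 := mul_mem (h.β_M hx) (h.β_M (h.v.maps x hx))
        have h3 : x⁻¹ * β x * ((β x)⁻¹ * β (β x)) = x⁻¹ * β (β x) := by group
        rwa [h3] at h2
    have hfmaps : ∀ x ∈ CS S t₂, f x ∈ CS S (f t₂) := by
      intro x hx
      refine mem_CS.2 ⟨hf.mem (hCle hx), ?_⟩
      rw [← hf.mul (hCle hx) (hCle ht₂C), (mem_CS.1 hx).2, hf.mul (hCle ht₂C) (hCle hx)]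
    -- `t₃ = f t₂`
    have ht₃S : f t₂ ∈ S := hf.mem (hCle ht₂C)
    have hta : f t₂ * a = a⁻¹ * f t₂ := by
      have h2 := h.M_comm (hfM t₂ (hCle ht₂C)) h.aM
      calc f t₂ * a = t₂ * (t₂⁻¹ * f t₂ * a) := by group
        _ = (t₂ * a) * (t₂⁻¹ * f t₂) := by rw [h2]; group
        _ = a⁻¹ * f t₂ := by rw [hSD.ta]; group
    obtain ⟨i, hi⟩ := h.sit.b_conj ht₃S
    have hiev : Even i := by
      rw [he _ _ hi] at hfe
      exact even_iff_two_dvd.2 (by exact_mod_cast (ZMod.intCast_zmod_eq_zero_iff_dvd _ 2).1 hfe)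
    obtain ⟨l, rfl⟩ := hiev
    obtain ⟨ρ, hρS, hρc, hρC⟩ := h.exists_rho hta hi
    have hcard2 : Nat.card (CS S t₂) < Nat.card (CS S (f t₂)) := by
      have hfin : Finite (CS S t₂) := H802.finite_of_le inf_le_left
      have hfin' : Finite (CS S (f t₂)) := H802.finite_of_le inf_le_left
      have := Fintype.ofFinite (CS S t₂)
      have := Fintype.ofFinite (CS S (f t₂))
      rw [Nat.card_eq_fintype_card, Nat.card_eq_fintype_card]
      refine Fintype.card_lt_of_injective_not_surjective (fun x : CS S t₂ => (⟨f x, hfmaps x x.2⟩ : CS S (f t₂))) ?_ ?_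
      · intro x y hxy
        exact Subtype.ext (hf.inj (hCle x.2) (hCle y.2) (congrArg Subtype.val hxy))
      · intro hsurj
        obtain ⟨x, hx⟩ := hsurj ⟨ρ, mem_CS.2 ⟨hρS, hρc⟩⟩
        apply hρC
        have h3 : f x = ρ := congrArg Subtype.val hx
        rw [← h3]
        exact hfC _ (hCle x.2)
    have hcard3 : Nat.card (CS S (f t₂)) ≤ Nat.card S :=
      Nat.card_le_card_of_injective _ (Subgroup.inclusion_injective (inf_le_left : CS S (f t₂) ≤ S))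
    have hne3 : f t₂ ≠ z := by
      intro h2
      rw [h2, h.sit.qr.az] at hta
      have h6 : a⁻¹ = a := (mul_right_cancel hta).symm
      apply h.sit.qr.a2
      nth_rw 1 [← h6]
      rw [inv_mul_cancel]
    obtain ⟨g, hg, hg₁, hgz⟩ := ih (Nat.card S - Nat.card (CS S (f t₂))) (by omega) (f t₂)
      (CE.trans v.cj (CE.of_mp hf (hCle ht₂C))) hne3 rfl
    exact ⟨fun x => g (f x), (hf.res hCle).comp hg hfmaps, hcomp _ _ _ _ (hres _ _ _ hfX hCle) hg₁ hfmaps, hgz⟩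

/-- the same with a fusion system `G`. -/
theorem CaseA.transG (G : FusionSystem S)
    (hC : ∀ (P : Subgroup Ω) (f : Ω → Ω), Mp F P f → z ∈ P → f z = z → Mp G P f) (hβ : Mp G (CS S t) β) :
    ∀ t₁, CE F z t₁ → t₁ ≠ z → ∃ f : Ω → Ω, Mp F (CS S t₁) f ∧ Mp G (CS S t₁) f ∧ f t₁ = z :=
  h.trans_gen (fun P f => Mp G P f) (fun _ _ _ hf hQ => hf.res hQ) (fun _ _ _ _ hf hg hm => hf.comp hg hm) hC hβ

end

end Cfsg.Agent.H784.Q
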