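import Cfsg.Agent.H757.Sf.Basic
import Cfsg.Agent.H285.SF.Defs
import Cfsg.Agent.H759.FusBasic
set_option linter.all false

-- part: H784/Q/Bas
section
/-! # S5176: auxiliary lemmas on cyclic 2-groups and on `R` -/
set_option autoImplicit false

namespace Cfsg.Agent.H784.Q
open Cfsg Cfsg.FusionSystem Cfsg.Agent.H752 Cfsg.Agent.H784.SF

universe u

variable {Ω : Type u} [Group Ω] {S : Subgroup Ω}

/-- the involution of a cyclic 2-group. -/
lemma invol_unique {g y : Ω} {m : ℕ} (hm : 1 ≤ m) (hg : orderOf g = 2 ^ m) (hy : y ∈ Subgroup.zpowers g) (h1 : y ≠ 1)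
    (h2 : y * y = 1) : y = g ^ 2 ^ (m - 1) := by
  classical
  have hpos : 0 < orderOf g := by rw [hg]; positivity
  have hfin : IsOfFinOrder g := orderOf_pos_iff.mp hpos
  rw [hfin.mem_zpowers_iff_mem_range_orderOf] at hy
  obtain ⟨i, hi, rfl⟩ := Finset.mem_image.mp hy
  rw [Finset.mem_range, hg] at hi
  have h3 : g ^ (2 * i) = 1 := by rw [two_mul, pow_add]; exact h2
  have h4 := orderOf_dvd_of_pow_eq_one h3
  rw [hg] at h4
  obtain ⟨m, rfl⟩ : ∃ m', m = m' + 1 := ⟨m - 1, by omega⟩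
  simp only [Nat.add_sub_cancel]
  rw [pow_succ, mul_comm _ 2] at h4 hi
  obtain ⟨j, hj⟩ := Nat.dvd_of_mul_dvd_mul_left (by norm_num) h4
  have hj0 : j ≠ 0 := by
    rintro rfl
    rw [mul_zero] at hj
    subst hj
    exact h1 (pow_zero g)
  have hj1 : j = 1 := by
    by_contra hne
    have : 2 ≤ j := by omega
    have : 2 ^ m * 2 ≤ 2 ^ m * j := Nat.mul_le_mul_left _ this
    omega
  rw [hj, hj1, mul_one]

/-- a power of a nontrivial element of 2-power order is an involution. -/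
lemma exists_invol {x : Ω} {j : ℕ} (hx : x ^ 2 ^ j = 1) (h1 : x ≠ 1) : ∃ n : ℕ, x ^ n ≠ 1 ∧ x ^ n * x ^ n = 1 := by
  induction j with
  | zero => exact absurd (by simpa using hx) h1
  | succ j ih =>
    by_cases h : x ^ 2 ^ j = 1
    · exact ih h
    · refine ⟨2 ^ j, h, ?_⟩
      rw [← pow_add, ← two_mul, mul_comm, ← pow_succ]
      exact hx

lemma pow_order (hS : IsPGroup 2 S) {x : Ω} (hx : x ∈ S) : ∃ j : ℕ, x ^ 2 ^ j = 1 := by
  obtain ⟨j, hj⟩ := hS ⟨x, hx⟩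
  exact ⟨j, congrArg Subtype.val hj⟩

/-- elements of cyclic 2-groups with distinct involutions generate groups with trivial intersection. -/
lemma disj_of_invol {g h : Ω} {m n : ℕ} (hm : 1 ≤ m) (hn : 1 ≤ n) (hg : orderOf g = 2 ^ m) (hh : orderOf h = 2 ^ n)
    (hne : g ^ 2 ^ (m - 1) ≠ h ^ 2 ^ (n - 1)) {x : Ω} (hx : x ∈ Subgroup.zpowers g) (hx' : x ∈ Subgroup.zpowers h) : x = 1 := by
  by_contra h1
  have hx2 : x ^ 2 ^ m = 1 := by
    obtain ⟨i, rfl⟩ := hx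
    show (g ^ i) ^ 2 ^ m = 1
    rw [← zpow_natCast, ← zpow_mul, mul_comm, zpow_mul, zpow_natCast, ← hg, pow_orderOf_eq_one, one_zpow]
  obtain ⟨n', h2, h3⟩ := exists_invol hx2 h1
  have e1 := invol_unique hm hg (Subgroup.pow_mem _ hx n') h2 h3
  have e2 := invol_unique hn hh (Subgroup.pow_mem _ hx' n') h2 h3
  exact hne (e1.symm.trans e2)

lemma order_of_half {g : Ω} {m : ℕ} (hm : 1 ≤ m) (h1 : g ^ 2 ^ (m - 1) ≠ 1) (h2 : g ^ 2 ^ m = 1) : orderOf g = 2 ^ m := by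
  obtain ⟨m, rfl⟩ : ∃ m', m = m' + 1 := ⟨m - 1, by omega⟩
  exact orderOf_eq_prime_pow h1 h2

section
variable {R : Subgroup Ω} {a b z r : Ω} {m : ℕ} (q : QR R a b z r m)
include q

lemma QR.z1 : z ≠ 1 := by
  rw [q.hz]
  intro h
  have := orderOf_dvd_of_pow_eq_one h
  rw [q.oa] at this
  have h1 := Nat.le_of_dvd (by positivity) this
  have h2 : 2 ^ (m - 1) < 2 ^ m := Nat.pow_lt_pow_right (by norm_num) (by have := q.m3; omega)
  omega

lemma QR.za : z * a = a * z := by rw [q.hz, ← pow_succ, ← pow_succ']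

lemma QR.zA : z ∈ Subgroup.zpowers a := by rw [q.hz]; exact Subgroup.pow_mem _ (Subgroup.mem_zpowers a) _

lemma QR.rA : r ∈ Subgroup.zpowers a := by rw [q.hr]; exact Subgroup.pow_mem _ (Subgroup.mem_zpowers a) _

lemma QR.bai (i : ℕ) : b * a ^ i = (a ^ i)⁻¹ * b := by
  induction i with
  | zero => simp
  | succ i ih => rw [pow_succ, ← mul_assoc, ih, mul_assoc, q.ba, mul_inv_rev, ← mul_assoc, ← mul_inv_rev, ← mul_inv_rev,
      ← pow_succ, ← pow_succ']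

lemma QR.inv_b {x : Ω} (hx : x ∈ Subgroup.zpowers a) : b * x * b⁻¹ = x⁻¹ := by
  obtain ⟨i, rfl⟩ := hx
  have h1 : b * a * b⁻¹ = a⁻¹ := by rw [q.ba, mul_inv_cancel_right]
  show b * a ^ i * b⁻¹ = _
  rw [← conj_zpow, h1, inv_zpow]

lemma QR.zb : z * b = b * z := by
  have := q.inv_b q.zA
  rw [q.zinv] at this
  exact (mul_inv_eq_iff_eq_mul.mp this).symm

lemma QR.rinv : r⁻¹ = r * z := by
  rw [inv_eq_iff_mul_eq_one, ← mul_assoc, q.rr, q.zz]

lemma QR.sq_bai (i : ℕ) : (b * a ^ i) * (b * a ^ i) = z := by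
  calc (b * a ^ i) * (b * a ^ i) = (b * a ^ i * b⁻¹) * (b * b) * a ^ i := by group
    _ = (a ^ i)⁻¹ * z * a ^ i := by rw [q.inv_b (Subgroup.pow_mem _ (Subgroup.mem_zpowers a) i), q.bb]
    _ = z := by
      have : z * a ^ i = a ^ i * z := by
        have h : Commute z a := q.za
        exact (h.pow_right i).eq
      rw [mul_assoc, this, inv_mul_cancel_left]

/-- elements commuting with `a` and `b` centralize `R`. -/
lemma QR.cen_of {s : Ω} (ha : s * a = a * s) (hb : s * b = b * s) : ∀ x ∈ R, s * x = x * s := by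
  intro x hx
  have hca : Commute s a := ha
  have hcb : Commute s b := hb
  obtain ⟨i, rfl | rfl⟩ := q.gen x hx
  · exact (hca.pow_right i).eq
  · exact (hcb.mul_right (hca.pow_right i)).eq

/-- a conjugate of `b` by an element centralizing `a` (and normalizing `R`) is `b a^j`. -/
lemma QR.conj_b {s : Ω} (ha : s * a = a * s) (hs : s⁻¹ * b * s ∈ R) : ∃ j : ℕ, s⁻¹ * b * s = b * a ^ j := by
  obtain ⟨i, h | h⟩ := q.gen _ hs
  · exfalso
    apply q.bA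
    have h1 : b = s * a ^ i * s⁻¹ := by rw [← h]; group
    have h2 : s * a ^ i * s⁻¹ = a ^ i := by
      have hca : Commute s a := ha
      rw [(hca.pow_right i).eq, mul_inv_cancel_right]
    rw [h1, h2]
    exact Subgroup.pow_mem _ (Subgroup.mem_zpowers a) i
  · exact ⟨i, h⟩

/-- elements of order at least 8 are in `⟨a⟩`. -/
lemma QR.mem_A {x : Ω} (hx : x ∈ R) (h : x * x * (x * x) ≠ 1) : x ∈ Subgroup.zpowers a := by
  obtain ⟨i, rfl | rfl⟩ := q.gen x hx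
  · exact Subgroup.pow_mem _ (Subgroup.mem_zpowers a) i
  · exact absurd (by rw [q.sq_bai, q.zz]) h

end

lemma pow_four_eq (x : Ω) : x ^ 4 = x * x * (x * x) := by
  rw [show (4 : ℕ) = 2 * 2 from rfl, pow_mul, pow_two, pow_two]

end Cfsg.Agent.H784.Q
end

-- part: H784/Q/CaseADef
section
/-! # S5176, case A: the structures (plan: tools/plans/S5176.md, section 4) -/
set_option autoImplicit false

namespace Cfsg.Agent.H784.Q
open Cfsg Cfsg.FusionSystem Cfsg.Agent.H752 Cfsg.Agent.H784.SF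

universe u

variable {Ω : Type u} [Group Ω] {S : Subgroup Ω}

/-- (A1)–(A5). `M = ⟨a⟩ × ⟨d⟩`, `K₀ = ⟨k⟩ = C_K(c)`, `V = ⟨z, t⟩`. -/
structure CaseA (F : FusionSystem S) (R : Subgroup Ω) (a b z r : Ω) (m : ℕ) (t c d k : Ω) (β : Ω → Ω) : Prop where
  sit : Sit F R a b z r m
  v : VD F z t β
  tc : t = r * c
  cK : c ∈ centralizerIn S R
  cc : c * c = z
  dC : d ∈ CS S t
  od : orderOf d = 2 ^ m
  da : d * a = a * d
  /-- `b⁻¹ d b = b d b⁻¹ = d a⁻¹` -/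
  bd : b * d = d * a⁻¹ * b
  disj : Subgroup.zpowers a ⊓ Subgroup.zpowers d = ⊥
  /-- `t` is the involution of `⟨d⟩` -/
  td : t = d ^ 2 ^ (m - 1)
  /-- `β⟨a⟩ = ⟨d⟩` -/
  βa : ∃ i : ℕ, Odd i ∧ β a = d ^ i
  hk : k = d * d * a⁻¹
  kK : k ∈ centralizerIn S R
  ok : orderOf k = 2 ^ m
  /-- `C_K(c) = ⟨k⟩` -/
  K₀ : ∀ x ∈ centralizerIn S R, x * c = c * x → x ∈ Subgroup.zpowers k
  ck : c ∈ Subgroup.zpowers k
  /-- `M` is `β`-invariant -/
  Mβ : ∀ x ∈ Subgroup.zpowers a ⊔ Subgroup.zpowers d, β x ∈ Subgroup.zpowers a ⊔ Subgroup.zpowers d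
  /-- `C_S(t) ∩ C_S(a) = M` -/
  cM : ∀ s ∈ CS S t, s * a = a * s → s ∈ Subgroup.zpowers a ⊔ Subgroup.zpowers d
  /-- `C_S(t)` acts on `M` by power maps -/
  pow : ∀ s ∈ CS S t, ∃ i : ℕ, ∀ x ∈ Subgroup.zpowers a ⊔ Subgroup.zpowers d, s * x * s⁻¹ = x ^ i
  /-- `V = ⟨z, t⟩` is normal in `S` -/
  Vn : ∀ s ∈ S, s * t * s⁻¹ = t ∨ s * t * s⁻¹ = t * z
  /-- the structure of `K` -/
  K : (∀ x ∈ centralizerIn S R, x ∈ Subgroup.zpowers k) ∨
    ∃ w ∈ centralizerIn S R, w * k = k⁻¹ * w ∧ w * w = z ∧ w ∉ Subgroup.zpowers k ∧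
      ∀ x ∈ centralizerIn S R, ∃ i : ℕ, x = k ^ i ∨ x = w * k ^ i

/-- (A8): `S = M⟨b, w⟩` has order `4·(2^m)²`, `K = ⟨k, w⟩` is quaternion. -/
structure CaseA8 (F : FusionSystem S) (R : Subgroup Ω) (a b z r : Ω) (m : ℕ) (t c d k w : Ω) (β : Ω → Ω) : Prop
    extends CaseA F R a b z r m t c d k β where
  wK : w ∈ centralizerIn S R
  wk : w * k = k⁻¹ * w
  ww : w * w = z
  wn : w ∉ Subgroup.zpowers k
  Kgen : ∀ x ∈ centralizerIn S R, ∃ i : ℕ, x = k ^ i ∨ x = w * k ^ i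
  gen : ∀ s ∈ S, ∃ x ∈ Subgroup.zpowers a ⊔ Subgroup.zpowers d, s = x ∨ s = x * b ∨ s = x * w ∨ s = x * (b * w)

end Cfsg.Agent.H784.Q
end

-- part: H784/Q/CaseA1
section
/-! # S5176, case A: (A1) -/
set_option autoImplicit false
set_option linter.unusedSectionVars false

namespace Cfsg.Agent.H784.Q
open Cfsg Cfsg.FusionSystem Cfsg.Agent.H752 Cfsg.Agent.H784.SF

universe u

variable {Ω : Type u} [Group Ω] {S : Subgroup Ω} [Finite S] {F : FusionSystem S} {R : Subgroup Ω} {a b z r : Ω} {m : ℕ}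

lemma mem_CS {S : Subgroup Ω} {s t : Ω} : s ∈ CS S t ↔ s ∈ S ∧ s * t = t * s := mem_cent

lemma mem_K {S R : Subgroup Ω} {x : Ω} : x ∈ centralizerIn S R ↔ x ∈ S ∧ ∀ y ∈ R, x * y = y * x := by
  constructor
  · rintro ⟨h1, h2⟩
    exact ⟨h1, fun y hy => (Subgroup.mem_centralizer_iff.mp h2 y hy).symm⟩
  · rintro ⟨h1, h2⟩
    exact ⟨h1, Subgroup.mem_centralizer_iff.mpr fun y hy => (h2 y hy).symm⟩

lemma mp_pow {P : Subgroup Ω} {f : Ω → Ω} (hf : Mp F P f) {x : Ω} (hx : x ∈ P) (n : ℕ) : f (x ^ n) = f x ^ n := hf.pow hx n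

lemma Mp.conj' {P : Subgroup Ω} {f : Ω → Ω} (hf : Mp F P f) {x y : Ω} (hx : x ∈ P) (hy : y ∈ P) :
    f (x * y * x⁻¹) = f x * f y * (f x)⁻¹ := by
  rw [hf.mul (P.mul_mem hx hy) (P.inv_mem hx), hf.mul hx hy, hf.inv hx]

lemma mp_orderOf {P : Subgroup Ω} {f : Ω → Ω} (hf : Mp F P f) {x : Ω} (hx : x ∈ P) : orderOf (f x) = orderOf x := by
  obtain ⟨φ, hφ, h1⟩ := hf
  have h2 : f x = φ ⟨x, hx⟩ := (h1 x hx).symm
  rw [h2, orderOf_injective φ (F.injective_of_mem hφ)]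
  exact Subgroup.orderOf_mk x hx

/-- conjugates of elements of `K`. -/
lemma Sit.Kn (h : Sit F R a b z r m) {s x : Ω} (hs : s ∈ S) (hx : x ∈ centralizerIn S R) : s * x * s⁻¹ ∈ centralizerIn S R := by
  obtain ⟨h1, h2⟩ := mem_K.mp hx
  refine mem_K.mpr ⟨S.mul_mem (S.mul_mem hs h1) (S.inv_mem hs), fun y hy => ?_⟩
  have h3 := h.Rn _ (S.inv_mem hs) y hy
  rw [inv_inv] at h3
  have h4 := h2 _ h3
  calc s * x * s⁻¹ * y = s * (x * (s⁻¹ * y * s)) * s⁻¹ := by group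
    _ = s * ((s⁻¹ * y * s) * x) * s⁻¹ := by rw [h4]
    _ = y * (s * x * s⁻¹) := by group

section
variable (h : Sit F R a b z r m) {t : Ω} {β : Ω → Ω} (v : VD F z t β)
include h v

lemma VD.tS : t ∈ S := by
  obtain ⟨f, hf, rfl⟩ := v.cj
  exact hf.mem (Subgroup.mem_zpowers z)

lemma VD.tC : t ∈ CS S t := mem_CS.mpr ⟨VD.tS h v, rfl⟩

lemma VD.zS : z ∈ S := h.RS h.qr.zR

lemma VD.zC : z ∈ CS S t := mem_CS.mpr ⟨VD.zS h v, (h.z_centr t (VD.tS h v)).symm⟩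

lemma VD.tt : t * t = 1 := by
  have h1 := v.mp.mul (VD.zC h v) (VD.zC h v)
  rw [h.qr.zz, v.mp.one, v.βz] at h1
  exact h1.symm

lemma VD.zt : z * t = t * z := (h.z_centr t (VD.tS h v)).symm

lemma VD.t1 : t ≠ 1 := by
  intro h1
  have h2 := v.βz
  rw [h1] at h2
  exact h.qr.z1 (v.mp.inj (VD.zC h v) (one_mem _) (by rw [h2, v.mp.one]))

/-- `β (t z) = z`. -/
lemma VD.βtz : β (t * z) = z := by
  rw [v.mp.mul (VD.tC h v) (VD.zC h v), v.βt, v.βz, mul_assoc, VD.zt h v, ← mul_assoc, VD.tt h v, one_mul]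

lemma VD.ββz : β (β z) = t * z := by rw [v.βz, v.βt]

lemma VD.β3z : β (β (β z)) = z := by rw [v.βz, v.βt, VD.βtz h v]

lemma VD.t_notK : t ∉ centralizerIn S R := fun h1 => v.ne (h.factA v.cj h1)

lemma VD.cjtz : CE F z (t * z) := by
  have h1 := CE.of_mp v.mp (VD.tC h v)
  rw [v.βt] at h1
  exact v.cj.trans h1

lemma VD.tzne : t * z ≠ z := fun h1 => VD.t1 h v (by simpa using h1)

lemma VD.tz_notK : t * z ∉ centralizerIn S R := fun h1 => VD.tzne h v (h.factA (VD.cjtz h v) h1)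

/-- `a ∈ C_S(t)` in type A etc.: elements of `⟨a⟩`. -/
lemma zpowers_le_CS (ht : TyA S R a z r t) : Subgroup.zpowers a ≤ CS S t := by
  rw [Subgroup.zpowers_le]
  exact mem_CS.mpr ⟨h.RS h.qr.aR, ht.ta.symm⟩

end

/-- Data of (A1). -/
structure A1 (F : FusionSystem S) (R : Subgroup Ω) (a b z r : Ω) (m : ℕ) (t : Ω) (β : Ω → Ω) (c d : Ω) : Prop where
  sit : Sit F R a b z r m
  v : VD F z t β
  ty : TyA S R a z r t
  cK : c ∈ centralizerIn S R
  tc : t = r * c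
  cc : c * c = z
  dC : d ∈ CS S t
  od : orderOf d = 2 ^ m
  dB : d ∈ Subgroup.zpowers (β a)
  Bd : β a ∈ Subgroup.zpowers d
  bd : d⁻¹ * b * d = b * a

section
variable (h : Sit F R a b z r m) {t : Ω} {β : Ω → Ω} (v : VD F z t β) (ht : TyA S R a z r t)
include h v ht

lemma aC : a ∈ CS S t := zpowers_le_CS h v ht (Subgroup.mem_zpowers a)

lemma An {s x : Ω} (hs : s ∈ CS S t) (hx : x ∈ Subgroup.zpowers a) : s * x * s⁻¹ ∈ Subgroup.zpowers a := by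
  have hx' := zpowers_le_CS h v ht hx
  have h1 : s * x * s⁻¹ ∈ CS S t := mul_mem (mul_mem hs hx') (inv_mem hs)
  have h2 : s * x * s⁻¹ ∈ R := h.Rn s (mem_CS.mp hs).1 x (Subgroup.zpowers_le.mpr h.qr.aR hx)
  exact ht.cen _ h2 (mem_CS.mp h1).2.symm

lemma β_zpowers {P : Subgroup Ω} {f : Ω → Ω} (hf : Mp F P f) {g x : Ω} (hg : g ∈ P) (hx : x ∈ Subgroup.zpowers g) :
    f x ∈ Subgroup.zpowers (f g) := by
  obtain ⟨n, rfl⟩ := hx
  rw [mp_zpow hf hg]
  exact Subgroup.zpow_mem _ (Subgroup.mem_zpowers _) n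

/-- `B₁ = ⟨β a⟩` is normal in `C_S(t)`. -/
lemma Bn {s x : Ω} (hs : s ∈ CS S t) (hx : x ∈ Subgroup.zpowers (β a)) : s * x * s⁻¹ ∈ Subgroup.zpowers (β a) := by
  obtain ⟨s', hs', rfl⟩ := v.surj s hs
  obtain ⟨n, rfl⟩ := hx
  have ha := aC h v ht
  have h1 : (β a) ^ n = β (a ^ n) := (mp_zpow v.mp ha n).symm
  show β s' * (β a) ^ n * (β s')⁻¹ ∈ _
  rw [h1, ← Mp.conj' v.mp hs' (Subgroup.zpow_mem _ ha n)]
  exact β_zpowers h v ht v.mp ha (An h v ht hs' (Subgroup.zpow_mem _ (Subgroup.mem_zpowers a) n))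

lemma Bn2 {s x : Ω} (hs : s ∈ CS S t) (hx : x ∈ Subgroup.zpowers (β (β a))) : s * x * s⁻¹ ∈ Subgroup.zpowers (β (β a)) := by
  obtain ⟨s', hs', rfl⟩ := v.surj s hs
  obtain ⟨n, rfl⟩ := hx
  have ha := v.maps _ (aC h v ht)
  have h1 : (β (β a)) ^ n = β ((β a) ^ n) := (mp_zpow v.mp ha n).symm
  show β s' * (β (β a)) ^ n * (β s')⁻¹ ∈ _
  rw [h1, ← Mp.conj' v.mp hs' (Subgroup.zpow_mem _ ha n)]
  exact β_zpowers h v ht v.mp ha (Bn h v ht hs' (Subgroup.zpow_mem _ (Subgroup.mem_zpowers _) n))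

lemma ord1 : orderOf (β a) = 2 ^ m := by rw [mp_orderOf v.mp (aC h v ht), h.qr.oa]

lemma ord2 : orderOf (β (β a)) = 2 ^ m := by
  rw [mp_orderOf v.mp (v.maps _ (aC h v ht)), ord1 h v ht]

lemma inv1 : (β a) ^ 2 ^ (m - 1) = t := by
  rw [← mp_pow v.mp (aC h v ht), ← h.qr.hz, v.βz]

lemma inv2 : (β (β a)) ^ 2 ^ (m - 1) = t * z := by
  rw [← mp_pow v.mp (v.maps _ (aC h v ht)), inv1 h v ht, v.βt]

lemma m1 : 1 ≤ m := by have := h.qr.m3; omega

lemma AB {x : Ω} (hx : x ∈ Subgroup.zpowers a) (hx' : x ∈ Subgroup.zpowers (β a)) : x = 1 :=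
  disj_of_invol (m1 h v ht) (m1 h v ht) h.qr.oa (ord1 h v ht) (by rw [inv1 h v ht, ← h.qr.hz]; exact v.ne.symm) hx hx'

lemma B1K {x : Ω} (hx : x ∈ Subgroup.zpowers (β a)) (hx' : x ∈ centralizerIn S R) : x = 1 := by
  by_contra h1
  have hxS : x ∈ S := (mem_K.mp hx').1
  obtain ⟨j, hj⟩ := pow_order h.hS hxS
  obtain ⟨n, h2, h3⟩ := exists_invol hj h1
  have e1 := invol_unique (m1 h v ht) (ord1 h v ht) (Subgroup.pow_mem _ hx n) h2 h3
  rw [inv1 h v ht] at e1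
  exact VD.t_notK h v (e1 ▸ Subgroup.pow_mem _ hx' n)

lemma B2K {x : Ω} (hx : x ∈ Subgroup.zpowers (β (β a))) (hx' : x ∈ centralizerIn S R) : x = 1 := by
  by_contra h1
  have hxS : x ∈ S := (mem_K.mp hx').1
  obtain ⟨j, hj⟩ := pow_order h.hS hxS
  obtain ⟨n, h2, h3⟩ := exists_invol hj h1
  have e1 := invol_unique (m1 h v ht) (ord2 h v ht) (Subgroup.pow_mem _ hx n) h2 h3
  rw [inv2 h v ht] at e1
  exact VD.tz_notK h v (e1 ▸ Subgroup.pow_mem _ hx' n)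

lemma comm1 : a * β a = β a * a := by
  have ha := aC h v ht
  have hb := v.maps _ ha
  have h1 : a * β a * a⁻¹ * (β a)⁻¹ ∈ Subgroup.zpowers (β a) :=
    mul_mem (Bn h v ht ha (Subgroup.mem_zpowers _)) (inv_mem (Subgroup.mem_zpowers _))
  have h2 : a * (β a * a⁻¹ * (β a)⁻¹) ∈ Subgroup.zpowers a :=
    mul_mem (Subgroup.mem_zpowers a) (An h v ht hb (inv_mem (Subgroup.mem_zpowers a)))
  have h3 : a * (β a * a⁻¹ * (β a)⁻¹) = a * β a * a⁻¹ * (β a)⁻¹ := by group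
  rw [h3] at h2
  have h4 := AB h v ht h2 h1
  have h5 : a * β a = a * β a * a⁻¹ * (β a)⁻¹ * (β a * a) := by group
  rw [h5, h4, one_mul]

lemma comm2 : β a * β (β a) = β (β a) * β a := by
  have ha := aC h v ht
  have h1 := comm1 h v ht
  have h2 := congrArg β h1
  rwa [v.mp.mul ha (v.maps _ ha), v.mp.mul (v.maps _ ha) ha] at h2

/-- `β³ a` generates `⟨a⟩`. -/
lemma b3 : β (β (β a)) ∈ Subgroup.zpowers a := by
  have ha := aC h v ht
  have h1 : Mp F (CS S t) (fun x => β (β (β x))) := (v.mp.comp v.mp v.maps).comp v.mp (fun x hx => v.maps _ (v.maps _ hx))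
  have h2 := h.factC h1 (VD.zC h v) (VD.β3z h v) a h.qr.aR ha
  exact ht.cen _ h2 (mem_CS.mp (v.maps _ (v.maps _ (v.maps _ ha)))).2.symm

lemma zpowers_b3 : Subgroup.zpowers (β (β (β a))) = Subgroup.zpowers a := by
  have ho : orderOf (β (β (β a))) = 2 ^ m := by rw [mp_orderOf v.mp (v.maps _ (v.maps _ (aC h v ht))), ord2 h v ht]
  have hle : Subgroup.zpowers (β (β (β a))) ≤ Subgroup.zpowers a := Subgroup.zpowers_le.mpr (b3 h v ht)
  haveI : Finite (Subgroup.zpowers a) := by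
    have : IsOfFinOrder a := by rw [← orderOf_pos_iff, h.qr.oa]; positivity
    exact this.finite_zpowers.to_subtype
  exact Subgroup.eq_of_le_of_card_ge hle (by rw [Nat.card_zpowers, Nat.card_zpowers, ho, h.qr.oa])

lemma comm3 : a * β (β a) = β (β a) * a := by
  have ha := aC h v ht
  have h1 := comm2 h v ht
  have h2 := congrArg β h1
  rw [v.mp.mul (v.maps _ ha) (v.maps _ (v.maps _ ha)), v.mp.mul (v.maps _ (v.maps _ ha)) (v.maps _ ha)] at h2
  have h3 : a ∈ Subgroup.zpowers (β (β (β a))) := by rw [zpowers_b3 h v ht]; exact Subgroup.mem_zpowers a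
  obtain ⟨n, hn⟩ := h3
  have h4 : Commute (β (β (β a))) (β (β a)) := h2.symm
  have h5 := h4.zpow_left n
  change (β (β (β a))) ^ n = a at hn
  rw [hn] at h5
  exact h5.eq

/-- (A1): the generator `d` of `B₁`. -/
theorem exists_A1 : ∃ c d, A1 F R a b z r m t β c d := by
  obtain ⟨c, hcK, htc, hcc⟩ := ht.ex
  have ha := aC h v ht
  have hβ := v.maps _ ha
  have hβS := (mem_CS.mp hβ).1
  have hc1 : (β a) * a = a * β a := (comm1 h v ht).symm
  obtain ⟨j, hj⟩ := h.qr.conj_b hc1 (by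
    have := h.Rn _ (S.inv_mem hβS) b h.qr.bR
    rwa [inv_inv] at this)
  -- `(β a)^{-n} b (β a)^n = b a^{jn}`
  have hpow : ∀ n : ℕ, ((β a) ^ n)⁻¹ * b * (β a) ^ n = b * a ^ (j * n) := by
    intro n
    induction n with
    | zero => simp
    | succ n ih =>
      have hca : Commute (a ^ (j * n)) (β a) := ((show Commute (β a) a from hc1).pow_right _).symm
      calc ((β a) ^ (n + 1))⁻¹ * b * (β a) ^ (n + 1) = (β a)⁻¹ * (((β a) ^ n)⁻¹ * b * (β a) ^ n) * β a := by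
            rw [pow_succ]; group
        _ = (β a)⁻¹ * b * (a ^ (j * n) * β a) := by rw [ih]; group
        _ = ((β a)⁻¹ * b * β a) * a ^ (j * n) := by rw [hca.eq]; group
        _ = b * a ^ (j * (n + 1)) := by rw [hj, mul_assoc, ← pow_add]; ring_nf
  -- `j` is odd
  have hjodd : Odd j := by
    rw [← Nat.not_even_iff_odd]
    rintro ⟨i, hi⟩
    have h1 := hpow (2 ^ (m - 1))
    have h2 : a ^ (j * 2 ^ (m - 1)) = 1 := by
      rw [← orderOf_dvd_iff_pow_eq_one, h.qr.oa, hi, ← two_mul, mul_comm 2 i, mul_assoc, ← pow_succ', Nat.sub_add_cancel (m1 h v ht)]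
      exact Dvd.intro_left i rfl
    rw [h2, mul_one, inv1 h v ht] at h1
    apply VD.t_notK h v
    refine mem_K.mpr ⟨VD.tS h v, h.qr.cen_of ht.ta ?_⟩
    calc t * b = t * (t⁻¹ * b * t) := by rw [h1]
      _ = b * t := by group
  -- inverse of `j`
  obtain ⟨n, hn⟩ : ∃ n : ℕ, j * n ≡ 1 [MOD 2 ^ m] := by
    have hco : Nat.Coprime j (2 ^ m) := (Nat.Coprime.pow_right m (Nat.coprime_two_right.mpr hjodd))
    obtain ⟨n, hn⟩ := Nat.exists_mul_mod_eq_one_of_coprime hco (by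
      have := h.qr.m3
      calc 1 < 2 ^ 1 := by norm_num
        _ ≤ 2 ^ m := Nat.pow_le_pow_right (by norm_num) (by omega))
    refine ⟨n, ?_⟩
    unfold Nat.ModEq
    rw [hn.2, Nat.mod_eq_of_lt]
    calc 1 < 2 ^ 1 := by norm_num
      _ ≤ 2 ^ m := Nat.pow_le_pow_right (by norm_num) (by have := h.qr.m3; omega)
  have hnodd : Odd n := by
    rw [← Nat.not_even_iff_odd]
    rintro ⟨i, hi⟩
    have h2 : 2 ∣ 2 ^ m := dvd_pow_self 2 (by have := h.qr.m3; omega)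
    have h3 := hn.of_dvd h2
    rw [hi] at h3
    unfold Nat.ModEq at h3
    have h4 : j * (i + i) = 2 * (j * i) := by ring
    omega
  have hco : Nat.Coprime n (orderOf (β a)) := by
    rw [ord1 h v ht]; exact Nat.Coprime.pow_right m (Nat.coprime_two_right.mpr hnodd)
  have hod : orderOf ((β a) ^ n) = 2 ^ m := by rw [Nat.Coprime.orderOf_pow hco.symm, ord1 h v ht]
  refine ⟨c, (β a) ^ n, h, v, ht, hcK, htc, hcc, Subgroup.pow_mem _ hβ n, hod, Subgroup.pow_mem _ (Subgroup.mem_zpowers _) n, ?_, ?_⟩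
  · have hle : Subgroup.zpowers ((β a) ^ n) ≤ Subgroup.zpowers (β a) := Subgroup.zpowers_le.mpr (Subgroup.pow_mem _ (Subgroup.mem_zpowers _) n)
    haveI : Finite (Subgroup.zpowers (β a)) := by
      have : IsOfFinOrder (β a) := by rw [← orderOf_pos_iff, ord1 h v ht]; positivity
      exact this.finite_zpowers.to_subtype
    have := Subgroup.eq_of_le_of_card_ge hle (by rw [Nat.card_zpowers, Nat.card_zpowers, hod, ord1 h v ht])
    rw [this]; exact Subgroup.mem_zpowers _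
  · rw [hpow n]
    congr 1
    rw [show a ^ (j * n) = a ^ 1 from pow_eq_pow_iff_modEq.mpr (by rw [h.qr.oa]; exact hn), pow_one]

end

end Cfsg.Agent.H784.Q
end

-- part: H784/Q/CaseA2
section
/-! # S5176, case A: (A2)–(A3) -/
set_option autoImplicit false
set_option linter.unusedSectionVars false

namespace Cfsg.Agent.H784.Q
open Cfsg Cfsg.FusionSystem Cfsg.Agent.H752 Cfsg.Agent.H784.SF

universe u

variable {Ω : Type u} [Group Ω] {S : Subgroup Ω} [Finite S] {F : FusionSystem S} {R : Subgroup Ω} {a b z r : Ω} {m : ℕ}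

/-- the centralizer of `A, β A, β² A` in `C_S(t)`. -/
def MM (S : Subgroup Ω) (a t : Ω) (β : Ω → Ω) : Subgroup Ω := CS S t ⊓ Subgroup.centralizer {a, β a, β (β a)}

lemma mem_MM {t x : Ω} {β : Ω → Ω} : x ∈ MM S a t β ↔ x ∈ CS S t ∧ x * a = a * x ∧ x * β a = β a * x ∧ x * β (β a) = β (β a) * x := by
  constructor
  · rintro ⟨h1, h2⟩
    have h3 := Subgroup.mem_centralizer_iff.mp h2
    exact ⟨h1, (h3 a (by simp)).symm, (h3 (β a) (by simp)).symm, (h3 (β (β a)) (by simp)).symm⟩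
  · rintro ⟨h1, h2, h3, h4⟩
    refine ⟨h1, Subgroup.mem_centralizer_iff.mpr ?_⟩
    rintro y (rfl | rfl | rfl)
    · exact h2.symm
    · exact h3.symm
    · exact h4.symm

section
variable {t : Ω} {β : Ω → Ω} {c d : Ω} (D : A1 F R a b z r m t β c d)
include D

lemma A1.βMM {x : Ω} (hx : x ∈ MM S a t β) : β x ∈ MM S a t β := by
  obtain ⟨h1, h2, h3, h4⟩ := mem_MM.mp hx
  have ha := aC D.sit D.v D.ty
  have hb := D.v.maps _ ha
  have hbb := D.v.maps _ hb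
  refine mem_MM.mpr ⟨D.v.maps _ h1, ?_, ?_, ?_⟩
  · have e1 := congrArg β h4
    rw [D.v.mp.mul h1 hbb, D.v.mp.mul hbb h1] at e1
    have e2 : a ∈ Subgroup.zpowers (β (β (β a))) := by rw [zpowers_b3 D.sit D.v D.ty]; exact Subgroup.mem_zpowers a
    obtain ⟨n, hn⟩ := e2
    change (β (β (β a))) ^ n = a at hn
    have e3 : Commute (β x) (β (β (β a))) := e1
    have e4 := e3.zpow_right n
    rw [hn] at e4
    exact e4.eq
  · have e1 := congrArg β h2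
    rwa [D.v.mp.mul h1 ha, D.v.mp.mul ha h1] at e1
  · have e1 := congrArg β h3
    rwa [D.v.mp.mul h1 hb, D.v.mp.mul hb h1] at e1

lemma A1.B1_le : Subgroup.zpowers (β a) ≤ MM S a t β := by
  rw [Subgroup.zpowers_le]
  exact mem_MM.mpr ⟨D.v.maps _ (aC D.sit D.v D.ty), (comm1 D.sit D.v D.ty).symm, rfl, comm2 D.sit D.v D.ty⟩

lemma A1.A_le : Subgroup.zpowers a ≤ MM S a t β := by
  rw [Subgroup.zpowers_le]
  exact mem_MM.mpr ⟨aC D.sit D.v D.ty, rfl, comm1 D.sit D.v D.ty, comm3 D.sit D.v D.ty⟩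

lemma A1.d_mem : d ∈ MM S a t β := D.B1_le D.dB

/-- elements of `K` commuting with `c` are in `C_S(t)`. -/
lemma A1.K0_CS {x : Ω} (hx : x ∈ centralizerIn S R) (hc : x * c = c * x) : x ∈ CS S t := by
  obtain ⟨h1, h2⟩ := mem_K.mp hx
  refine mem_CS.mpr ⟨h1, ?_⟩
  rw [D.tc, ← mul_assoc, h2 r D.sit.qr.rR, mul_assoc, hc, mul_assoc]

lemma A1.cc_of_CS {x : Ω} (hx : x ∈ centralizerIn S R) (hc : x ∈ CS S t) : x * c = c * x := by
  obtain ⟨h1, h2⟩ := mem_K.mp hx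
  have h3 := (mem_CS.mp hc).2
  rw [D.tc, ← mul_assoc, h2 r D.sit.qr.rR, mul_assoc, mul_assoc] at h3
  exact mul_left_cancel h3

/-- `K₀ = K ∩ C_S(t)` is in `M`. -/
lemma A1.K0_le {x : Ω} (hx : x ∈ centralizerIn S R) (hc : x ∈ CS S t) : x ∈ MM S a t β := by
  have ha := aC D.sit D.v D.ty
  have hb := D.v.maps _ ha
  have hbb := D.v.maps _ hb
  refine mem_MM.mpr ⟨hc, (mem_K.mp hx).2 a D.sit.qr.aR, ?_, ?_⟩
  · have e1 : x * β a * x⁻¹ * (β a)⁻¹ ∈ Subgroup.zpowers (β a) :=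
      mul_mem (Bn D.sit D.v D.ty hc (Subgroup.mem_zpowers _)) (inv_mem (Subgroup.mem_zpowers _))
    have e2 : x * (β a * x⁻¹ * (β a)⁻¹) ∈ centralizerIn S R := mul_mem hx (D.sit.Kn (mem_CS.mp hb).1 (inv_mem hx))
    have e3 : x * (β a * x⁻¹ * (β a)⁻¹) = x * β a * x⁻¹ * (β a)⁻¹ := by group
    rw [e3] at e2
    have e4 := B1K D.sit D.v D.ty e1 e2
    have e5 : x * β a = x * β a * x⁻¹ * (β a)⁻¹ * (β a * x) := by group
    rw [e5, e4, one_mul]
  · have e1 : x * β (β a) * x⁻¹ * (β (β a))⁻¹ ∈ Subgroup.zpowers (β (β a)) :=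
      mul_mem (Bn2 D.sit D.v D.ty hc (Subgroup.mem_zpowers _)) (inv_mem (Subgroup.mem_zpowers _))
    have e2 : x * (β (β a) * x⁻¹ * (β (β a))⁻¹) ∈ centralizerIn S R := mul_mem hx (D.sit.Kn (mem_CS.mp hbb).1 (inv_mem hx))
    have e3 : x * (β (β a) * x⁻¹ * (β (β a))⁻¹) = x * β (β a) * x⁻¹ * (β (β a))⁻¹ := by group
    rw [e3] at e2
    have e4 := B2K D.sit D.v D.ty e1 e2
    have e5 : x * β (β a) = x * β (β a) * x⁻¹ * (β (β a))⁻¹ * (β (β a) * x) := by group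
    rw [e5, e4, one_mul]

lemma A1.da : d * a = a * d := (mem_MM.mp D.d_mem).2.1

lemma A1.conj_b_pow (n : ℕ) : (d ^ n)⁻¹ * b * d ^ n = b * a ^ n := by
  induction n with
  | zero => simp
  | succ n ih =>
    have hca : Commute (a ^ n) d := ((show Commute d a from D.da).pow_right _).symm
    calc (d ^ (n + 1))⁻¹ * b * d ^ (n + 1) = d⁻¹ * ((d ^ n)⁻¹ * b * d ^ n) * d := by rw [pow_succ]; group
      _ = d⁻¹ * b * (a ^ n * d) := by rw [ih]; group
      _ = (d⁻¹ * b * d) * a ^ n := by rw [hca.eq]; group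
      _ = b * a ^ (n + 1) := by rw [D.bd, mul_assoc, ← pow_succ']

/-- an element of `S` centralizing `a` is in `K ⟨d⟩`. -/
lemma A1.cA {s : Ω} (hs : s ∈ S) (ha : s * a = a * s) : ∃ j : ℕ, s * (d ^ j)⁻¹ ∈ centralizerIn S R := by
  obtain ⟨j, hj⟩ := D.sit.qr.conj_b ha (by
    have := D.sit.Rn _ (S.inv_mem hs) b D.sit.qr.bR
    rwa [inv_inv] at this)
  refine ⟨j, mem_K.mpr ⟨S.mul_mem hs (S.inv_mem (S.pow_mem (mem_CS.mp D.dC).1 j)), D.sit.qr.cen_of ?_ ?_⟩⟩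
  · have h1 : Commute s a := ha
    have h2 : Commute (d ^ j)⁻¹ a := ((show Commute d a from D.da).pow_left j).inv_left
    exact (h1.mul_left h2).eq
  · have h1 := D.conj_b_pow j
    have h2 : b * s = s * (b * a ^ j) := by rw [← hj]; group
    have h3 : b * d ^ j = d ^ j * (b * a ^ j) := by rw [← h1]; group
    have h4 : s⁻¹ * b * s = (d ^ j)⁻¹ * b * d ^ j := by rw [hj, h1]
    have h5 : s * (d ^ j)⁻¹ * b = s * ((d ^ j)⁻¹ * b * d ^ j) * (d ^ j)⁻¹ := by group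
    rw [h5, ← h4]
    group

/-- (A2): `M = K₀ ⟨d⟩`. -/
lemma A1.MM_dec {x : Ω} (hx : x ∈ MM S a t β) : ∃ j : ℕ, ∃ y ∈ centralizerIn S R, y ∈ CS S t ∧ x = y * d ^ j ∧ x = d ^ j * y := by
  obtain ⟨h1, h2, -, -⟩ := mem_MM.mp hx
  obtain ⟨j, hj⟩ := D.cA (mem_CS.mp h1).1 h2
  have hy : x * (d ^ j)⁻¹ ∈ CS S t := mul_mem h1 (inv_mem (Subgroup.pow_mem _ D.dC j))
  refine ⟨j, _, hj, hy, by group, ?_⟩
  have h3 := (mem_MM.mp (D.K0_le hj hy)).2.2.1
  have h4 : Commute (x * (d ^ j)⁻¹) d := by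
    obtain ⟨n, hn⟩ := D.dB
    change (β a) ^ n = d at hn
    have h5 : Commute (x * (d ^ j)⁻¹) (β a) := h3
    have h6 := h5.zpow_right n
    rw [hn] at h6
    exact h6
  have h5 := (h4.pow_right j).eq
  rw [← h5]; group

lemma A1.dt : d ^ 2 ^ (m - 1) = t := by
  have h1 := m1 D.sit D.v D.ty
  refine (invol_unique h1 (ord1 D.sit D.v D.ty) (Subgroup.pow_mem _ D.dB _) ?_ ?_).trans (inv1 D.sit D.v D.ty)
  · intro h2
    have := orderOf_dvd_of_pow_eq_one h2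
    rw [D.od] at this
    have h3 := Nat.le_of_dvd (by positivity) this
    have h4 : 2 ^ (m - 1) < 2 ^ m := Nat.pow_lt_pow_right (by norm_num) (by omega)
    omega
  · rw [← pow_add, ← two_mul, mul_comm, ← pow_succ, Nat.sub_add_cancel h1, ← D.od, pow_orderOf_eq_one]

lemma A1.dK {j : ℕ} (hj : d ^ j ∈ centralizerIn S R) : d ^ j = 1 :=
  B1K D.sit D.v D.ty (Subgroup.pow_mem _ D.dB j) hj

/-- involutions of `K₀` other than `z` are moved by `β` to `t x`, `x` an involution of `K₀`, `x ≠ z`. -/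
lemma A1.moves {y : Ω} (hy : y ∈ centralizerIn S R) (hyC : y ∈ CS S t) (hy2 : y * y = 1) (hy1 : y ≠ 1) (hyz : y ≠ z) :
    ∃ x ∈ centralizerIn S R, x ∈ CS S t ∧ x * x = 1 ∧ x ≠ 1 ∧ x ≠ z ∧ β y = t * x := by
  have h0 := D.βMM (D.K0_le hy hyC)
  obtain ⟨j, x, hx, hxC, h1, h2⟩ := D.MM_dec h0
  have hβ2 : β y * β y = 1 := by rw [← D.v.mp.mul hyC hyC, hy2, D.v.mp.one]
  have h3 : (d ^ j * d ^ j) * (x * x) = 1 := by
    calc (d ^ j * d ^ j) * (x * x) = d ^ j * (d ^ j * x) * x := by group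
      _ = d ^ j * (x * d ^ j) * x := by rw [← h2, ← h1]
      _ = (d ^ j * x) * (d ^ j * x) := by group
      _ = 1 := by rw [← h2, hβ2]
  have h4 : d ^ (j + j) = 1 := by
    apply D.dK
    rw [pow_add, mul_eq_one_iff_eq_inv.mp h3]
    exact inv_mem (mul_mem hx hx)
  have h5 : x * x = 1 := by rwa [← pow_add, h4, one_mul] at h3
  have h6 : β y ∉ centralizerIn S R := fun h6 => by
    have h7 := D.sit.factD D.v.mp (VD.zC D.sit D.v) hyC hy hy2 hy1 h6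
    rw [D.v.βz] at h7
    exact D.v.ne h7
  have h7 : d ^ j ≠ 1 := by
    intro h7
    rw [h7, one_mul] at h2
    exact h6 (h2 ▸ hx)
  have h8 : d ^ j = t := by
    rw [← D.dt]
    exact invol_unique (m1 D.sit D.v D.ty) D.od (Subgroup.pow_mem _ (Subgroup.mem_zpowers d) j) h7 (by rw [← pow_add, h4])
  rw [h8] at h2
  refine ⟨x, hx, hxC, h5, ?_, ?_, h2⟩
  · rintro rfl
    rw [mul_one] at h2
    apply hyz
    apply D.v.mp.inj hyC (VD.zC D.sit D.v)
    rw [h2, D.v.βz]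
  · rintro rfl
    apply VD.t_notK D.sit D.v
    have : y = t := D.v.mp.inj hyC (VD.tC D.sit D.v) (by rw [h2, D.v.βt])
    rwa [← this]

/-- (A3) `z` is the only involution of `K₀`. -/
lemma A1.K0_invol {y : Ω} (hy : y ∈ centralizerIn S R) (hyC : y ∈ CS S t) (hy2 : y * y = 1) (hy1 : y ≠ 1) : y = z := by
  by_contra hyz
  obtain ⟨x, hx, hxC, hx2, hx1, hxz, h1⟩ := D.moves hy hyC hy2 hy1 hyz
  obtain ⟨x', hx', hxC', hx2', hx1', hxz', h2⟩ := D.moves hx hxC hx2 hx1 hxz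
  have htC := VD.tC D.sit D.v
  have h3 : β (β y) = z * x' := by
    rw [h1, D.v.mp.mul htC hxC, h2, D.v.βt]
    have e1 := VD.zt D.sit D.v
    have e2 := VD.tt D.sit D.v
    rw [← mul_assoc, ← e1, mul_assoc z t t, e2, mul_one]
  have hmp : Mp F (CS S t) (fun x => β (β x)) := D.v.mp.comp D.v.mp D.v.maps
  have h4 := D.sit.factD hmp (VD.zC D.sit D.v) hyC hy hy2 hy1 (by
    show β (β y) ∈ _
    rw [h3]
    exact mul_mem (mem_K.mpr ⟨VD.zS D.sit D.v, D.sit.qr.cen_of D.sit.qr.za D.sit.qr.zb⟩) hx')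
  change β (β z) = z at h4
  rw [VD.ββz D.sit D.v] at h4
  exact VD.tzne D.sit D.v h4

/-- `K₀` is abelian. -/
lemma A1.K0_comm {x y : Ω} (hx : x ∈ centralizerIn S R) (hxC : x ∈ CS S t) (hy : y ∈ centralizerIn S R) (hyC : y ∈ CS S t) :
    x * y = y * x := by
  by_contra hne
  have hg1 : x * y * x⁻¹ * y⁻¹ ≠ 1 := fun h1 => hne (by
    have : x * y = (x * y * x⁻¹ * y⁻¹) * (y * x) := by group
    rw [this, h1, one_mul])
  have hgK : x * y * x⁻¹ * y⁻¹ ∈ centralizerIn S R := mul_mem (mul_mem (mul_mem hx hy) (inv_mem hx)) (inv_mem hy)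
  have hgC : x * y * x⁻¹ * y⁻¹ ∈ CS S t := mul_mem (mul_mem (mul_mem hxC hyC) (inv_mem hxC)) (inv_mem hyC)
  obtain ⟨i, x', hx', hxC', e1, e2⟩ := D.MM_dec (D.βMM (D.K0_le hx hxC))
  obtain ⟨j, y', hy', hyC', e3, e4⟩ := D.MM_dec (D.βMM (D.K0_le hy hyC))
  have hcd : ∀ w ∈ centralizerIn S R, w ∈ CS S t → Commute w d := by
    intro w hw hwC
    have h3 := (mem_MM.mp (D.K0_le hw hwC)).2.2.1
    obtain ⟨n, hn⟩ := D.dB
    change (β a) ^ n = d at hn
    have h5 : Commute w (β a) := h3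
    rw [← hn]
    exact h5.zpow_right n
  have hβg : β (x * y * x⁻¹ * y⁻¹) ∈ centralizerIn S R := by
    rw [D.v.mp.mul (mul_mem (mul_mem hxC hyC) (inv_mem hxC)) (inv_mem hyC), D.v.mp.mul (mul_mem hxC hyC) (inv_mem hxC),
      D.v.mp.mul hxC hyC, D.v.mp.inv hxC, D.v.mp.inv hyC, e1, e3]
    have c1 : Commute (d ^ i) y' := ((hcd y' hy' hyC').pow_right i).symm
    have c2 : Commute (d ^ j) x' := ((hcd x' hx' hxC').pow_right j).symm
    have c3 : Commute (d ^ i) (d ^ j) := (Commute.refl d).pow_pow i j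
    have : x' * d ^ i * (y' * d ^ j) * (x' * d ^ i)⁻¹ * (y' * d ^ j)⁻¹ = x' * y' * x'⁻¹ * y'⁻¹ := by
      have f1 : x' * d ^ i * (y' * d ^ j) = x' * y' * (d ^ i * d ^ j) := by
        rw [mul_assoc x', ← mul_assoc (d ^ i) y', c1.eq]; group
      have f2 : y' * d ^ j * (x' * d ^ i) = y' * x' * (d ^ i * d ^ j) := by
        rw [mul_assoc y', ← mul_assoc (d ^ j) x', c2.eq, c3.eq]; group
      calc x' * d ^ i * (y' * d ^ j) * (x' * d ^ i)⁻¹ * (y' * d ^ j)⁻¹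
          = (x' * d ^ i * (y' * d ^ j)) * (y' * d ^ j * (x' * d ^ i))⁻¹ := by group
        _ = x' * y' * x'⁻¹ * y'⁻¹ := by rw [f1, f2]; group
    rw [this]
    exact mul_mem (mul_mem (mul_mem hx' hy') (inv_mem hx')) (inv_mem hy')
  obtain ⟨k, hk⟩ := pow_order D.sit.hS (mem_K.mp hgK).1
  obtain ⟨n, h2, h3⟩ := exists_invol hk hg1
  have h4 := D.K0_invol (Subgroup.pow_mem _ hgK n) (Subgroup.pow_mem _ hgC n) h3 h2
  have h5 : β ((x * y * x⁻¹ * y⁻¹) ^ n) = t := by rw [h4, D.v.βz]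
  rw [mp_pow D.v.mp hgC] at h5
  exact VD.t_notK D.sit D.v (h5 ▸ Subgroup.pow_mem _ hβg n)

/-- the exponent of `K₀` divides `2^m`. -/
lemma A1.K0_exp {g : Ω} (hg : g ∈ centralizerIn S R) (hgC : g ∈ CS S t) : g ^ 2 ^ m = 1 := by
  by_contra hne
  obtain ⟨k, hk⟩ := pow_order D.sit.hS (mem_K.mp hg).1
  -- a power of `g ^ 2^m` is an involution
  have hk' : (g ^ 2 ^ m) ^ 2 ^ k = 1 := by rw [← pow_mul, mul_comm, pow_mul, hk, one_pow]
  obtain ⟨n, h2, h3⟩ := exists_invol hk' hne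
  have h4 := D.K0_invol (Subgroup.pow_mem _ (Subgroup.pow_mem _ hg _) n) (Subgroup.pow_mem _ (Subgroup.pow_mem _ hgC _) n) h3 h2
  obtain ⟨j, x, hx, hxC, e1, e2⟩ := D.MM_dec (D.βMM (D.K0_le hg hgC))
  have hcd : Commute x d := by
    have h3 := (mem_MM.mp (D.K0_le hx hxC)).2.2.1
    obtain ⟨n, hn⟩ := D.dB
    change (β a) ^ n = d at hn
    have h5 : Commute x (β a) := h3
    rw [← hn]
    exact h5.zpow_right n
  have h5 : β ((g ^ 2 ^ m) ^ n) = x ^ (2 ^ m * n) := by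
    rw [mp_pow D.v.mp (Subgroup.pow_mem _ hgC _), mp_pow D.v.mp hgC, e1, ← pow_mul, (hcd.pow_right j).mul_pow, ← pow_mul d, mul_comm j,
      mul_assoc, pow_mul d, ← D.od, pow_orderOf_eq_one, one_pow, mul_one]
  rw [h4, D.v.βz] at h5
  exact VD.t_notK D.sit D.v (h5 ▸ Subgroup.pow_mem _ hx _)

/-! `k = d² a⁻¹` -/

lemma A1.bd' : b * d = d * a⁻¹ * b := by
  have h1 : b * d = d * (d⁻¹ * b * d) := by group
  rw [h1, D.bd, D.sit.qr.ba, mul_assoc]

lemma A1.kK : d * d * a⁻¹ ∈ centralizerIn S R := by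
  have hdS := (mem_CS.mp D.dC).1
  have haS := D.sit.RS D.sit.qr.aR
  refine mem_K.mpr ⟨S.mul_mem (S.mul_mem hdS hdS) (S.inv_mem haS), D.sit.qr.cen_of ?_ ?_⟩
  · have h1 : Commute d a := D.da
    exact ((h1.mul_left h1).mul_left (Commute.refl a).inv_left).eq
  · have h1 := D.bd'
    have h2 : b * a⁻¹ = a * b := by
      have := D.sit.qr.inv_b (inv_mem (Subgroup.mem_zpowers a) : a⁻¹ ∈ Subgroup.zpowers a)
      rw [inv_inv] at this
      exact mul_inv_eq_iff_eq_mul.mp this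
    have hca : Commute a⁻¹ d := (show Commute d a from D.da).symm.inv_left
    symm
    calc b * (d * d * a⁻¹) = (b * d) * (d * a⁻¹) := by group
      _ = (d * a⁻¹ * b) * (d * a⁻¹) := by rw [h1]
      _ = d * a⁻¹ * (b * d) * a⁻¹ := by group
      _ = d * a⁻¹ * (d * a⁻¹ * b) * a⁻¹ := by rw [h1]
      _ = d * a⁻¹ * d * a⁻¹ * (b * a⁻¹) := by group
      _ = d * a⁻¹ * d * a⁻¹ * (a * b) := by rw [h2]
      _ = d * (a⁻¹ * d) * b := by group
      _ = d * (d * a⁻¹) * b := by rw [hca.eq]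
      _ = d * d * a⁻¹ * b := by group

lemma A1.kC : d * d * a⁻¹ ∈ CS S t := mul_mem (mul_mem D.dC D.dC) (inv_mem (aC D.sit D.v D.ty))

lemma A1.kpow (n : ℕ) : (d * d * a⁻¹) ^ n = d ^ (2 * n) * (a ^ n)⁻¹ := by
  have h1 : Commute d a := D.da
  rw [((h1.mul_left h1).inv_right).mul_pow, ← pow_two, ← pow_mul, inv_pow]

lemma A1.kz : (d * d * a⁻¹) ^ 2 ^ (m - 1) = z := by
  have h1 := m1 D.sit D.v D.ty
  rw [D.kpow, ← pow_succ', Nat.sub_add_cancel h1, ← D.od, pow_orderOf_eq_one, one_mul, ← D.sit.qr.hz, D.sit.qr.zinv]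

lemma A1.ok : orderOf (d * d * a⁻¹) = 2 ^ m := by
  have h1 := m1 D.sit D.v D.ty
  apply order_of_half h1
  · rw [D.kz]; exact D.sit.qr.z1
  · rw [D.kpow, mul_comm 2, pow_mul, ← D.od, pow_orderOf_eq_one, one_pow, one_mul, D.od, ← D.sit.qr.oa, pow_orderOf_eq_one, inv_one]

/-- (A3): `K₀ = ⟨k⟩`. -/
lemma A1.K0_mem {x : Ω} (hx : x ∈ centralizerIn S R) (hxC : x ∈ CS S t) : x ∈ Subgroup.zpowers (d * d * a⁻¹) := by
  have key : ∀ j : ℕ, ∀ x : Ω, x ∈ centralizerIn S R → x ∈ CS S t → x ^ 2 ^ j = 1 → x ∈ Subgroup.zpowers (d * d * a⁻¹) := by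
    intro j
    induction j with
    | zero =>
      intro x _ _ h1
      rw [pow_zero, pow_one] at h1
      rw [h1]; exact one_mem _
    | succ j ih =>
      intro x hx hxC h1
      by_cases h2 : x ^ 2 ^ j = 1
      · exact ih x hx hxC h2
      · have h3 : x ^ 2 ^ j = z := D.K0_invol (Subgroup.pow_mem _ hx _) (Subgroup.pow_mem _ hxC _)
          (by rw [← pow_add, ← two_mul, mul_comm, ← pow_succ]; exact h1) h2
        have hjm : j < m := by
          by_contra hcon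
          push Not at hcon
          apply h2
          obtain ⟨l, rfl⟩ := Nat.exists_eq_add_of_le hcon
          rw [pow_add, pow_mul, D.K0_exp hx hxC, one_pow]
        have hcomm : Commute x ((d * d * a⁻¹) ^ 2 ^ (m - 1 - j)) :=
          ((show Commute x (d * d * a⁻¹) from D.K0_comm hx hxC D.kK D.kC)).pow_right _
        have h4 : (x * ((d * d * a⁻¹) ^ 2 ^ (m - 1 - j))⁻¹) ^ 2 ^ j = 1 := by
          rw [hcomm.inv_right.mul_pow, h3, inv_pow, ← pow_mul, ← pow_add, Nat.sub_add_cancel (by omega), D.kz,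
            D.sit.qr.zinv, D.sit.qr.zz]
        have h5 := ih _ (mul_mem hx (inv_mem (Subgroup.pow_mem _ D.kK _))) (mul_mem hxC (inv_mem (Subgroup.pow_mem _ D.kC _))) h4
        have h6 := mul_mem h5 (Subgroup.pow_mem _ (Subgroup.mem_zpowers (d * d * a⁻¹)) (2 ^ (m - 1 - j)))
        rwa [inv_mul_cancel_right] at h6
  obtain ⟨j, hj⟩ := pow_order D.sit.hS (mem_K.mp hx).1
  exact key j x hx hxC hj

end

end Cfsg.Agent.H784.Q
end

-- part: H784/Q/CaseA3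
section
/-! # S5176, case A: (A4)–(A5), the theorem `Sit.caseA` -/
set_option autoImplicit false
set_option linter.unusedSectionVars false

namespace Cfsg.Agent.H784.Q
open Cfsg Cfsg.FusionSystem Cfsg.Agent.H752 Cfsg.Agent.H784.SF

universe u

variable {Ω : Type u} [Group Ω] {S : Subgroup Ω} [Finite S] {F : FusionSystem S} {R : Subgroup Ω} {a b z r : Ω} {m : ℕ}

lemma exists_nat_pow {g x : Ω} {m : ℕ} (hg : orderOf g = 2 ^ m) (hx : x ∈ Subgroup.zpowers g) : ∃ n : ℕ, x = g ^ n := by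
  classical
  have hfin : IsOfFinOrder g := by rw [← orderOf_pos_iff, hg]; positivity
  rw [hfin.mem_zpowers_iff_mem_range_orderOf] at hx
  obtain ⟨i, -, rfl⟩ := Finset.mem_image.mp hx
  exact ⟨i, rfl⟩

lemma pow_cancel_odd {g : Ω} {m x u p : ℕ} (hg : orderOf g = 2 ^ m) (hx : Odd x) (h : g ^ (x * u) = g ^ (x * p)) : g ^ u = g ^ p := by
  rw [pow_eq_pow_iff_modEq, hg] at h ⊢
  exact Nat.ModEq.cancel_left_of_coprime (Nat.Coprime.pow_left m (Nat.coprime_two_left.mpr hx)) h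

lemma sup_comm_mem {Q T : Subgroup Ω} (hc : ∀ q ∈ Q, ∀ t ∈ T, q * t = t * q) {y : Ω} (hy : y ∈ Q ⊔ T) :
    ∃ q ∈ Q, ∃ t ∈ T, y = q * t := by
  have hN : Q ≤ Subgroup.normalizer (T : Set Ω) := by
    refine le_trans ?_ (Subgroup.centralizer_le_normalizer _)
    intro q hq
    rw [Subgroup.mem_centralizer_iff]
    intro t ht
    exact (hc q hq t ht).symm
  have h1 : y ∈ ((Q ⊔ T : Subgroup Ω) : Set Ω) := hy
  rw [Subgroup.coe_mul_of_left_le_normalizer_right _ _ hN] at h1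
  obtain ⟨q, hq, t, ht, rfl⟩ := h1
  exact ⟨q, hq, t, ht, rfl⟩

section
variable {t : Ω} {β : Ω → Ω} {c d : Ω} (D : A1 F R a b z r m t β c d)
include D

lemma A1.mem_M {x : Ω} (hx : x ∈ Subgroup.zpowers a ⊔ Subgroup.zpowers d) : ∃ i j : ℕ, x = a ^ i * d ^ j := by
  obtain ⟨p, hp, q, hq, rfl⟩ := sup_comm_mem (by
    rintro _ ⟨i, rfl⟩ _ ⟨j, rfl⟩
    have h1 : Commute a d := D.da.symm
    exact (h1.zpow_zpow i j).eq) hx
  obtain ⟨i, rfl⟩ := exists_nat_pow D.sit.qr.oa hp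
  obtain ⟨j, rfl⟩ := exists_nat_pow D.od hq
  exact ⟨i, j, rfl⟩

lemma A1.M_eq : Subgroup.zpowers a ⊔ Subgroup.zpowers d = MM S a t β := by
  apply le_antisymm
  · exact sup_le D.A_le (by rw [Subgroup.zpowers_le]; exact D.d_mem)
  · intro x hx
    obtain ⟨j, y, hy, hyC, rfl, -⟩ := D.MM_dec hx
    refine mul_mem ?_ (Subgroup.mem_sup_right (Subgroup.pow_mem _ (Subgroup.mem_zpowers d) j))
    have h1 := D.K0_mem hy hyC
    have hd : d ∈ Subgroup.zpowers a ⊔ Subgroup.zpowers d := Subgroup.mem_sup_right (Subgroup.mem_zpowers d)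
    have ha : a ∈ Subgroup.zpowers a ⊔ Subgroup.zpowers d := Subgroup.mem_sup_left (Subgroup.mem_zpowers a)
    exact (Subgroup.zpowers_le.mpr (mul_mem (mul_mem hd hd) (inv_mem ha))) h1

lemma A1.B1_eq : Subgroup.zpowers d = Subgroup.zpowers (β a) :=
  le_antisymm (Subgroup.zpowers_le.mpr D.dB) (Subgroup.zpowers_le.mpr D.Bd)

lemma A1.AB' {x : Ω} (hx : x ∈ Subgroup.zpowers a) (hx' : x ∈ Subgroup.zpowers d) : x = 1 := by
  rw [D.B1_eq] at hx'
  exact AB D.sit D.v D.ty hx hx'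

lemma A1.uniq {i j i' j' : ℕ} (h : a ^ i * d ^ j = a ^ i' * d ^ j') : a ^ i = a ^ i' ∧ d ^ j = d ^ j' := by
  have h1 : (a ^ i')⁻¹ * a ^ i = d ^ j' * (d ^ j)⁻¹ := by
    calc (a ^ i')⁻¹ * a ^ i = (a ^ i')⁻¹ * (a ^ i * d ^ j) * (d ^ j)⁻¹ := by group
      _ = d ^ j' * (d ^ j)⁻¹ := by rw [h]; group
  have hA : (a ^ i')⁻¹ * a ^ i ∈ Subgroup.zpowers a :=
    mul_mem (inv_mem (Subgroup.pow_mem _ (Subgroup.mem_zpowers a) _)) (Subgroup.pow_mem _ (Subgroup.mem_zpowers a) _)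
  have hd : (a ^ i')⁻¹ * a ^ i ∈ Subgroup.zpowers d := by
    rw [h1]
    exact mul_mem (Subgroup.pow_mem _ (Subgroup.mem_zpowers d) _) (inv_mem (Subgroup.pow_mem _ (Subgroup.mem_zpowers d) _))
  have h2 := D.AB' hA hd
  constructor
  · rw [inv_mul_eq_one] at h2; exact h2.symm
  · rw [h1, mul_inv_eq_one] at h2; exact h2.symm

lemma A1.comm_ad (i j : ℕ) : a ^ i * d ^ j = d ^ j * a ^ i :=
  ((show Commute a d from D.da.symm).pow_pow i j).eq

lemma A1.pow_M (i j n : ℕ) : (a ^ i * d ^ j) ^ n = a ^ (i * n) * d ^ (j * n) := by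
  have h1 : Commute (a ^ i) (d ^ j) := D.comm_ad i j
  rw [h1.mul_pow, ← pow_mul, ← pow_mul]

lemma A1.half (x : ℕ) {g : Ω} (hg : orderOf g = 2 ^ m) : g ^ (2 * x * 2 ^ (m - 1)) = 1 := by
  have h1 := m1 D.sit D.v D.ty
  rw [← orderOf_dvd_iff_pow_eq_one, hg]
  refine ⟨x, ?_⟩
  have : 2 ^ m = 2 * 2 ^ (m - 1) := by rw [← pow_succ', Nat.sub_add_cancel h1]
  rw [this]; ring

/-- coordinates of `β² a`. -/
lemma A1.bb_coord : ∃ x y : ℕ, Odd x ∧ Odd y ∧ β (β a) = a ^ x * d ^ y := by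
  have h0 : β (β a) ∈ MM S a t β := D.βMM (D.B1_le (Subgroup.mem_zpowers _))
  rw [← D.M_eq] at h0
  obtain ⟨x, y, hxy⟩ := D.mem_M h0
  have h1 := inv2 D.sit D.v D.ty
  rw [hxy, D.pow_M] at h1
  have htA : t ∈ Subgroup.zpowers d := by rw [← D.dt]; exact Subgroup.pow_mem _ (Subgroup.mem_zpowers d) _
  refine ⟨x, y, ?_, ?_, hxy⟩
  · rw [← Nat.not_even_iff_odd]
    rintro ⟨i, hi⟩
    rw [hi, ← two_mul, D.half i D.sit.qr.oa, one_mul] at h1
    have h2 : z ∈ Subgroup.zpowers d := by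
      have h3 : t * z ∈ Subgroup.zpowers d := h1 ▸ Subgroup.pow_mem _ (Subgroup.mem_zpowers d) _
      have h4 := mul_mem (inv_mem htA) h3
      rwa [inv_mul_cancel_left] at h4
    exact D.sit.qr.z1 (D.AB' D.sit.qr.zA h2)
  · rw [← Nat.not_even_iff_odd]
    rintro ⟨i, hi⟩
    rw [hi, ← two_mul, D.half i D.od, mul_one] at h1
    have h3 : t * z ∈ Subgroup.zpowers a := h1 ▸ Subgroup.pow_mem _ (Subgroup.mem_zpowers a) _
    have h4 := mul_mem h3 (inv_mem D.sit.qr.zA)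
    rw [mul_inv_cancel_right] at h4
    exact VD.t1 D.sit D.v (D.AB' h4 htA)

/-- (A4). -/
lemma A1.power {s : Ω} (hs : s ∈ CS S t) : ∃ i : ℕ, ∀ x ∈ Subgroup.zpowers a ⊔ Subgroup.zpowers d, s * x * s⁻¹ = x ^ i := by
  obtain ⟨p, hp⟩ := exists_nat_pow D.sit.qr.oa (An D.sit D.v D.ty hs (Subgroup.mem_zpowers a))
  obtain ⟨q, hq⟩ : ∃ q : ℕ, s * d * s⁻¹ = d ^ q := by
    have := Bn D.sit D.v D.ty hs (x := d) (by rw [← D.B1_eq]; exact Subgroup.mem_zpowers d)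
    rw [← D.B1_eq] at this
    exact exists_nat_pow D.od this
  obtain ⟨u, hu⟩ := exists_nat_pow (ord2 D.sit D.v D.ty) (Bn2 D.sit D.v D.ty hs (Subgroup.mem_zpowers _))
  obtain ⟨x, y, hx, hy, hxy⟩ := D.bb_coord
  rw [hxy, D.pow_M] at hu
  have h1 : s * (a ^ x * d ^ y) * s⁻¹ = a ^ (x * p) * d ^ (y * q) := by
    calc s * (a ^ x * d ^ y) * s⁻¹ = (s * a * s⁻¹) ^ x * (s * d * s⁻¹) ^ y := by rw [conj_pow, conj_pow]; group
      _ = _ := by rw [hp, hq, ← pow_mul, ← pow_mul, mul_comm p, mul_comm q]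
  rw [h1] at hu
  obtain ⟨h2, h3⟩ := D.uniq hu
  have h4 := pow_cancel_odd D.sit.qr.oa hx h2
  have h5 := pow_cancel_odd D.od hy h3
  refine ⟨u, fun w hw => ?_⟩
  obtain ⟨i, j, rfl⟩ := D.mem_M hw
  calc s * (a ^ i * d ^ j) * s⁻¹ = (s * a * s⁻¹) ^ i * (s * d * s⁻¹) ^ j := by rw [conj_pow, conj_pow]; group
    _ = (a ^ u) ^ i * (d ^ u) ^ j := by rw [hp, hq, h4, h5]
    _ = (a ^ i * d ^ j) ^ u := by rw [D.pow_M, ← pow_mul, ← pow_mul, mul_comm u i, mul_comm u j]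

lemma A1.cM {s : Ω} (hs : s ∈ CS S t) (ha : s * a = a * s) : s ∈ Subgroup.zpowers a ⊔ Subgroup.zpowers d := by
  obtain ⟨j, hj⟩ := D.cA (mem_CS.mp hs).1 ha
  have h1 : s * (d ^ j)⁻¹ ∈ CS S t := mul_mem hs (inv_mem (Subgroup.pow_mem _ D.dC j))
  rw [D.M_eq]
  have h2 := D.K0_le hj h1
  have h3 := mul_mem h2 (Subgroup.pow_mem _ D.d_mem j)
  rwa [inv_mul_cancel_right] at h3

lemma A1.c_mem : c ∈ Subgroup.zpowers (d * d * a⁻¹) := D.K0_mem D.cK (D.K0_CS D.cK rfl)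

lemma A1.K₀ {x : Ω} (hx : x ∈ centralizerIn S R) (hc : x * c = c * x) : x ∈ Subgroup.zpowers (d * d * a⁻¹) :=
  D.K0_mem hx (D.K0_CS hx hc)

lemma A1.kM : d * d * a⁻¹ ∈ Subgroup.zpowers a ⊔ Subgroup.zpowers d := by
  have hd : d ∈ Subgroup.zpowers a ⊔ Subgroup.zpowers d := Subgroup.mem_sup_right (Subgroup.mem_zpowers d)
  have ha : a ∈ Subgroup.zpowers a ⊔ Subgroup.zpowers d := Subgroup.mem_sup_left (Subgroup.mem_zpowers a)
  exact mul_mem (mul_mem hd hd) (inv_mem ha)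

/-- if `w` normalizes `⟨k⟩` and is outside it, then `w c w⁻¹ = c⁻¹`. -/
lemma A1.inv_c {w : Ω} (hw : w ∈ centralizerIn S R) (hw' : w ∉ Subgroup.zpowers (d * d * a⁻¹))
    (hn : w * c * w⁻¹ ∈ Subgroup.zpowers (d * d * a⁻¹)) : w * c * w⁻¹ = c⁻¹ := by
  have h1 := m1 D.sit D.v D.ty
  have hcomm : Commute (w * c * w⁻¹) c := by
    obtain ⟨i, hi⟩ := hn
    obtain ⟨j, hj⟩ := D.c_mem
    change (d * d * a⁻¹) ^ i = _ at hi
    change (d * d * a⁻¹) ^ j = _ at hj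
    rw [← hi, ← hj]
    exact (Commute.refl _).zpow_zpow i j
  have hwz : w * z = z * w := (D.sit.z_centr w (mem_K.mp hw).1)
  have hsq : (w * c * w⁻¹) * (w * c * w⁻¹) = z := by
    calc (w * c * w⁻¹) * (w * c * w⁻¹) = w * (c * c) * w⁻¹ := by group
      _ = z := by rw [D.cc, hwz, mul_inv_cancel_right]
  -- `g = (w c w⁻¹) c⁻¹` has square 1
  have hcinv : c⁻¹ * c⁻¹ = z := by rw [← mul_inv_rev, D.cc, D.sit.qr.zinv]
  have hg2 : (w * c * w⁻¹ * c⁻¹) * (w * c * w⁻¹ * c⁻¹) = 1 := by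
    have h2 : Commute (w * c * w⁻¹) c⁻¹ := hcomm.inv_right
    calc (w * c * w⁻¹ * c⁻¹) * (w * c * w⁻¹ * c⁻¹) = (w * c * w⁻¹) * (c⁻¹ * (w * c * w⁻¹)) * c⁻¹ := by group
      _ = (w * c * w⁻¹) * ((w * c * w⁻¹) * c⁻¹) * c⁻¹ := by rw [h2.eq]
      _ = ((w * c * w⁻¹) * (w * c * w⁻¹)) * (c⁻¹ * c⁻¹) := by group
      _ = 1 := by rw [hsq, hcinv, D.sit.qr.zz]
  have hgm : w * c * w⁻¹ * c⁻¹ ∈ Subgroup.zpowers (d * d * a⁻¹) := mul_mem hn (inv_mem D.c_mem)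
  by_cases hg1 : w * c * w⁻¹ * c⁻¹ = 1
  · exfalso
    apply hw'
    apply D.K₀ hw
    have : w * c * w⁻¹ = c := by rw [mul_inv_eq_one] at hg1; exact hg1
    exact mul_inv_eq_iff_eq_mul.mp this
  · have h2 := invol_unique h1 D.ok hgm hg1 hg2
    rw [D.kz] at h2
    rw [mul_inv_eq_iff_eq_mul] at h2
    rw [h2]
    rw [eq_inv_iff_mul_eq_one, mul_assoc, D.cc, D.sit.qr.zz]

lemma A1.ctz {w : Ω} (hw : w ∈ centralizerIn S R) (h1 : w * c * w⁻¹ = c⁻¹) : b * w ∈ CS S t := by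
  have hbS := D.sit.RS D.sit.qr.bR
  have hwS := (mem_K.mp hw).1
  refine mem_CS.mpr ⟨S.mul_mem hbS hwS, ?_⟩
  have hwr : w * r = r * w := (mem_K.mp hw).2 r D.sit.qr.rR
  have hbc : b * c = c * b := ((mem_K.mp D.cK).2 b D.sit.qr.bR).symm
  have hbr : b * r * b⁻¹ = r⁻¹ := D.sit.qr.inv_b D.sit.qr.rA
  have hbr' : b * r = r⁻¹ * b := mul_inv_eq_iff_eq_mul.mp hbr
  have hwc : w * c = c⁻¹ * w := mul_inv_eq_iff_eq_mul.mp h1
  have hbci : b * c⁻¹ = c⁻¹ * b := (show Commute b c from hbc).inv_right.eq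
  have hrc : r⁻¹ * c⁻¹ = r * c := by
    have h2 : c⁻¹ = z * c := by rw [inv_eq_iff_mul_eq_one, ← mul_assoc, show c * z = z * c from
        (D.sit.z_centr c (mem_K.mp D.cK).1), mul_assoc, D.cc, D.sit.qr.zz]
    rw [D.sit.qr.rinv, h2, mul_assoc, ← mul_assoc z z, D.sit.qr.zz, one_mul]
  calc b * w * t = b * (w * r) * c := by rw [D.tc]; group
    _ = b * r * (w * c) := by rw [hwr]; group
    _ = r⁻¹ * (b * c⁻¹) * w := by rw [hbr', hwc]; group
    _ = (r⁻¹ * c⁻¹) * (b * w) := by rw [hbci]; group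
    _ = t * (b * w) := by rw [hrc, D.tc]

/-- (A5), main step: `w` inverts `⟨k⟩` and `w² = z`. -/
lemma A1.w_props {w : Ω} (hw : w ∈ centralizerIn S R) (h1 : w * c * w⁻¹ = c⁻¹) :
    w * (d * d * a⁻¹) = (d * d * a⁻¹)⁻¹ * w ∧ w * w = z := by
  have hs := D.ctz hw h1
  obtain ⟨u, hu⟩ := D.power hs
  have hwa : w * a = a * w := (mem_K.mp hw).2 a D.sit.qr.aR
  have hwb : w * b = b * w := (mem_K.mp hw).2 b D.sit.qr.bR
  have haM : a ∈ Subgroup.zpowers a ⊔ Subgroup.zpowers d := Subgroup.mem_sup_left (Subgroup.mem_zpowers a)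
  have hdM : d ∈ Subgroup.zpowers a ⊔ Subgroup.zpowers d := Subgroup.mem_sup_right (Subgroup.mem_zpowers d)
  have h2 : b * w * a * (b * w)⁻¹ = a⁻¹ := by
    calc b * w * a * (b * w)⁻¹ = b * (w * a * w⁻¹) * b⁻¹ := by group
      _ = b * a * b⁻¹ := by rw [hwa, mul_inv_cancel_right]
      _ = a⁻¹ := D.sit.qr.inv_b (Subgroup.mem_zpowers a)
  have h3 : a ^ u = a⁻¹ := by rw [← hu a haM, h2]
  -- hence `x ^ u = x⁻¹` on `M`
  have h4 : ∀ x ∈ Subgroup.zpowers a ⊔ Subgroup.zpowers d, x ^ u = x⁻¹ := by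
    have h5 : (2 ^ m) ∣ (u + 1) := by
      rw [← D.sit.qr.oa, orderOf_dvd_iff_pow_eq_one, pow_succ, h3, inv_mul_cancel]
    intro x hx
    obtain ⟨i, j, rfl⟩ := D.mem_M hx
    rw [eq_inv_iff_mul_eq_one, ← pow_succ, D.pow_M]
    obtain ⟨l, hl⟩ := h5
    have e1 : a ^ (i * (u + 1)) = 1 := by
      rw [← orderOf_dvd_iff_pow_eq_one, D.sit.qr.oa, hl]; exact ⟨i * l, by ring⟩
    have e2 : d ^ (j * (u + 1)) = 1 := by
      rw [← orderOf_dvd_iff_pow_eq_one, D.od, hl]; exact ⟨j * l, by ring⟩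
    rw [e1, e2, one_mul]
  have h5 : ∀ x ∈ Subgroup.zpowers a ⊔ Subgroup.zpowers d, (b * w) * x * (b * w)⁻¹ = x⁻¹ := fun x hx => by rw [hu x hx, h4 x hx]
  have hbk : b * (d * d * a⁻¹) = (d * d * a⁻¹) * b := ((mem_K.mp D.kK).2 b D.sit.qr.bR).symm
  have h6 : w * (d * d * a⁻¹) * w⁻¹ = (d * d * a⁻¹)⁻¹ := by
    have h7 := h5 _ D.kM
    have hbki : b⁻¹ * (d * d * a⁻¹)⁻¹ * b = (d * d * a⁻¹)⁻¹ := by
      have h8 : Commute b (d * d * a⁻¹) := hbk
      have h9 := h8.inv_left.inv_right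
      rw [h9.eq, mul_assoc, inv_mul_cancel, mul_one]
    calc w * (d * d * a⁻¹) * w⁻¹ = b⁻¹ * ((b * w) * (d * d * a⁻¹) * (b * w)⁻¹) * b := by group
      _ = (d * d * a⁻¹)⁻¹ := by rw [h7, hbki]
  have h7 : w * (d * d * a⁻¹) = (d * d * a⁻¹)⁻¹ * w := mul_inv_eq_iff_eq_mul.mp h6
  refine ⟨h7, ?_⟩
  -- `w²`
  have hw2c : (w * w) * c = c * (w * w) := by
    have h8 : w * c = c⁻¹ * w := mul_inv_eq_iff_eq_mul.mp h1
    have h9 : w * c⁻¹ = c * w := by
      have h10 : w * c⁻¹ * w⁻¹ = c := by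
        calc w * c⁻¹ * w⁻¹ = (w * c * w⁻¹)⁻¹ := by group
          _ = c := by rw [h1, inv_inv]
      exact mul_inv_eq_iff_eq_mul.mp h10
    rw [mul_assoc, h8, ← mul_assoc, h9, mul_assoc]
  have hw2 := D.K₀ (mul_mem hw hw) hw2c
  have hw2C := D.K0_CS (mul_mem hw hw) hw2c
  obtain ⟨n, hn⟩ := hw2
  change (d * d * a⁻¹) ^ n = w * w at hn
  have h8 : w * (w * w) * w⁻¹ = (w * w)⁻¹ := by
    rw [← hn, ← conj_zpow, h6, inv_zpow]
  have h9 : (w * w) * (w * w) = 1 := by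
    have h10 : w * (w * w) * w⁻¹ = w * w := by group
    rw [h10] at h8
    exact eq_inv_iff_mul_eq_one.mp h8
  by_contra hne
  have hw21 : w * w = 1 := by
    by_contra h10
    exact hne (D.K0_invol (mul_mem hw hw) hw2C h9 h10)
  -- `s = b w`, `s² = z`
  have hs2 : (b * w) * (b * w) = z := by
    calc (b * w) * (b * w) = b * (w * b) * w := by group
      _ = (b * b) * (w * w) := by rw [hwb]; group
      _ = z := by rw [hw21, mul_one, D.sit.qr.bb]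
  have hβs := D.v.maps _ hs
  have hβs2 : β (b * w) * β (b * w) = t := by rw [← D.v.mp.mul hs hs, hs2, D.v.βz]
  -- `β s` inverts `M`
  have hMC : ∀ x ∈ Subgroup.zpowers a ⊔ Subgroup.zpowers d, x ∈ CS S t := fun x hx => by
    rw [D.M_eq] at hx; exact (mem_MM.mp hx).1
  have hfin : Finite ↥(Subgroup.zpowers a ⊔ Subgroup.zpowers d) := fin_of_le (S := S) fun x hx => (mem_CS.mp (hMC x hx)).1
  have hβM : ∀ x ∈ Subgroup.zpowers a ⊔ Subgroup.zpowers d, β x ∈ Subgroup.zpowers a ⊔ Subgroup.zpowers d := fun x hx => by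
    rw [D.M_eq] at hx ⊢; exact D.βMM hx
  have hinv : ∀ x ∈ Subgroup.zpowers a ⊔ Subgroup.zpowers d, β (b * w) * x * (β (b * w))⁻¹ = x⁻¹ := by
    intro x hx
    obtain ⟨x', hx', rfl⟩ := (D.v.mp.res hMC).surj hβM hx
    rw [← Mp.conj' D.v.mp hs (hMC _ hx'), h5 x' hx', D.v.mp.inv (hMC _ hx')]
  have hn1 : (b * w)⁻¹ * β (b * w) ∈ Subgroup.zpowers a ⊔ Subgroup.zpowers d := by
    apply D.cM (mul_mem (inv_mem hs) hβs)
    have e1 := hinv a haM
    have e2 : (b * w)⁻¹ * a⁻¹ * (b * w) = a := by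
      calc (b * w)⁻¹ * a⁻¹ * (b * w) = (b * w)⁻¹ * (b * w * a * (b * w)⁻¹) * (b * w) := by rw [h2]
        _ = a := by group
    have e3 : β (b * w) * a = a⁻¹ * β (b * w) := mul_inv_eq_iff_eq_mul.mp e1
    calc (b * w)⁻¹ * β (b * w) * a = (b * w)⁻¹ * (β (b * w) * a) := by group
      _ = ((b * w)⁻¹ * a⁻¹ * (b * w)) * ((b * w)⁻¹ * β (b * w)) := by rw [e3]; group
      _ = a * ((b * w)⁻¹ * β (b * w)) := by rw [e2]
  have hfinal : β (b * w) * β (b * w) = z := by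
    have e1 : (b * w)⁻¹ * ((b * w)⁻¹ * β (b * w)) * (b * w) = ((b * w)⁻¹ * β (b * w))⁻¹ := by
      have e2 := h5 _ (inv_mem hn1)
      rw [inv_inv] at e2
      calc (b * w)⁻¹ * ((b * w)⁻¹ * β (b * w)) * (b * w)
          = (b * w)⁻¹ * ((b * w) * ((b * w)⁻¹ * β (b * w))⁻¹ * (b * w)⁻¹) * (b * w) := by rw [e2]
        _ = ((b * w)⁻¹ * β (b * w))⁻¹ := by group
    calc β (b * w) * β (b * w)
        = (b * w) * (b * w) * ((b * w)⁻¹ * ((b * w)⁻¹ * β (b * w)) * (b * w)) * ((b * w)⁻¹ * β (b * w)) := by group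
      _ = z := by rw [e1, hs2]; group
  rw [hβs2] at hfinal
  exact D.v.ne hfinal

/-- the structure of `K`. -/
lemma A1.K_struct : (∀ x ∈ centralizerIn S R, x ∈ Subgroup.zpowers (d * d * a⁻¹)) ∨
    ∃ w ∈ centralizerIn S R, w * (d * d * a⁻¹) = (d * d * a⁻¹)⁻¹ * w ∧ w * w = z ∧ w ∉ Subgroup.zpowers (d * d * a⁻¹) ∧
      ∀ x ∈ centralizerIn S R, ∃ i : ℕ, x = (d * d * a⁻¹) ^ i ∨ x = w * (d * d * a⁻¹) ^ i := by
  haveI : Fact (Nat.Prime 2) := ⟨Nat.prime_two⟩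
  by_cases hK : ∀ x ∈ centralizerIn S R, x ∈ Subgroup.zpowers (d * d * a⁻¹)
  · exact Or.inl hK
  right
  push Not at hK
  obtain ⟨x₀, hx₀, hx₀'⟩ := hK
  have hkK : Subgroup.zpowers (d * d * a⁻¹) ≤ centralizerIn S R := Subgroup.zpowers_le.mpr D.kK
  have hlt : Subgroup.zpowers (d * d * a⁻¹) < centralizerIn S R := lt_of_le_of_ne hkK (fun h => hx₀' (by rw [h]; exact hx₀))
  obtain ⟨w, hw, hwn, hwN⟩ := H759.exists_mem_normalizer_not_mem D.sit.hS inf_le_left hlt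
  have hwc := D.inv_c hw hwn ((Subgroup.mem_normalizer_iff.mp hwN c).mp D.c_mem)
  obtain ⟨h1, h2⟩ := D.w_props hw hwc
  -- the subgroup `N = ⟨k⟩ ∪ w⟨k⟩`
  have h1' : w * (d * d * a⁻¹) * w⁻¹ = (d * d * a⁻¹)⁻¹ := by rw [h1, mul_inv_cancel_right]
  have hconj : ∀ y ∈ Subgroup.zpowers (d * d * a⁻¹), w * y * w⁻¹ = y⁻¹ := by
    rintro _ ⟨n, rfl⟩
    show w * (d * d * a⁻¹) ^ n * w⁻¹ = _
    rw [← conj_zpow, h1', inv_zpow]
  have hw1 : w⁻¹ = w * z := by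
    rw [inv_eq_iff_mul_eq_one, ← mul_assoc, h2, D.sit.qr.zz]
  have hzk : z ∈ Subgroup.zpowers (d * d * a⁻¹) := by rw [← D.kz]; exact Subgroup.pow_mem _ (Subgroup.mem_zpowers _) _
  let N : Subgroup Ω :=
    { carrier := {x | x ∈ Subgroup.zpowers (d * d * a⁻¹) ∨ w⁻¹ * x ∈ Subgroup.zpowers (d * d * a⁻¹)}
      one_mem' := Or.inl (one_mem _)
      mul_mem' := by
        rintro x y (hx | hx) (hy | hy)
        · exact Or.inl (mul_mem hx hy)
        · right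
          have e1 : w⁻¹ * (x * y) = (w⁻¹ * x * w) * (w⁻¹ * y) := by group
          have e2 : w⁻¹ * x * w = x⁻¹ := by
            have := hconj _ (inv_mem hx)
            rw [inv_inv] at this
            calc w⁻¹ * x * w = w⁻¹ * (w * x⁻¹ * w⁻¹) * w := by rw [this]
              _ = x⁻¹ := by group
          rw [e1, e2]
          exact mul_mem (inv_mem hx) hy
        · right
          rw [← mul_assoc]
          exact mul_mem hx hy
        · left
          have e1 : x * y = (w * (w⁻¹ * x) * w⁻¹) * (w * w) * (w⁻¹ * y) := by group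
          rw [e1, hconj _ hx, h2]
          exact mul_mem (mul_mem (inv_mem hx) hzk) hy
      inv_mem' := by
        rintro x (hx | hx)
        · exact Or.inl (inv_mem hx)
        · right
          have e1 : w⁻¹ * x⁻¹ = (w⁻¹ * (w⁻¹ * x)⁻¹ * w) * (w * w)⁻¹ := by group
          have e2 : w⁻¹ * (w⁻¹ * x)⁻¹ * w = w⁻¹ * x := by
            have := hconj _ hx
            calc w⁻¹ * (w⁻¹ * x)⁻¹ * w = w⁻¹ * (w * (w⁻¹ * x) * w⁻¹) * w := by rw [this]
              _ = w⁻¹ * x := by group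
          rw [e1, e2, h2]
          exact mul_mem hx (inv_mem hzk) }
  have hNle : N ≤ centralizerIn S R := by
    rintro x (hx | hx)
    · exact hkK hx
    · have := mul_mem hw (hkK hx)
      rwa [mul_inv_cancel_left] at this
  have hwNm : w ∈ N := Or.inr (by rw [inv_mul_cancel]; exact one_mem _)
  -- elements of `w⟨k⟩` have square `z`
  have hsq : ∀ x, w⁻¹ * x ∈ Subgroup.zpowers (d * d * a⁻¹) → x * x = z := by
    intro x hx
    have e1 : x * x = (w * (w⁻¹ * x) * w⁻¹) * (w * w) * (w⁻¹ * x) := by group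
    rw [e1, hconj _ hx, h2]
    have e2 : z * (w⁻¹ * x) = (w⁻¹ * x) * z := by
      obtain ⟨i, hi⟩ := hx
      obtain ⟨j, hj⟩ := hzk
      change (d * d * a⁻¹) ^ i = _ at hi
      change (d * d * a⁻¹) ^ j = _ at hj
      rw [← hi, ← hj]
      exact ((Commute.refl _).zpow_zpow j i).eq
    rw [mul_assoc, e2, inv_mul_cancel_left]
  -- `N` contains everything normalizing `⟨k⟩`
  have hnorm : ∀ x ∈ centralizerIn S R, x * c * x⁻¹ ∈ Subgroup.zpowers (d * d * a⁻¹) → x ∈ N := by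
    intro x hx hxc
    by_cases h3 : x ∈ Subgroup.zpowers (d * d * a⁻¹)
    · exact Or.inl h3
    · right
      have h4 := D.inv_c hx h3 hxc
      apply D.K₀ (mul_mem (inv_mem hw) hx)
      have e1 : w⁻¹ * c⁻¹ * w = c := by
        have : w * c * w⁻¹ = c⁻¹ := hwc
        rw [← this]; group
      have e2 : x * c = c⁻¹ * x := mul_inv_eq_iff_eq_mul.mp h4
      calc w⁻¹ * x * c = w⁻¹ * (x * c) := by group
        _ = (w⁻¹ * c⁻¹ * w) * (w⁻¹ * x) := by rw [e2]; group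
        _ = c * (w⁻¹ * x) := by rw [e1]
  have hNK : N = centralizerIn S R := by
    by_contra hne
    have hlt2 : N < centralizerIn S R := lt_of_le_of_ne hNle hne
    obtain ⟨g, hg, hgN, hgn⟩ := H759.exists_mem_normalizer_not_mem D.sit.hS inf_le_left hlt2
    apply hgN
    apply hnorm g hg
    -- `g k g⁻¹ ∈ N` has order at least 8
    have hkN : d * d * a⁻¹ ∈ N := Or.inl (Subgroup.mem_zpowers _)
    have h3 := (Subgroup.mem_normalizer_iff.mp hgn _).mp hkN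
    have h4 : g * (d * d * a⁻¹) * g⁻¹ ∈ Subgroup.zpowers (d * d * a⁻¹) := by
      rcases h3 with h3 | h3
      · exact h3
      · exfalso
        have h5 := hsq _ h3
        have h6 : (d * d * a⁻¹) ^ 4 = 1 := by
          have e1 : (g * (d * d * a⁻¹) * g⁻¹) ^ 4 = 1 := by
            rw [pow_four_eq, h5, D.sit.qr.zz]
          rw [conj_pow] at e1
          have e2 : (d * d * a⁻¹) ^ 4 = g⁻¹ * (g * (d * d * a⁻¹) ^ 4 * g⁻¹) * g := by group
          rw [e2, e1]; group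
        have h7 := orderOf_dvd_of_pow_eq_one h6
        rw [D.ok] at h7
        have h8 := Nat.le_of_dvd (by norm_num) h7
        have h9 : 2 ^ 3 ≤ 2 ^ m := Nat.pow_le_pow_right (by norm_num) D.sit.qr.m3
        omega
    obtain ⟨n, hn⟩ := D.c_mem
    change (d * d * a⁻¹) ^ n = c at hn
    rw [← hn, ← conj_zpow]
    exact Subgroup.zpow_mem _ h4 n
  refine ⟨w, hw, h1, h2, hwn, fun x hx => ?_⟩
  rw [← hNK] at hx
  rcases hx with hx | hx
  · obtain ⟨i, hi⟩ := exists_nat_pow D.ok hx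
    exact ⟨i, Or.inl hi⟩
  · obtain ⟨i, hi⟩ := exists_nat_pow D.ok hx
    exact ⟨i, Or.inr (by rw [← hi, mul_inv_cancel_left])⟩

/-- conjugation by `s ∈ S` maps `c` to `c^{±1}`. -/
lemma A1.c_conj {s : Ω} (hs : s ∈ S) : s * c * s⁻¹ = c ∨ s * c * s⁻¹ = c⁻¹ := by
  have h1 := m1 D.sit D.v D.ty
  -- `s k s⁻¹ ∈ ⟨k⟩`
  have hk4 : (d * d * a⁻¹) ^ 4 ≠ 1 := by
    intro h6
    have h7 := orderOf_dvd_of_pow_eq_one h6
    rw [D.ok] at h7
    have h8 := Nat.le_of_dvd (by norm_num) h7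
    have h9 : 2 ^ 3 ≤ 2 ^ m := Nat.pow_le_pow_right (by norm_num) D.sit.qr.m3
    omega
  have hkn := D.sit.Kn hs D.kK
  have h2 : s * (d * d * a⁻¹) * s⁻¹ ∈ Subgroup.zpowers (d * d * a⁻¹) := by
    rcases D.K_struct with h | ⟨w, hw, hw1, hw2, hw3, hw4⟩
    · exact h _ hkn
    · obtain ⟨i, h | h⟩ := hw4 _ hkn
      · rw [h]; exact Subgroup.pow_mem _ (Subgroup.mem_zpowers _) i
      · exfalso
        apply hk4
        have e0 : w * (d * d * a⁻¹) ^ i * w⁻¹ = ((d * d * a⁻¹) ^ i)⁻¹ := by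
          rw [← conj_pow, show w * (d * d * a⁻¹) * w⁻¹ = (d * d * a⁻¹)⁻¹ by rw [hw1, mul_inv_cancel_right], inv_pow]
        have hzk : z * (d * d * a⁻¹) ^ i = (d * d * a⁻¹) ^ i * z :=
          ((show Commute z (d * d * a⁻¹) from (D.sit.z_centr _ (mem_K.mp D.kK).1).symm).pow_right i).eq
        have e1 : (w * (d * d * a⁻¹) ^ i) * (w * (d * d * a⁻¹) ^ i) = z := by
          calc (w * (d * d * a⁻¹) ^ i) * (w * (d * d * a⁻¹) ^ i)
              = (w * (d * d * a⁻¹) ^ i * w⁻¹) * (w * w) * (d * d * a⁻¹) ^ i := by group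
            _ = z := by rw [e0, hw2, mul_assoc, hzk, inv_mul_cancel_left]
        have e2 : (s * (d * d * a⁻¹) * s⁻¹) ^ 4 = 1 := by
          rw [h, pow_four_eq, e1, D.sit.qr.zz]
        rw [conj_pow] at e2
        have e3 : (d * d * a⁻¹) ^ 4 = s⁻¹ * (s * (d * d * a⁻¹) ^ 4 * s⁻¹) * s := by group
        rw [e3, e2]; group
  have h3 : s * c * s⁻¹ ∈ Subgroup.zpowers (d * d * a⁻¹) := by
    obtain ⟨n, hn⟩ := D.c_mem
    change (d * d * a⁻¹) ^ n = c at hn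
    rw [← hn, ← conj_zpow]
    exact Subgroup.zpow_mem _ h2 n
  -- as in `inv_c`
  have hcomm : Commute (s * c * s⁻¹) c := by
    obtain ⟨i, hi⟩ := h3
    obtain ⟨j, hj⟩ := D.c_mem
    change (d * d * a⁻¹) ^ i = _ at hi
    change (d * d * a⁻¹) ^ j = _ at hj
    have := (Commute.refl (d * d * a⁻¹)).zpow_zpow i j
    rwa [hi, hj] at this
  have hsz : s * z = z * s := D.sit.z_centr s hs
  have hsq : (s * c * s⁻¹) * (s * c * s⁻¹) = z := by
    calc (s * c * s⁻¹) * (s * c * s⁻¹) = s * (c * c) * s⁻¹ := by group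
      _ = z := by rw [D.cc, hsz, mul_inv_cancel_right]
  have hcinv : c⁻¹ * c⁻¹ = z := by rw [← mul_inv_rev, D.cc, D.sit.qr.zinv]
  have hg2 : (s * c * s⁻¹ * c⁻¹) * (s * c * s⁻¹ * c⁻¹) = 1 := by
    have h2 : Commute (s * c * s⁻¹) c⁻¹ := hcomm.inv_right
    calc (s * c * s⁻¹ * c⁻¹) * (s * c * s⁻¹ * c⁻¹) = (s * c * s⁻¹) * (c⁻¹ * (s * c * s⁻¹)) * c⁻¹ := by group
      _ = (s * c * s⁻¹) * ((s * c * s⁻¹) * c⁻¹) * c⁻¹ := by rw [h2.eq]
      _ = ((s * c * s⁻¹) * (s * c * s⁻¹)) * (c⁻¹ * c⁻¹) := by group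
      _ = 1 := by rw [hsq, hcinv, D.sit.qr.zz]
  by_cases hg1 : s * c * s⁻¹ * c⁻¹ = 1
  · left
    rw [mul_inv_eq_one] at hg1; exact hg1
  · right
    have h4 := invol_unique h1 D.ok (mul_mem h3 (inv_mem D.c_mem)) hg1 hg2
    rw [D.kz, mul_inv_eq_iff_eq_mul] at h4
    rw [h4, eq_inv_iff_mul_eq_one, mul_assoc, D.cc, D.sit.qr.zz]

lemma A1.r_conj {s : Ω} (hs : s ∈ S) : s * r * s⁻¹ = r ∨ s * r * s⁻¹ = r⁻¹ := by
  have h1 := m1 D.sit D.v D.ty
  have q := D.sit.qr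
  have ha4 : a * a * (a * a) ≠ 1 := by
    intro h
    have h' : a ^ 4 = 1 := by rw [show (4 : ℕ) = 2 * 2 from rfl, pow_mul, pow_two, pow_two]; exact h
    have h7 := orderOf_dvd_of_pow_eq_one h'
    rw [q.oa] at h7
    have h8 := Nat.le_of_dvd (by norm_num) h7
    have h9 : 2 ^ 3 ≤ 2 ^ m := Nat.pow_le_pow_right (by norm_num) q.m3
    omega
  have h2 : s * a * s⁻¹ ∈ Subgroup.zpowers a := by
    apply q.mem_A (D.sit.Rn s hs a q.aR)
    intro h
    apply ha4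
    have e1 : s * a * s⁻¹ * (s * a * s⁻¹) * (s * a * s⁻¹ * (s * a * s⁻¹)) = s * (a * a * (a * a)) * s⁻¹ := by group
    rw [e1] at h
    calc a * a * (a * a) = s⁻¹ * (s * (a * a * (a * a)) * s⁻¹) * s := by group
      _ = 1 := by rw [h]; group
  obtain ⟨p, hp⟩ := exists_nat_pow q.oa h2
  have h3 : s * r * s⁻¹ = r ^ p := by rw [q.hr, ← conj_pow, hp, ← pow_mul, ← pow_mul, mul_comm]
  rcases Nat.even_or_odd p with ⟨i, hi⟩ | ⟨i, hi⟩
  · exfalso
    have e1 : (s * a * s⁻¹) ^ 2 ^ (m - 1) = 1 := by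
      rw [hp, ← pow_mul, hi, ← two_mul]
      exact D.half i q.oa
    rw [conj_pow, ← q.hz, D.sit.z_centr s hs, mul_inv_cancel_right] at e1
    exact q.z1 e1
  · have hzr : Commute z r := (D.sit.z_centr _ (D.sit.RS (q.hr ▸ Subgroup.pow_mem _ q.aR _))).symm
    have e1 : r ^ p = r * z ^ i := by rw [hi, pow_succ, pow_mul, pow_two, q.rr, (hzr.pow_left i).eq]
    rcases Nat.even_or_odd i with ⟨j, hj⟩ | ⟨j, hj⟩
    · left
      rw [h3, e1, hj, ← two_mul, pow_mul, pow_two, q.zz, one_pow, mul_one]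
    · right
      rw [h3, e1, hj, pow_succ, pow_mul, pow_two, q.zz, one_pow, one_mul, q.rinv]

end

end Cfsg.Agent.H784.Q
end

-- part: H784/Q/CaseA4
section
/-! # S5176, section 4: the assembly of (A1)–(A5) (plan: tools/plans/S5176.md) -/
set_option autoImplicit false
set_option linter.unusedSectionVars false

namespace Cfsg.Agent.H784.Q
open Cfsg Cfsg.FusionSystem Cfsg.Agent.H752 Cfsg.Agent.H784.SF

universe u

variable {Ω : Type u} [Group Ω] {S : Subgroup Ω} [Finite S] {F : FusionSystem S} {R : Subgroup Ω} {a b z r : Ω} {m : ℕ}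
variable {t : Ω} {β : Ω → Ω} {c d : Ω}

lemma A1.βa (D : A1 F R a b z r m t β c d) : ∃ i : ℕ, Odd i ∧ β a = d ^ i := by
  obtain ⟨n, hn⟩ := exists_nat_pow D.od D.Bd
  refine ⟨n, ?_, hn⟩
  rw [← Nat.not_even_iff_odd]
  rintro ⟨i, hi⟩
  have h1 := inv1 D.sit D.v D.ty
  rw [hn, ← pow_mul, hi, ← two_mul, D.half i D.od] at h1
  exact VD.t1 D.sit D.v h1.symm

lemma A1.cinv (D : A1 F R a b z r m t β c d) : c⁻¹ = c * z := by
  rw [inv_eq_iff_mul_eq_one, ← mul_assoc, D.cc, D.sit.qr.zz]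

lemma A1.Vn (D : A1 F R a b z r m t β c d) {s : Ω} (hs : s ∈ S) : s * t * s⁻¹ = t ∨ s * t * s⁻¹ = t * z := by
  have e0 : s * t * s⁻¹ = (s * r * s⁻¹) * (s * c * s⁻¹) := by rw [D.tc]; group
  have hzc : z * c = c * z := (D.sit.z_centr _ (mem_K.mp D.cK).1).symm
  rw [e0]
  rcases D.r_conj hs with h1 | h1 <;> rcases D.c_conj hs with h2 | h2 <;> rw [h1, h2]
  · left; rw [D.tc]
  · right; rw [D.tc, D.cinv, mul_assoc]
  · right
    rw [D.tc, D.sit.qr.rinv, mul_assoc, hzc, mul_assoc]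
  · left
    rw [D.tc, D.sit.qr.rinv, D.cinv]
    calc r * z * (c * z) = r * (z * c) * z := by group
      _ = r * c * (z * z) := by rw [hzc]; group
      _ = r * c := by rw [D.sit.qr.zz, mul_one]

theorem Sit.caseA (h : Sit F R a b z r m) (v : VD F z t β) (ht : TyA S R a z r t) :
    ∃ c d k, CaseA F R a b z r m t c d k β := by
  obtain ⟨c, d, D⟩ := exists_A1 h v ht
  refine ⟨c, d, d * d * a⁻¹, ?_⟩
  exact
    { sit := h
      v := v
      tc := D.tc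
      cK := D.cK
      cc := D.cc
      dC := D.dC
      od := D.od
      da := D.da
      bd := D.bd'
      disj := by
        rw [eq_bot_iff]
        rintro x ⟨h1, h2⟩
        exact Subgroup.mem_bot.mpr (D.AB' h1 h2)
      td := D.dt.symm
      βa := D.βa
      hk := rfl
      kK := D.kK
      ok := D.ok
      K₀ := fun x hx hc => D.K₀ hx hc
      ck := D.c_mem
      Mβ := by
        rw [D.M_eq]
        exact fun x hx => D.βMM hx
      cM := fun s hs ha => D.cM hs ha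
      pow := fun s hs => D.power hs
      Vn := fun s hs => D.Vn hs
      K := D.K_struct }

end Cfsg.Agent.H784.Q
end

-- part: H780/QBasA
section
/-! # S5176 (A6): basic facts in case A (helper780; plan: tools/plans/S5176.md, section 4) -/
set_option autoImplicit false
set_option linter.unusedSectionVars false

namespace Cfsg.Agent.H784.Q
open Cfsg Cfsg.FusionSystem Cfsg.Agent.H752 Cfsg.Agent.H784.SF

universe u

variable {Ω : Type u} [Group Ω] {S : Subgroup Ω}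

lemma mem_cen {R : Subgroup Ω} {x : Ω} : x ∈ centralizerIn S R ↔ x ∈ S ∧ ∀ y ∈ R, x * y = y * x := by
  constructor
  · intro h
    exact ⟨h.1, fun y hy => (Subgroup.mem_centralizer_iff.1 h.2 y hy).symm⟩
  · rintro ⟨h1, h2⟩
    exact ⟨h1, Subgroup.mem_centralizer_iff.2 fun y hy => (h2 y hy).symm⟩

variable {F : FusionSystem S} {R : Subgroup Ω} {a b z r : Ω} {m : ℕ}

section
variable (q : QR R a b z r m)
include q

lemma QR.zpow_eq_one {i : ℤ} (h : a ^ i = 1) : Even i := by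
  have h1 := orderOf_dvd_iff_zpow_eq_one.2 h
  rw [q.oa] at h1
  obtain ⟨l, hl⟩ := h1
  have hm := q.m3
  obtain ⟨m', rfl⟩ : ∃ m', m = m' + 1 := ⟨m - 1, by omega⟩
  rw [hl]
  push_cast
  rw [pow_succ]
  exact ⟨2 ^ m' * l, by ring⟩

lemma QR.a4 : a * a * (a * a) ≠ 1 := by
  intro h
  have h1 : a ^ 4 = 1 := by rw [← h]; simp [pow_succ, mul_assoc]
  have h2 := orderOf_dvd_of_pow_eq_one h1
  rw [q.oa] at h2
  have h3 := Nat.le_of_dvd (by norm_num) h2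
  have h4 : 2 ^ 3 ≤ 2 ^ m := Nat.pow_le_pow_right (by norm_num) q.m3
  omega

lemma QR.a2 : a * a ≠ 1 := fun h => q.a4 (by rw [h, one_mul])

lemma QR.gen' : ∀ x ∈ R, ∃ i : ℤ, x = a ^ i ∨ x = b * a ^ i := by
  intro x hx
  obtain ⟨i, h | h⟩ := q.gen x hx
  · exact ⟨i, Or.inl (by rw [h, zpow_natCast])⟩
  · exact ⟨i, Or.inr (by rw [h, zpow_natCast])⟩

lemma QR.baz (i : ℤ) : b * a ^ i * b⁻¹ = a ^ (-i) := by
  rw [q.inv_b (Subgroup.zpow_mem _ (Subgroup.mem_zpowers a) i), zpow_neg]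

lemma QR.a_inv_b : a⁻¹ * b * a = b * a ^ (2 : ℤ) := by
  rw [← q.ba, mul_assoc, zpow_two]

end

section
variable (h : Sit F R a b z r m) [Finite S]
include h

lemma Sit.aS : a ∈ S := h.RS h.qr.aR
lemma Sit.bS : b ∈ S := h.RS h.qr.bR

lemma Sit.a_conj {s : Ω} (hs : s ∈ S) : ∃ i : ℤ, s * a * s⁻¹ = a ^ i := by
  have h1 := h.Rn s hs a h.qr.aR
  have h2 : s * a * s⁻¹ ∈ Subgroup.zpowers a := by
    apply h.qr.mem_A h1
    intro h3
    apply h.qr.a4
    have h4 : s * (a * a * (a * a)) * s⁻¹ = 1 := by rw [← h3]; group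
    rwa [mul_inv_eq_one, mul_eq_left] at h4
  obtain ⟨i, hi⟩ := h2
  exact ⟨i, hi.symm⟩

lemma Sit.a_conj_odd {s : Ω} (hs : s ∈ S) {i : ℤ} (hi : s * a * s⁻¹ = a ^ i) : Odd i := by
  by_contra hev
  rw [Int.not_odd_iff_even] at hev
  obtain ⟨l, hl⟩ := hev
  have hm := h.qr.m3
  have h1 : (s * a * s⁻¹) ^ 2 ^ (m - 1) = 1 := by
    rw [hi, hl, ← two_mul, zpow_mul, ← zpow_natCast, ← zpow_mul, ← zpow_mul]
    have h2 : (2 : ℤ) * (l * ((2 ^ (m - 1) : ℕ) : ℤ)) = ((2 ^ m : ℕ) : ℤ) * l := by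
      push_cast
      obtain ⟨m', rfl⟩ : ∃ m', m = m' + 1 := ⟨m - 1, by omega⟩
      simp only [Nat.add_sub_cancel, pow_succ]
      ring
    rw [h2, zpow_mul, zpow_natCast, ← h.qr.oa, pow_orderOf_eq_one, one_zpow]
  rw [conj_pow, ← h.qr.hz] at h1
  rw [mul_inv_eq_one, mul_eq_left] at h1
  exact h.qr.z1 h1

lemma Sit.b_conj {s : Ω} (hs : s ∈ S) : ∃ j : ℤ, s⁻¹ * b * s = b * a ^ j := by
  have h1 := h.Rn s⁻¹ (inv_mem hs) b h.qr.bR
  rw [inv_inv] at h1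
  obtain ⟨i, h2 | h2⟩ := h.qr.gen' _ h1
  · exfalso
    apply h.qr.bA
    obtain ⟨l, hl⟩ := h.a_conj hs
    have h3 : b = s * a ^ i * s⁻¹ := by rw [← h2]; group
    rw [h3, ← conj_zpow, hl]
    exact Subgroup.zpow_mem _ (Subgroup.zpow_mem _ (Subgroup.mem_zpowers a) _) _
  · exact ⟨i, h2⟩

/-- The parity of the action on `b`: a homomorphism `e : S → ZMod 2` with `e s = j` if `s⁻¹ b s = b a ^ j`. -/
lemma Sit.exists_e : ∃ e : Ω → ZMod 2, (∀ (s : Ω) (j : ℤ), s⁻¹ * b * s = b * a ^ j → e s = (j : ZMod 2)) ∧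
    ∀ s ∈ S, ∀ s' ∈ S, e (s * s') = e s + e s' := by
  classical
  refine ⟨fun s => if hs : ∃ j : ℤ, s⁻¹ * b * s = b * a ^ j then ((hs.choose : ℤ) : ZMod 2) else 0, ?_⟩
  have h1 : ∀ (s : Ω) (j : ℤ), s⁻¹ * b * s = b * a ^ j →
      (if hs : ∃ j : ℤ, s⁻¹ * b * s = b * a ^ j then ((hs.choose : ℤ) : ZMod 2) else 0) = (j : ZMod 2) := by
    intro s j hj
    have hs : ∃ j : ℤ, s⁻¹ * b * s = b * a ^ j := ⟨j, hj⟩
    rw [dif_pos hs]
    have h3 : a ^ j = a ^ hs.choose := mul_left_cancel (hj.symm.trans hs.choose_spec)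
    have h4 : a ^ (j - hs.choose) = 1 := by rw [zpow_sub, h3, mul_inv_cancel]
    have h5 := h.qr.zpow_eq_one h4
    have h6 : ((j - hs.choose : ℤ) : ZMod 2) = 0 := (ZMod.intCast_zmod_eq_zero_iff_dvd _ 2).2 (by exact_mod_cast h5.two_dvd)
    push_cast at h6
    exact (sub_eq_zero.1 h6).symm
  refine ⟨h1, ?_⟩
  intro s hs s' hs'
  obtain ⟨j, hj⟩ := h.b_conj hs
  obtain ⟨j', hj'⟩ := h.b_conj hs'
  obtain ⟨i, hi⟩ := h.a_conj (inv_mem hs')
  have hio := h.a_conj_odd (inv_mem hs') hi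
  rw [inv_inv] at hi
  have h2 : (s * s')⁻¹ * b * (s * s') = b * a ^ (j' + i * j) := by
    calc (s * s')⁻¹ * b * (s * s') = s'⁻¹ * (s⁻¹ * b * s) * s' := by group
      _ = (s'⁻¹ * b * s') * (s'⁻¹ * a ^ j * s') := by rw [hj]; group
      _ = (b * a ^ j') * (a ^ i) ^ j := by
        rw [hj', ← hi]
        have : (s'⁻¹ * a * s') ^ j = s'⁻¹ * a ^ j * s' := by
          have := conj_zpow (i := j) (a := s'⁻¹) (b := a)
          rwa [inv_inv] at this
        rw [this]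
      _ = b * a ^ (j' + i * j) := by rw [mul_assoc, ← zpow_mul, ← zpow_add]
  show (if hs : ∃ j : ℤ, (s * s')⁻¹ * b * (s * s') = b * a ^ j then ((hs.choose : ℤ) : ZMod 2) else 0) =
    (if hs : ∃ j : ℤ, s⁻¹ * b * s = b * a ^ j then ((hs.choose : ℤ) : ZMod 2) else 0) +
    (if hs : ∃ j : ℤ, s'⁻¹ * b * s' = b * a ^ j then ((hs.choose : ℤ) : ZMod 2) else 0)
  rw [h1 _ _ h2, h1 _ _ hj, h1 _ _ hj']
  obtain ⟨l, rfl⟩ := hio
  push_cast
  have h3 : (2 : ZMod 2) = 0 := by decide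
  rw [h3]
  ring

/-- the commutators of elements of `S` centralize `a` -/
lemma Sit.comm_a {x y : Ω} (hx : x ∈ S) (hy : y ∈ S) : (x * y * x⁻¹ * y⁻¹) * a = a * (x * y * x⁻¹ * y⁻¹) := by
  have key : ∀ x ∈ S, ∀ y ∈ S, x * y * a * (x * y)⁻¹ = y * x * a * (y * x)⁻¹ := by
    intro x hx y hy
    obtain ⟨i, hi⟩ := h.a_conj hx
    obtain ⟨j, hj⟩ := h.a_conj hy
    calc x * y * a * (x * y)⁻¹ = x * (y * a * y⁻¹) * x⁻¹ := by group
      _ = (x * a * x⁻¹) ^ j := by rw [hj, conj_zpow]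
      _ = (y * a * y⁻¹) ^ i := by rw [hi, hj, ← zpow_mul, ← zpow_mul, mul_comm]
      _ = y * (x * a * x⁻¹) * y⁻¹ := by rw [hi, conj_zpow]
      _ = y * x * a * (y * x)⁻¹ := by group
  have h1 := key x⁻¹ (inv_mem hx) y⁻¹ (inv_mem hy)
  have h2 : y⁻¹ * x⁻¹ * a * (y⁻¹ * x⁻¹)⁻¹ = x⁻¹ * y⁻¹ * a * (x⁻¹ * y⁻¹)⁻¹ := h1.symm
  calc (x * y * x⁻¹ * y⁻¹) * a = x * y * (x⁻¹ * y⁻¹ * a * (x⁻¹ * y⁻¹)⁻¹) * (x⁻¹ * y⁻¹) := by group
    _ = x * y * (y⁻¹ * x⁻¹ * a * (y⁻¹ * x⁻¹)⁻¹) * (x⁻¹ * y⁻¹) := by rw [h2]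
    _ = a * (x * y * x⁻¹ * y⁻¹) := by group

end

end Cfsg.Agent.H784.Q
end

-- part: H780/QBasB
section
/-! # S5176 (A6): basic facts in case A, part 2 (helper780; plan: tools/plans/S5176.md, section 4) -/
set_option autoImplicit false
set_option linter.unusedSectionVars false

namespace Cfsg.Agent.H784.Q
open Cfsg Cfsg.FusionSystem Cfsg.Agent.H752 Cfsg.Agent.H784.SF

universe u

variable {Ω : Type u} [Group Ω] {S : Subgroup Ω}
variable {F : FusionSystem S} {R : Subgroup Ω} {a b z r : Ω} {m : ℕ}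

section
variable {t c d k : Ω} {β : Ω → Ω} (h : CaseA F R a b z r m t c d k β) [Finite S]
include h

lemma CaseA.mem_M {x : Ω} : x ∈ Subgroup.zpowers a ⊔ Subgroup.zpowers d ↔ ∃ i j : ℤ, x = a ^ i * d ^ j := by
  have hc : Commute d a := h.da
  constructor
  · intro hx
    let T : Subgroup Ω :=
      { carrier := {x | ∃ i j : ℤ, x = a ^ i * d ^ j}
        one_mem' := ⟨0, 0, by simp⟩
        mul_mem' := by
          rintro _ _ ⟨i, j, rfl⟩ ⟨i', j', rfl⟩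
          refine ⟨i + i', j + j', ?_⟩
          have h1 : d ^ j * a ^ i' = a ^ i' * d ^ j := (hc.zpow_zpow j i').eq
          calc a ^ i * d ^ j * (a ^ i' * d ^ j') = a ^ i * (d ^ j * a ^ i') * d ^ j' := by group
            _ = a ^ (i + i') * d ^ (j + j') := by rw [h1, zpow_add, zpow_add]; group
        inv_mem' := by
          rintro _ ⟨i, j, rfl⟩
          refine ⟨-i, -j, ?_⟩
          rw [mul_inv_rev, zpow_neg, zpow_neg]
          exact ((hc.zpow_zpow j i).inv_inv).eq }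
    have hT : Subgroup.zpowers a ⊔ Subgroup.zpowers d ≤ T := by
      rw [sup_le_iff, Subgroup.zpowers_le, Subgroup.zpowers_le]
      exact ⟨⟨1, 0, by simp⟩, ⟨0, 1, by simp⟩⟩
    exact hT hx
  · rintro ⟨i, j, rfl⟩
    exact mul_mem (Subgroup.mem_sup_left (Subgroup.zpow_mem _ (Subgroup.mem_zpowers a) i))
      (Subgroup.mem_sup_right (Subgroup.zpow_mem _ (Subgroup.mem_zpowers d) j))

lemma CaseA.aM : a ∈ Subgroup.zpowers a ⊔ Subgroup.zpowers d := Subgroup.mem_sup_left (Subgroup.mem_zpowers a)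
lemma CaseA.dM : d ∈ Subgroup.zpowers a ⊔ Subgroup.zpowers d := Subgroup.mem_sup_right (Subgroup.mem_zpowers d)
lemma CaseA.zM : z ∈ Subgroup.zpowers a ⊔ Subgroup.zpowers d := Subgroup.mem_sup_left h.sit.qr.zA
lemma CaseA.tM : t ∈ Subgroup.zpowers a ⊔ Subgroup.zpowers d :=
  Subgroup.mem_sup_right (by rw [h.td]; exact Subgroup.pow_mem _ (Subgroup.mem_zpowers d) _)

lemma CaseA.tS : t ∈ S := by
  rw [h.td]
  exact pow_mem (mem_CS.1 h.dC).1 _

lemma CaseA.dS : d ∈ S := (mem_CS.1 h.dC).1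

lemma CaseA.ta : t * a = a * t := by
  have hc : Commute d a := h.da
  rw [h.td]
  exact (hc.pow_left _).eq

lemma CaseA.tt : t * t = 1 := by
  have hm := h.sit.qr.m3
  rw [h.td, ← pow_add, ← two_mul, mul_comm, ← pow_succ, Nat.sub_add_cancel (by omega), ← h.od, pow_orderOf_eq_one]

lemma CaseA.t1 : t ≠ 1 := by
  have hm := h.sit.qr.m3
  rw [h.td]
  intro h1
  have := orderOf_dvd_of_pow_eq_one h1
  rw [h.od] at this
  have h1 := Nat.le_of_dvd (by positivity) this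
  have h2 : 2 ^ (m - 1) < 2 ^ m := Nat.pow_lt_pow_right (by norm_num) (by omega)
  omega

lemma CaseA.tz1 : t * z ≠ 1 := by
  intro h1
  apply h.v.ne
  rw [mul_eq_one_iff_eq_inv, h.sit.qr.zinv] at h1
  exact h1

lemma CaseA.tzz : t * z ≠ z := by
  intro h1
  rw [mul_eq_right] at h1
  exact h.t1 h1

lemma CaseA.tzt : t * z = z * t := h.sit.z_centr t h.tS

lemma CaseA.MC : Subgroup.zpowers a ⊔ Subgroup.zpowers d ≤ CS S t := by
  rw [sup_le_iff, Subgroup.zpowers_le, Subgroup.zpowers_le]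
  exact ⟨mem_CS.2 ⟨h.sit.aS, h.ta.symm⟩, h.dC⟩

lemma CaseA.MS : Subgroup.zpowers a ⊔ Subgroup.zpowers d ≤ S := h.MC.trans inf_le_left

lemma CaseA.M_comm {x y : Ω} (hx : x ∈ Subgroup.zpowers a ⊔ Subgroup.zpowers d)
    (hy : y ∈ Subgroup.zpowers a ⊔ Subgroup.zpowers d) : x * y = y * x := by
  obtain ⟨i, j, rfl⟩ := h.mem_M.1 hx
  obtain ⟨i', j', rfl⟩ := h.mem_M.1 hy
  have hc : Commute d a := h.da
  have h1 : Commute (a ^ i * d ^ j) (a ^ i') :=
    Commute.mul_left ((Commute.refl a).zpow_zpow i i') (hc.zpow_zpow j i')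
  have h2 : Commute (a ^ i * d ^ j) (d ^ j') :=
    Commute.mul_left (hc.symm.zpow_zpow i j') ((Commute.refl d).zpow_zpow j j')
  exact (h1.mul_right h2).eq

lemma CaseA.conj_t {x y : Ω} (hx : x ∈ S) (hy : y ∈ S) : (x * y * x⁻¹ * y⁻¹) * t = t * (x * y * x⁻¹ * y⁻¹) := by
  have hzc : ∀ s ∈ S, s * z * s⁻¹ = z := fun s hs => by rw [h.sit.z_centr s hs, mul_inv_cancel_right]
  have hz2 := h.sit.qr.zz
  have key : ∀ x ∈ S, ∀ y ∈ S, x * y * t * (x * y)⁻¹ = y * x * t * (y * x)⁻¹ := by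
    intro x hx y hy
    have e1 : x * y * t * (x * y)⁻¹ = x * (y * t * y⁻¹) * x⁻¹ := by group
    have e2 : y * x * t * (y * x)⁻¹ = y * (x * t * x⁻¹) * y⁻¹ := by group
    have e3 : x * (t * z) * x⁻¹ = (x * t * x⁻¹) * z := by
      calc x * (t * z) * x⁻¹ = (x * t * x⁻¹) * (x * z * x⁻¹) := by group
        _ = _ := by rw [hzc x hx]
    have e4 : y * (t * z) * y⁻¹ = (y * t * y⁻¹) * z := by
      calc y * (t * z) * y⁻¹ = (y * t * y⁻¹) * (y * z * y⁻¹) := by group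
        _ = _ := by rw [hzc y hy]
    rw [e1, e2]
    rcases h.Vn x hx with hx' | hx' <;> rcases h.Vn y hy with hy' | hy'
    · rw [hy', hx', hy']
    · rw [hy', e3, hx', hy']
    · rw [hy', hx', e4, hy']
    · rw [hy', hx', e3, e4, hx', hy']
  have h1 := key x⁻¹ (inv_mem hx) y⁻¹ (inv_mem hy)
  calc (x * y * x⁻¹ * y⁻¹) * t = x * y * (x⁻¹ * y⁻¹ * t * (x⁻¹ * y⁻¹)⁻¹) * (x⁻¹ * y⁻¹) := by group
    _ = x * y * (y⁻¹ * x⁻¹ * t * (y⁻¹ * x⁻¹)⁻¹) * (x⁻¹ * y⁻¹) := by rw [h1]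
    _ = t * (x * y * x⁻¹ * y⁻¹) := by group

/-- `S' ≤ M`. -/
lemma CaseA.comm_M {x y : Ω} (hx : x ∈ S) (hy : y ∈ S) :
    x * y * x⁻¹ * y⁻¹ ∈ Subgroup.zpowers a ⊔ Subgroup.zpowers d :=
  h.cM _ (mem_CS.2 ⟨mul_mem (mul_mem (mul_mem hx hy) (inv_mem hx)) (inv_mem hy), h.conj_t hx hy⟩) (h.sit.comm_a hx hy)

lemma CaseA.M_conj {x y : Ω} (hx : x ∈ S) (hy : y ∈ Subgroup.zpowers a ⊔ Subgroup.zpowers d) :
    x * y * x⁻¹ ∈ Subgroup.zpowers a ⊔ Subgroup.zpowers d := by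
  have h1 := mul_mem (h.comm_M hx (h.MS hy)) hy
  simpa using h1

lemma CaseA.bt : b * t * b⁻¹ = t * z := by
  have h1 : b * d * b⁻¹ = d * a⁻¹ := by rw [h.bd, mul_inv_cancel_right]
  have hc : Commute d a⁻¹ := (show Commute d a from h.da).inv_right
  rw [h.td, ← conj_pow, h1, hc.mul_pow, inv_pow, ← h.sit.qr.hz, h.sit.qr.zinv]

lemma CaseA.omega {x : Ω} (hx : x ∈ Subgroup.zpowers a ⊔ Subgroup.zpowers d) (h2 : x * x = 1) :
    x = 1 ∨ x = z ∨ x = t ∨ x = t * z := by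
  obtain ⟨i, j, rfl⟩ := h.mem_M.1 hx
  have hc : Commute d a := h.da
  have hm := h.sit.qr.m3
  have h3 : a ^ i * a ^ i * (d ^ j * d ^ j) = 1 := by
    rw [← h2]
    have h1 : d ^ j * a ^ i = a ^ i * d ^ j := (hc.zpow_zpow j i).eq
    calc a ^ i * a ^ i * (d ^ j * d ^ j) = a ^ i * (a ^ i * d ^ j) * d ^ j := by group
      _ = a ^ i * (d ^ j * a ^ i) * d ^ j := by rw [h1]
      _ = a ^ i * d ^ j * (a ^ i * d ^ j) := by group
  have h4 : a ^ i * a ^ i = 1 := by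
    have h5 : a ^ i * a ^ i ∈ Subgroup.zpowers a ⊓ Subgroup.zpowers d := by
      refine ⟨mul_mem (Subgroup.zpow_mem _ (Subgroup.mem_zpowers a) i) (Subgroup.zpow_mem _ (Subgroup.mem_zpowers a) i), ?_⟩
      rw [mul_eq_one_iff_eq_inv.1 h3]
      exact Subgroup.inv_mem _ (mul_mem (Subgroup.zpow_mem _ (Subgroup.mem_zpowers d) j) (Subgroup.zpow_mem _ (Subgroup.mem_zpowers d) j))
    rw [h.disj] at h5
    exact h5
  have h6 : d ^ j * d ^ j = 1 := by rw [h4, one_mul] at h3; exact h3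
  have h7 : a ^ i = 1 ∨ a ^ i = z := by
    by_cases h8 : a ^ i = 1
    · exact Or.inl h8
    · right
      rw [h.sit.qr.hz]
      exact invol_unique (by omega) h.sit.qr.oa (Subgroup.zpow_mem _ (Subgroup.mem_zpowers a) i) h8 h4
  have h8 : d ^ j = 1 ∨ d ^ j = t := by
    by_cases h8 : d ^ j = 1
    · exact Or.inl h8
    · right
      rw [h.td]
      exact invol_unique (by omega) h.od (Subgroup.zpow_mem _ (Subgroup.mem_zpowers d) j) h8 h6
  rcases h7 with h7 | h7 <;> rcases h8 with h8 | h8 <;> rw [h7, h8]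
  · left; rw [one_mul]
  · right; right; left; rw [one_mul]
  · right; left; rw [mul_one]
  · right; right; right; exact h.tzt.symm

section e
variable {e : Ω → ZMod 2} (he : ∀ (s : Ω) (j : ℤ), s⁻¹ * b * s = b * a ^ j → e s = (j : ZMod 2))
    (hmul : ∀ s ∈ S, ∀ s' ∈ S, e (s * s') = e s + e s')
include he

lemma CaseA.e_one : e 1 = 0 := by
  have := he 1 0 (by simp)
  simpa using this

lemma CaseA.e_a : e a = 0 := by
  rw [he a 2 h.sit.qr.a_inv_b]; decide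

lemma CaseA.e_b : e b = 0 := by
  have := he b 0 (by simp)
  simpa using this

lemma CaseA.e_d : e d = 1 := by
  have h1 : d⁻¹ * b * d = b * a ^ (1 : ℤ) := by
    rw [zpow_one, h.sit.qr.ba]
    calc d⁻¹ * b * d = d⁻¹ * (b * d) := by group
      _ = a⁻¹ * b := by rw [h.bd]; group
  rw [he d 1 h1]; simp

lemma CaseA.e_K {x : Ω} (hx : x ∈ centralizerIn S R) : e x = 0 := by
  have h1 : x⁻¹ * b * x = b * a ^ (0 : ℤ) := by
    rw [zpow_zero, mul_one, mul_assoc, ← (mem_cen.1 hx).2 b h.sit.qr.bR, inv_mul_cancel_left]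
  rw [he x 0 h1]; simp

include hmul

lemma CaseA.e_inv {x : Ω} (hx : x ∈ S) : e x⁻¹ = e x := by
  have h1 := hmul x hx x⁻¹ (inv_mem hx)
  rw [mul_inv_cancel, h.e_one he] at h1
  have h2 : ∀ u v : ZMod 2, 0 = u + v → v = u := by decide
  exact h2 _ _ h1

lemma CaseA.e_conj {x y : Ω} (hx : x ∈ S) (hy : y ∈ S) : e (y * x * y⁻¹) = e x := by
  rw [hmul _ (mul_mem hy hx) _ (inv_mem hy), hmul _ hy _ hx, h.e_inv he hmul hy]
  have h2 : ∀ u v : ZMod 2, u + v + u = v := by decide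
  exact h2 _ _

lemma CaseA.e_zpow {x : Ω} (hx : x ∈ S) (i : ℤ) : e (x ^ i) = i * e x := by
  induction i using Int.induction_on with
  | zero => rw [zpow_zero, h.e_one he]; simp
  | succ i ih =>
    rw [zpow_add, zpow_one, hmul _ (zpow_mem hx _) _ hx, ih]
    push_cast; ring
  | pred i ih =>
    rw [sub_eq_add_neg, zpow_add, zpow_neg_one, hmul _ (zpow_mem hx _) _ (inv_mem hx), ih, h.e_inv he hmul hx]
    have h2 : e x = - e x := by
      have : ∀ u : ZMod 2, u = -u := by decide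
      exact this _
    push_cast
    rw [add_mul]
    nth_rw 2 [h2]
    ring

lemma CaseA.e_M {x : Ω} (hx : x ∈ Subgroup.zpowers a ⊔ Subgroup.zpowers d) :
    e x = 0 ↔ x ^ 2 ^ (m - 1) = 1 ∨ x ^ 2 ^ (m - 1) = z := by
  obtain ⟨i, j, rfl⟩ := h.mem_M.1 hx
  have hc : Commute d a := h.da
  have h1 : (a ^ i * d ^ j) ^ 2 ^ (m - 1) = z ^ i * t ^ j := by
    rw [(hc.symm.zpow_zpow i j).mul_pow, h.sit.qr.hz, h.td, ← zpow_natCast, ← zpow_natCast, ← zpow_natCast, ← zpow_natCast,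
      ← zpow_mul, ← zpow_mul, ← zpow_mul, ← zpow_mul, mul_comm i, mul_comm j]
  have h2 : e (a ^ i * d ^ j) = j := by
    rw [hmul _ (zpow_mem h.sit.aS _) _ (zpow_mem h.dS _), h.e_zpow he hmul h.sit.aS, h.e_zpow he hmul h.dS, h.e_a he,
      h.e_d he]
    ring
  rw [h1, h2]
  have h3 : z ^ i = 1 ∨ z ^ i = z := by
    rcases Int.even_or_odd i with ⟨l, rfl⟩ | ⟨l, rfl⟩
    · left; rw [← two_mul, zpow_mul, zpow_two, h.sit.qr.zz, one_zpow]
    · right; rw [zpow_add, zpow_mul, zpow_two, h.sit.qr.zz, one_zpow, one_mul, zpow_one]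
  rcases Int.even_or_odd j with ⟨l, rfl⟩ | ⟨l, rfl⟩
  · have h4 : t ^ (l + l) = 1 := by rw [← two_mul, zpow_mul, zpow_two, h.tt, one_zpow]
    rw [h4, mul_one]
    refine ⟨fun _ => h3, fun _ => ?_⟩
    rw [← two_mul]
    push_cast
    have : (2 : ZMod 2) = 0 := by decide
    rw [this, zero_mul]
  · have h4 : t ^ (2 * l + 1) = t := by rw [zpow_add, zpow_mul, zpow_two, h.tt, one_zpow, one_mul, zpow_one]
    rw [h4]
    constructor
    · intro h5
      exfalso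
      push_cast at h5
      have : (2 : ZMod 2) = 0 := by decide
      rw [this, zero_mul, zero_add] at h5
      exact one_ne_zero h5
    · rintro h5
      exfalso
      rcases h3 with h3 | h3 <;> rw [h3] at h5 <;> rcases h5 with h5 | h5
      · exact h.t1 (by rwa [one_mul] at h5)
      · exact h.v.ne (by rwa [one_mul] at h5)
      · rw [← h.tzt] at h5; exact h.tz1 h5
      · rw [← h.tzt] at h5; exact h.tzz h5

end e

end

end Cfsg.Agent.H784.Q
end
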