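import Cfsg.Agent.H780.QInner
import Cfsg.Agent.H780.QSD
import Cfsg.Agent.H780.QGood
import Cfsg.Agent.H757.Sf.FactG
import Cfsg.Agent.H780.QTrans
import Cfsg.Agent.H745.Q.Gener
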