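import Cfsg.Agent.H780.SpOddMain_mg
import Mathlib
set_option linter.all false

-- part: H780/SpTwo
section
/-!
# Saturated systems over a Sylow subgroup of `Sp₄(K)`, `p = 2`: essential subgroups (helper780)
-/

set_option autoImplicit false

universe u v

namespace Cfsg.Agent.H780

open Cfsg Cfsg.FusionSystem Cfsg.Agent.H802

variable {Ω : Type u} [Group Ω] {S : Subgroup Ω}

/-- Every automorphism in `Aut_F(S)` has a power with exponent prime to `p` which is inner. -/
theorem exists_pow_mem_autInducedBy [Finite S] {p : ℕ} [Fact p.Prime] (hS : IsPGroup p S)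
    {F : FusionSystem S} (hF : F.IsSaturated p) {α : MulAut S} (hα : α ∈ F.autGroup S) :
    ∃ b : ℕ, ¬ p ∣ b ∧ α ^ b ∈ autInducedBy S S := by
  have hSa := isFullyAutomized_of_isFullyNormalized hS hF (isFullyNormalized_top F)
  obtain ⟨-, R, hR⟩ := hSa
  have hRn : (R : Subgroup (F.autGroup S)).Normal := by
    refine ⟨fun u hu g => ?_⟩
    rw [hR] at hu ⊢
    obtain ⟨a, ha, hau⟩ := (mem_autInducedBy_iff S S _).1 hu
    refine (mem_autInducedBy_iff S S _).2 ⟨((g : MulAut S) ⟨a, ha⟩ : S), ((g : MulAut S) ⟨a, ha⟩).2, fun x => ?_⟩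
    have h1 : (u : MulAut S) ((g : MulAut S)⁻¹ x) = ⟨a, ha⟩ * ((g : MulAut S)⁻¹ x) * ⟨a, ha⟩⁻¹ :=
      Subtype.ext (hau _)
    show (((g : MulAut S) ((u : MulAut S) ((g : MulAut S)⁻¹ x)) : S) : Ω) = _
    rw [h1, map_mul, map_mul, map_inv]
    have h2 : (g : MulAut S) ((g : MulAut S)⁻¹ x) = x := (g : MulAut S).apply_symm_apply x
    rw [h2]
    rfl
  have hfin : Finite (MulAut S) := inferInstance
  obtain ⟨a, b, hb, hab⟩ := Nat.exists_eq_pow_mul_and_not_dvd (orderOf_pos α).ne' p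
    (Fact.out : p.Prime).ne_one
  refine ⟨b, hb, ?_⟩
  set x : F.autGroup S := ⟨α, hα⟩ ^ b with hx
  have hxp : IsPGroup p (Subgroup.zpowers x) := by
    rintro ⟨y, hy⟩
    obtain ⟨k, rfl⟩ := Subgroup.mem_zpowers_iff.1 hy
    refine ⟨a, Subtype.ext ?_⟩
    show (x ^ k) ^ p ^ a = 1
    have h1 : x ^ p ^ a = 1 := by
      apply Subtype.ext
      show (α ^ b) ^ p ^ a = 1
      rw [← pow_mul, mul_comm, ← hab, pow_orderOf_eq_one]
    rw [← zpow_natCast, ← zpow_mul, mul_comm, zpow_mul, zpow_natCast, h1, one_zpow]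
  have h1 := H794.le_pCore_of_normal_sylow R hRn _ hxp (Subgroup.mem_zpowers x)
  have h2 := H794.pCore_le_sylow R h1
  rw [hR] at h2
  exact h2

variable {K : Type v} [Field K] (C : SpC S K)

section two

variable (h2 : (2 : K) = 0)

include h2

theorem SpC.Z2_comm {x y : Ω} (hx : x ∈ C.Z2) (hy : y ∈ S) : x * y = y * x := by
  rw [C.comm_iff hx.1 hy, hx.2.1, hx.2.2]
  constructor
  · ring
  · linear_combination (-C.t y * C.u x) * h2

omit h2 in
theorem SpC.mem_Z2_of_comm {x : Ω} (hx : x ∈ S) (h : ∀ y ∈ S, x * y = y * x) : x ∈ C.Z2 := by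
  obtain ⟨y, hy, h3, h4, -, -⟩ := C.surj 1 0 0 0
  obtain ⟨w, hw, h6, h7, -, -⟩ := C.surj 0 1 0 0
  have h9 := ((C.comm_iff hx hy).1 (h y hy)).1
  have h10 := ((C.comm_iff hx hw).1 (h w hw)).1
  rw [h3, h4] at h9
  rw [h6, h7] at h10
  exact ⟨hx, by linear_combination h10, by linear_combination -h9⟩

omit h2 in
theorem SpC.t_eq_zero_two {x y : Ω} (hx : x ∈ C.M) (hxZ : x ∉ C.Z2) (hy : y ∈ S) (h : x * y = y * x) :
    C.t y = 0 := by
  have h1 := ((C.comm_iff hx.1 hy).1 h).1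
  rw [hx.2] at h1
  have h3 : C.s x ≠ 0 := fun h3 => hxZ ⟨hx.1, hx.2, h3⟩
  have : C.t y * C.s x = 0 := by linear_combination -h1
  exact (mul_eq_zero.1 this).resolve_right h3

omit h2 in
theorem SpC.mem_L0 {x : Ω} : x ∈ C.L 0 ↔ x ∈ S ∧ C.s x = 0 := by
  rw [C.mem_L, zero_mul]

omit h2 in
theorem SpC.s_eq_zero_two {x y : Ω} (hx : x ∈ C.L 0) (hxZ : x ∉ C.Z2) (hy : y ∈ S) (h : x * y = y * x) :
    C.s y = 0 := by
  rw [C.mem_L0] at hx
  have h1 := ((C.comm_iff hx.1 hy).1 h).1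
  rw [hx.2] at h1
  have h3 : C.t x ≠ 0 := fun h3 => hxZ ⟨hx.1, h3, hx.2⟩
  have : C.t x * C.s y = 0 := by linear_combination h1
  exact (mul_eq_zero.1 this).resolve_left h3

theorem SpC.L0_comm {x y : Ω} (hx : x ∈ C.L 0) (hy : y ∈ C.L 0) : x * y = y * x := by
  rw [C.mem_L0] at hx hy
  rw [C.comm_iff hx.1 hy.1, hx.2, hy.2]
  constructor
  · ring
  · linear_combination (C.t x * C.u y - C.t y * C.u x) * h2

theorem SpC.sq_eq_one_iff {x : Ω} (hx : x ∈ S) : x * x = 1 ↔ C.t x = 0 ∨ C.s x = 0 := by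
  constructor
  · intro h
    have h1 := congrArg C.u h
    rw [C.u_mul hx hx, C.u_one] at h1
    have h3 : C.t x * C.s x = 0 := by linear_combination h1 - C.u x * h2
    exact mul_eq_zero.1 h3
  · intro h
    have h3 : C.t x * C.s x = 0 := mul_eq_zero.2 h
    apply C.inj (S.mul_mem hx hx) S.one_mem
    · rw [C.t_mul hx hx, C.t_one]; linear_combination C.t x * h2
    · rw [C.s_mul hx hx, C.s_one]; linear_combination C.s x * h2
    · rw [C.u_mul hx hx, C.u_one]; linear_combination C.u x * h2 + h3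
    · rw [C.z_mul hx hx, C.z_one]
      linear_combination (C.z x + C.t x * C.u x) * h2 + C.t x * h3

omit h2 in
/-- A nonabelian subgroup of `S` has centralizer in `Z₂`. -/
theorem SpC.centralizer_le_Z2 {P : Subgroup Ω} (hP : P ≤ S) {a b : Ω} (ha : a ∈ P) (hb : b ∈ P)
    (hab : a * b ≠ b * a) {y : Ω} (hy : y ∈ S) (hyP : ∀ x ∈ P, y * x = x * y) : y ∈ C.Z2 := by
  by_contra hyZ
  by_cases hty : C.t y = 0
  · have h3 : ∀ x ∈ P, C.t x = 0 := fun x hx =>
      C.t_eq_zero_two ⟨hy, hty⟩ hyZ (hP hx) (hyP x hx)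
    exact hab (C.M_comm ⟨hP ha, h3 a ha⟩ ⟨hP hb, h3 b hb⟩)
  · exact hab (C.comm_of_comm hy hty (hP ha) (hP hb) (hyP a ha) (hyP b hb))

/-- **Essential subgroups for `p = 2`.** -/
theorem SpC.essential_cases_two [Finite S] (hS : IsPGroup 2 S)
    {F : FusionSystem S} (hF : F.IsSaturated 2) {P : Subgroup Ω} (hP : F.IsEssential 2 P) :
    P = C.M ∨ P = C.L 0 := by
  have hPS := hP.1.1
  have hCP : centralizerIn S P ≤ P := hP.1.2 P (isConj_refl F hPS)
  have hZP : C.Z2 ≤ P := fun z hz => hCP (mem_centralizerIn.2 ⟨hz.1, fun y hy =>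
    (C.Z2_comm h2 hz (hPS hy)).symm⟩)
  have hZfix : ∀ g ∈ S, ∀ x ∈ C.Z2, g * x * g⁻¹ = x := by
    intro g hg x hx
    rw [← C.Z2_comm h2 hx hg, mul_inv_cancel_right]
  -- if `Z₂` is `Aut_F(P)`-invariant then `P = S`
  have key : (∀ α ∈ F.autGroup P, ∀ x : P, (x : Ω) ∈ C.Z2 → ((α x : P) : Ω) ∈ C.Z2) → False := by
    intro hinv
    apply ne_of_isEssential hS hF hP
    apply le_antisymm hPS
    intro g hg
    exact mem_of_chain2 hS hP C.Z2 hZP hinv hg (fun x hx => C.comm_mem_Z2 hg (hPS hx)) (hZfix g hg)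
  by_cases hab : ∃ a ∈ P, ∃ b ∈ P, a * b ≠ b * a
  · exfalso
    obtain ⟨a, ha, b, hb, hab⟩ := hab
    have hcen : ∀ x ∈ P, x ∈ C.Z2 ↔ ∀ y ∈ P, x * y = y * x := by
      intro x hx
      refine ⟨fun h y hy => C.Z2_comm h2 h (hPS hy), fun h => ?_⟩
      exact C.centralizer_le_Z2 hPS ha hb hab (hPS hx) h
    exact key (fun α _ x hx => center_invariant hcen α x hx)
  · push Not at hab
    -- `P ≠ Z₂`
    obtain ⟨x, hx, hxZ⟩ : ∃ x ∈ P, x ∉ C.Z2 := by
      by_contra hcon
      push Not at hcon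
      apply ne_of_isEssential hS hF hP
      apply le_antisymm hPS
      intro g hg
      exact hCP (mem_centralizerIn.2 ⟨hg, fun y hy => C.Z2_comm h2 (hcon y hy) hg⟩)
    by_cases htx : C.t x = 0
    · left
      apply le_antisymm
      · intro y hy
        exact ⟨hPS hy, C.t_eq_zero_two ⟨hPS hx, htx⟩ hxZ (hPS hy) (hab x hx y hy)⟩
      · intro y hy
        refine hCP (mem_centralizerIn.2 ⟨hy.1, fun w hw => ?_⟩)
        exact C.M_comm ⟨hPS hw, C.t_eq_zero_two ⟨hPS hx, htx⟩ hxZ (hPS hw) (hab x hx w hw)⟩ hy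
    · by_cases hsx : C.s x = 0
      · right
        have hxL : x ∈ C.L 0 := C.mem_L0.2 ⟨hPS hx, hsx⟩
        apply le_antisymm
        · intro y hy
          exact C.mem_L0.2 ⟨hPS hy, C.s_eq_zero_two hxL hxZ (hPS hy) (hab x hx y hy)⟩
        · intro y hy
          refine hCP (mem_centralizerIn.2 ⟨hy.1, fun w hw => ?_⟩)
          exact C.L0_comm h2 (C.mem_L0.2 ⟨hPS hw, C.s_eq_zero_two hxL hxZ (hPS hw) (hab x hx w hw)⟩) hy
      · exfalso
        have hZ2P : ∀ y ∈ P, y ∈ C.Z2 ↔ y * y = 1 := by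
          intro y hy
          rw [C.sq_eq_one_iff h2 (hPS hy)]
          constructor
          · exact fun h => Or.inl h.2.1
          · intro h
            have h3 := ((C.comm_iff (hPS hx) (hPS hy)).1 (hab x hx y hy)).1
            rcases h with h | h
            · rw [h, zero_mul] at h3
              exact ⟨hPS hy, h, (mul_eq_zero.1 h3).resolve_left htx⟩
            · rw [h, mul_zero] at h3
              exact ⟨hPS hy, (mul_eq_zero.1 h3.symm).resolve_right hsx, h⟩
        apply key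
        intro α _ y hy
        rw [hZ2P _ (α y).2]
        rw [hZ2P _ y.2] at hy
        have h3 : y * y = 1 := Subtype.ext hy
        have h4 := congrArg α h3
        rw [map_mul, map_one] at h4
        exact congrArg Subtype.val h4

/-- `Z₂` is invariant under `Aut(S)`. -/
theorem SpC.Z2_inv_two (α : MulAut S) (x : S) (hx : (x : Ω) ∈ C.Z2) : ((α x : S) : Ω) ∈ C.Z2 :=
  center_invariant (fun _ hx => ⟨fun h _ hy => C.Z2_comm h2 h hy, fun h => C.mem_Z2_of_comm hx h⟩) α x hx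

/-- The image of `M` under an automorphism of `S` is `M` or `L₀`. -/
theorem SpC.M_or (α : MulAut S) :
    (∀ x : S, (x : Ω) ∈ C.M → ((α x : S) : Ω) ∈ C.M) ∨
      (∀ x : S, (x : Ω) ∈ C.M → ((α x : S) : Ω) ∈ C.L 0) := by
  obtain ⟨y, hy, h3, h4, -, -⟩ := C.surj 0 1 0 0
  have hyM : y ∈ C.M := ⟨hy, h3⟩
  have hyZ : y ∉ C.Z2 := fun h => one_ne_zero (h4.symm.trans h.2.2)
  have h7 : ((α ⟨y, hy⟩ : S) : Ω) ∉ C.Z2 := by
    intro h
    have h8 := C.Z2_inv_two h2 α⁻¹ _ h
    have h9 : α⁻¹ (α ⟨y, hy⟩) = ⟨y, hy⟩ := α.symm_apply_apply _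
    rw [h9] at h8
    exact hyZ h8
  have h8 : ((α ⟨y, hy⟩ : S) : Ω) * (α ⟨y, hy⟩ : S) = 1 := by
    have h9 : (⟨y, hy⟩ : S) * ⟨y, hy⟩ = 1 := Subtype.ext ((C.sq_eq_one_iff h2 hy).2 (Or.inl h3))
    have h10 := congrArg α h9
    rw [map_mul, map_one] at h10
    exact congrArg Subtype.val h10
  have hcomm : ∀ x : S, (x : Ω) ∈ C.M → ((α ⟨y, hy⟩ : S) : Ω) * (α x : S) = (α x : S) * (α ⟨y, hy⟩ : S) := by
    intro x hx
    have h9 : (⟨y, hy⟩ : S) * x = x * ⟨y, hy⟩ := Subtype.ext (C.M_comm hyM hx)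
    have h10 := congrArg α h9
    rw [map_mul, map_mul] at h10
    exact congrArg Subtype.val h10
  rcases (C.sq_eq_one_iff h2 (α ⟨y, hy⟩).2).1 h8 with h | h
  · left
    intro x hx
    exact ⟨(α x).2, C.t_eq_zero_two ⟨(α ⟨y, hy⟩).2, h⟩ h7 (α x).2 (hcomm x hx)⟩
  · right
    intro x hx
    exact C.mem_L0.2 ⟨(α x).2, C.s_eq_zero_two (C.mem_L0.2 ⟨(α ⟨y, hy⟩).2, h⟩) h7 (α x).2 (hcomm x hx)⟩

theorem SpC.L0_or (α : MulAut S) :
    (∀ x : S, (x : Ω) ∈ C.L 0 → ((α x : S) : Ω) ∈ C.M) ∨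
      (∀ x : S, (x : Ω) ∈ C.L 0 → ((α x : S) : Ω) ∈ C.L 0) := by
  obtain ⟨y, hy, h3, h4, -, -⟩ := C.surj 1 0 0 0
  have hyM : y ∈ C.L 0 := C.mem_L0.2 ⟨hy, h4⟩
  have hyZ : y ∉ C.Z2 := fun h => one_ne_zero (h3.symm.trans h.2.1)
  have h7 : ((α ⟨y, hy⟩ : S) : Ω) ∉ C.Z2 := by
    intro h
    have h8 := C.Z2_inv_two h2 α⁻¹ _ h
    have h9 : α⁻¹ (α ⟨y, hy⟩) = ⟨y, hy⟩ := α.symm_apply_apply _
    rw [h9] at h8
    exact hyZ h8
  have h8 : ((α ⟨y, hy⟩ : S) : Ω) * (α ⟨y, hy⟩ : S) = 1 := by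
    have h9 : (⟨y, hy⟩ : S) * ⟨y, hy⟩ = 1 := Subtype.ext ((C.sq_eq_one_iff h2 hy).2 (Or.inr h4))
    have h10 := congrArg α h9
    rw [map_mul, map_one] at h10
    exact congrArg Subtype.val h10
  have hcomm : ∀ x : S, (x : Ω) ∈ C.L 0 → ((α ⟨y, hy⟩ : S) : Ω) * (α x : S) = (α x : S) * (α ⟨y, hy⟩ : S) := by
    intro x hx
    have h9 : (⟨y, hy⟩ : S) * x = x * ⟨y, hy⟩ := Subtype.ext (C.L0_comm h2 hyM hx)
    have h10 := congrArg α h9
    rw [map_mul, map_mul] at h10
    exact congrArg Subtype.val h10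
  rcases (C.sq_eq_one_iff h2 (α ⟨y, hy⟩).2).1 h8 with h | h
  · left
    intro x hx
    exact ⟨(α x).2, C.t_eq_zero_two ⟨(α ⟨y, hy⟩).2, h⟩ h7 (α x).2 (hcomm x hx)⟩
  · right
    intro x hx
    exact C.mem_L0.2 ⟨(α x).2, C.s_eq_zero_two (C.mem_L0.2 ⟨(α ⟨y, hy⟩).2, h⟩) h7 (α x).2 (hcomm x hx)⟩

omit h2 in
/-- Every element of `S` is a product of an element of `M` and one of `L₀`. -/
theorem SpC.exists_mul (x : S) : ∃ a b : S, (a : Ω) ∈ C.M ∧ (b : Ω) ∈ C.L 0 ∧ x = a * b := by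
  obtain ⟨b, hb, h3, h4, -, -⟩ := C.surj (C.t x) 0 0 0
  refine ⟨x * (⟨b, hb⟩ : S)⁻¹, ⟨b, hb⟩, ⟨(x * (⟨b, hb⟩ : S)⁻¹).2, ?_⟩, C.mem_L0.2 ⟨hb, h4⟩, by group⟩
  show C.t (x * b⁻¹) = 0
  rw [C.t_mul x.2 (S.inv_mem hb), C.t_inv hb, h3, add_neg_cancel]

/-- Elements of `Aut_F(S)` preserve `M` and `L₀`. -/
theorem SpC.inv_two [Finite S] (hS : IsPGroup 2 S) {F : FusionSystem S} (hF : F.IsSaturated 2)
    {α : MulAut S} (hα : α ∈ F.autGroup S) :
    (∀ x : S, (x : Ω) ∈ C.M → ((α x : S) : Ω) ∈ C.M) ∧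
      (∀ x : S, (x : Ω) ∈ C.L 0 → ((α x : S) : Ω) ∈ C.L 0) := by
  -- elements outside
  obtain ⟨a, ha, ha1, ha2, -, -⟩ := C.surj 1 1 0 0
  have hnot : ∀ β : MulAut S, ¬ ((∀ x : S, (x : Ω) ∈ C.M → ((β x : S) : Ω) ∈ C.M) ∧
      (∀ x : S, (x : Ω) ∈ C.L 0 → ((β x : S) : Ω) ∈ C.M)) := by
    rintro β ⟨h3, h4⟩
    have h5 : ∀ x : S, ((β x : S) : Ω) ∈ C.M := by
      intro x
      obtain ⟨y, z, hy, hz, rfl⟩ := C.exists_mul x
      rw [map_mul]
      exact C.M.mul_mem (h3 y hy) (h4 z hz)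
    have h6 := h5 (β⁻¹ ⟨a, ha⟩)
    have h7 : β (β⁻¹ ⟨a, ha⟩) = ⟨a, ha⟩ := β.apply_symm_apply _
    rw [h7] at h6
    exact one_ne_zero (ha1.symm.trans h6.2)
  have hnot' : ∀ β : MulAut S, ¬ ((∀ x : S, (x : Ω) ∈ C.M → ((β x : S) : Ω) ∈ C.L 0) ∧
      (∀ x : S, (x : Ω) ∈ C.L 0 → ((β x : S) : Ω) ∈ C.L 0)) := by
    rintro β ⟨h3, h4⟩
    have h5 : ∀ x : S, ((β x : S) : Ω) ∈ C.L 0 := by
      intro x
      obtain ⟨y, z, hy, hz, rfl⟩ := C.exists_mul x
      rw [map_mul]
      exact (C.L 0).mul_mem (h3 y hy) (h4 z hz)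
    have h6 := h5 (β⁻¹ ⟨a, ha⟩)
    have h7 : β (β⁻¹ ⟨a, ha⟩) = ⟨a, ha⟩ := β.apply_symm_apply _
    rw [h7] at h6
    exact one_ne_zero (ha2.symm.trans (C.mem_L0.1 h6).2)
  -- the two types
  let good : MulAut S → Prop := fun β => (∀ x : S, (x : Ω) ∈ C.M → ((β x : S) : Ω) ∈ C.M) ∧
      (∀ x : S, (x : Ω) ∈ C.L 0 → ((β x : S) : Ω) ∈ C.L 0)
  let bad : MulAut S → Prop := fun β => (∀ x : S, (x : Ω) ∈ C.M → ((β x : S) : Ω) ∈ C.L 0) ∧
      (∀ x : S, (x : Ω) ∈ C.L 0 → ((β x : S) : Ω) ∈ C.M)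
  have hor : ∀ β, good β ∨ bad β := by
    intro β
    rcases C.M_or h2 β with h | h <;> rcases C.L0_or h2 β with h' | h'
    · exact (hnot β ⟨h, h'⟩).elim
    · exact Or.inl ⟨h, h'⟩
    · exact Or.inr ⟨h, h'⟩
    · exact (hnot' β ⟨h, h'⟩).elim
  have hgb : ∀ β, good β → bad β → False := by
    intro β h h'
    exact hnot β ⟨h.1, h'.2⟩
  rcases hor α with h | h
  · exact h
  · exfalso
    have hpow : ∀ k : ℕ, good ((α ^ 2) ^ k) := by
      have h3 : good (α ^ 2) := by
        rw [pow_two]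
        exact ⟨fun x hx => h.2 _ (h.1 x hx), fun x hx => h.1 _ (h.2 x hx)⟩
      intro k
      induction k with
      | zero => exact ⟨fun x hx => by simpa using hx, fun x hx => by simpa using hx⟩
      | succ k ih =>
        rw [pow_succ]
        exact ⟨fun x hx => ih.1 _ (h3.1 x hx), fun x hx => ih.2 _ (h3.2 x hx)⟩
    obtain ⟨b, hb, hbα⟩ := exists_pow_mem_autInducedBy hS hF hα
    obtain ⟨k, rfl⟩ : ∃ k, b = 2 * k + 1 := Nat.not_even_iff_odd.1 (fun h => hb h.two_dvd)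
    obtain ⟨g, hg, hgα⟩ := (mem_autInducedBy_iff S S _).1 hbα
    -- the power is bad
    have hbad : bad (α ^ (2 * k + 1)) := by
      rw [pow_succ, pow_mul]
      exact ⟨fun x hx => (hpow k).2 _ (h.1 x hx), fun x hx => (hpow k).1 _ (h.2 x hx)⟩
    refine hgb _ ⟨fun x hx => ?_, fun x hx => ?_⟩ hbad
    · rw [hgα]
      exact C.M_conj_mem hg hx
    · rw [hgα]
      exact C.conj_mem_of_Z2_le (C.L_le 0) (C.Z2_le_L 0) hg hx

/-- **First reduction for `p = 2`.** -/
theorem SpC.two_reduction [Finite S] (hS : IsPGroup 2 S) {F : FusionSystem S} (hF : F.IsSaturated 2)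
    (hnc : ¬ ∃ Q : Subgroup Ω, F.IsNormal Q ∧ F.IsCentric Q) :
    F.IsEssential 2 C.M ∧ F.IsEssential 2 (C.L 0) ∧ F.core ≤ C.Z2 := by
  have hcases := fun P (hP : F.IsEssential 2 P) => C.essential_cases_two h2 hS hF hP
  have hM : F.IsEssential 2 C.M := by
    by_contra hM
    apply hnc
    by_cases hL : F.IsEssential 2 (C.L 0)
    · refine ⟨C.L 0, isNormal_of_essential hS hF ?_, hL.1⟩
      rintro P (rfl | hP)
      · exact ⟨C.L_le 0, fun α hα x hx => (C.inv_two h2 hS hF hα).2 x hx⟩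
      · rcases hcases P hP with rfl | rfl
        · exact (hM hP).elim
        · exact ⟨le_rfl, fun α _ x _ => (α x).2⟩
    · have h1 : F.IsNormal S := by
        refine isNormal_of_essential hS hF ?_
        rintro P (rfl | hP)
        · exact ⟨le_rfl, fun α _ x _ => (α x).2⟩
        · rcases hcases P hP with rfl | rfl
          · exact (hM hP).elim
          · exact (hL hP).elim
      exact ⟨S, h1, isCentric_of_stronglyClosed (H759.IsNormal.stronglyClosed h1) inf_le_left⟩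
  have hL : F.IsEssential 2 (C.L 0) := by
    by_contra hL
    apply hnc
    refine ⟨C.M, isNormal_of_essential hS hF ?_, hM.1⟩
    rintro P (rfl | hP)
    · exact ⟨C.M_le, fun α hα x hx => (C.inv_two h2 hS hF hα).1 x hx⟩
    · rcases hcases P hP with rfl | rfl
      · exact ⟨le_rfl, fun α _ x _ => (α x).2⟩
      · exact (hL hP).elim
  refine ⟨hM, hL, ?_⟩
  have hQn : F.IsNormal F.core := H759.isNormal_core
  have h3 := (S5087.result 2 hS F hF F.core).1 hQn
  intro x hx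
  have h4 := (h3 _ (Or.inr hM)).1 hx
  have h5 := C.mem_L0.1 ((h3 _ (Or.inr hL)).1 hx)
  exact ⟨h4.1, h4.2, h5.2⟩

end two

end Cfsg.Agent.H780
end

-- part: H812/SlLemma
section
/-!
# `sl2_lemma` (S5260-C; helper812)
-/

set_option autoImplicit false
set_option linter.unusedSectionVars false

open scoped Pointwise

namespace Cfsg.Agent.H812.SlTwo

open Cfsg.Agent.H780

/-- the module -/
abbrev W (K : Type*) : Type _ := K × K

variable {K : Type*} [Field K]

/-- `V₁ = {(0,b)}` -/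
def Vo (K : Type*) [Field K] : AddSubgroup (W K) where
  carrier := {v | v.1 = 0}
  zero_mem' := rfl
  add_mem' := by
    intro a b h1 h3
    show a.1 + b.1 = 0
    rw [show a.1 = 0 from h1, show b.1 = 0 from h3, add_zero]
  neg_mem' := by
    intro a h1
    show -a.1 = 0
    rw [show a.1 = 0 from h1, neg_zero]

theorem mem_Vo {v : W K} : v ∈ Vo K ↔ v.1 = 0 := Iff.rfl

/-- the basic data -/
structure Base (p : ℕ) (K : Type*) [Field K] (G : Type*) [Group G] [DistribMulAction G (W K)] where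
  T : K → G
  hT : ∀ (t : K) (v : W K), T t • v = theta t v
  faith : ∀ g : G, (∀ v : W K, g • v = v) → g = 1
  P : Sylow p G
  memP : ∀ g : G, g ∈ P ↔ ∃ t, g = T t

namespace Base

variable {p : ℕ} [Fact p.Prime] [CharP K p] {G : Type*} [Group G] [DistribMulAction G (W K)] (B : Base p K G)

include B

theorem ext {g h : G} (e : ∀ v : W K, g • v = h • v) : g = h := by
  have h1 := B.faith (h⁻¹ * g) (fun v => by rw [mul_smul, e, inv_smul_smul])
  rw [inv_mul_eq_one] at h1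
  exact h1.symm

theorem T_add (s t : K) : B.T (s + t) = B.T s * B.T t := by
  apply B.ext
  intro v
  rw [mul_smul, B.hT, B.hT, B.hT, theta_add]
  rfl

theorem T_zero : B.T 0 = 1 := by
  have h := B.T_add 0 0
  rw [add_zero] at h
  exact mul_eq_left.1 h.symm

theorem T_neg (t : K) : B.T (-t) = (B.T t)⁻¹ := by
  rw [eq_inv_iff_mul_eq_one, ← B.T_add, neg_add_cancel, B.T_zero]

theorem T_apply (t a b : K) : B.T t • ((a, b) : W K) = (a, b + t * a) := by
  rw [B.hT, theta_apply]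

theorem T_inj {s t : K} (h : B.T s = B.T t) : s = t := by
  have h1 : B.T s • ((1, 0) : W K) = B.T t • ((1, 0) : W K) := by rw [h]
  rw [B.T_apply, B.T_apply] at h1
  have h2 := congrArg (fun v : W K => v.2) h1
  simpa using h2

theorem T_mem (t : K) : B.T t ∈ B.P := (B.memP _).2 ⟨t, rfl⟩

theorem T_V (t : K) {v : W K} (hv : v ∈ Vo K) : B.T t • v = v := by
  obtain ⟨a, b⟩ := v
  have : a = 0 := hv
  subst this
  rw [B.T_apply]
  simp

theorem T_sub (t : K) (v : W K) : B.T t • v - v = (0, t * v.1) := by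
  obtain ⟨a, b⟩ := v
  rw [B.T_apply]
  ext <;> simp

/-- the fixed points of `T t` -/
theorem fix_T {t : K} (ht : t ≠ 0) {v : W K} (h : B.T t • v = v) : v ∈ Vo K := by
  have h1 := B.T_sub t v
  rw [h, sub_self] at h1
  have h3 : (0 : K) = t * v.1 := congrArg (fun v : W K => v.2) h1
  exact (mul_eq_zero.1 h3.symm).resolve_left ht

theorem stab_of_inv {g : G} (h : ∀ v ∈ Vo K, g • v = v) : g • Vo K = Vo K := by
  ext v
  rw [AddSubgroup.mem_pointwise_smul_iff_inv_smul_mem]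
  constructor
  · intro h1
    have h2 := h _ h1
    rw [smul_inv_smul] at h2
    rw [h2]; exact h1
  · intro h1
    have h2 : g⁻¹ • v = v := by rw [inv_smul_eq_iff, h v h1]
    rw [h2]; exact h1

/-- elements trivial on `V₁` and on `V / V₁` -/
theorem of_triv [Finite G] {g : G} (h1 : ∀ v ∈ Vo K, g • v = v) (h2 : ∀ v : W K, g • v - v ∈ Vo K) :
    ∃ t, g = B.T t := by
  let N : Subgroup G :=
    { carrier := {g | (∀ v ∈ Vo K, g • v = v) ∧ ∀ v : W K, g • v - v ∈ Vo K}
      one_mem' := ⟨fun v _ => one_smul _ _, fun v => by rw [one_smul, sub_self]; exact zero_mem _⟩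
      mul_mem' := fun {a b} ha hb => ⟨fun v hv => by rw [mul_smul, hb.1 v hv, ha.1 v hv], fun v => by
        have e : (a * b) • v - v = a • (b • v - v) + (a • v - v) := by
          rw [mul_smul, smul_sub]; abel
        rw [e, ha.1 _ (hb.2 v)]
        exact add_mem (hb.2 v) (ha.2 v)⟩
      inv_mem' := fun {a} ha => ⟨fun v hv => by rw [inv_smul_eq_iff, ha.1 v hv], fun v => by
        have e : a⁻¹ • v - v = -(a • (a⁻¹ • v) - a⁻¹ • v) := by rw [smul_inv_smul]; abel
        rw [e]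
        exact neg_mem (ha.2 _)⟩ }
  have hN : IsPGroup p N := by
    rintro ⟨x, hx⟩
    refine ⟨1, Subtype.ext ?_⟩
    show x ^ p ^ 1 = 1
    rw [pow_one]
    apply B.faith
    intro v
    have step : ∀ n : ℕ, x ^ n • v = v + n • (x • v - v) := by
      intro n
      induction n with
      | zero => simp
      | succ n ih =>
        rw [pow_succ', mul_smul, ih, smul_add, smul_comm x n, hx.1 _ (hx.2 v), succ_nsmul]
        abel
    rw [step p]
    have h3 : p • (x • v - v) = 0 := by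
      generalize x • v - v = y
      obtain ⟨a, b⟩ := y
      ext <;> simp
    rw [h3, add_zero]
  have hle : (B.P : Subgroup G) ≤ N := by
    intro x hx
    obtain ⟨t, rfl⟩ := (B.memP x).1 hx
    exact ⟨fun v hv => B.T_V t hv, fun v => by rw [B.T_sub]; rfl⟩
  have h3 := B.P.3 hN hle
  have h4 : g ∈ N := ⟨h1, h2⟩
  rw [h3] at h4
  exact (B.memP g).1 h4

/-- elements normalising `V₁` normalise `P` -/
theorem norm [Finite G] {g : G} (hg : g • Vo K = Vo K) (t : K) : ∃ t', g * B.T t * g⁻¹ = B.T t' := by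
  have hg' : ∀ v ∈ Vo K, g⁻¹ • v ∈ Vo K := by
    intro v hv
    rw [← hg] at hv
    exact AddSubgroup.mem_pointwise_smul_iff_inv_smul_mem.1 hv
  apply B.of_triv
  · intro v hv
    rw [mul_smul, mul_smul, B.T_V t (hg' v hv), smul_inv_smul]
  · intro v
    have e : (g * B.T t * g⁻¹) • v - v = g • (B.T t • (g⁻¹ • v) - g⁻¹ • v) := by
      rw [smul_sub, smul_inv_smul, mul_smul, mul_smul]
    rw [e, ← hg]
    refine AddSubgroup.smul_mem_pointwise_smul _ _ _ ?_
    rw [B.T_sub]; rfl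

/-- **Semiregularity.** -/
theorem semireg [Finite G] {t : K} (ht : t ≠ 0) {g : G} (h : B.T t • (g • Vo K) = g • Vo K) : g • Vo K = Vo K := by
  have h1 : (g⁻¹ * B.T t * g) • Vo K = Vo K := by
    rw [mul_smul, mul_smul, h, inv_smul_smul]
  have h3 : g⁻¹ * B.T t * g ∈ B.P := by
    have hp : IsPGroup p (Subgroup.zpowers (g⁻¹ * B.T t * g)) := by
      have e : Subgroup.zpowers (g⁻¹ * B.T t * g) = (Subgroup.zpowers (B.T t)).map (MulAut.conj g⁻¹).toMonoidHom := by
        rw [MonoidHom.map_zpowers]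
        congr 1
        show _ = g⁻¹ * B.T t * g⁻¹⁻¹
        rw [inv_inv]
      rw [e]
      exact (B.P.2.to_le (Subgroup.zpowers_le.2 (B.T_mem t))).map _
    have hn : Subgroup.zpowers (g⁻¹ * B.T t * g) ≤ Subgroup.normalizer ((B.P : Subgroup G) : Set G) := by
      rw [Subgroup.zpowers_le, Subgroup.mem_normalizer_iff]
      intro x
      have key : ∀ y : G, y • Vo K = Vo K → ∀ x ∈ (B.P : Subgroup G), y * x * y⁻¹ ∈ (B.P : Subgroup G) := by
        intro y hy x hx
        obtain ⟨t, rfl⟩ := (B.memP x).1 hx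
        obtain ⟨t', ht'⟩ := B.norm hy t
        rw [ht']
        exact B.T_mem t'
      refine ⟨key _ h1 x, fun hx => ?_⟩
      have h5 := key (g⁻¹ * B.T t * g)⁻¹ (by rw [inv_smul_eq_iff, h1]) _ hx
      have e : (g⁻¹ * B.T t * g)⁻¹ * (g⁻¹ * B.T t * g * x * (g⁻¹ * B.T t * g)⁻¹) * (g⁻¹ * B.T t * g)⁻¹⁻¹ = x := by group
      rwa [e] at h5
    have hsup : IsPGroup p ↥(Subgroup.zpowers (g⁻¹ * B.T t * g) ⊔ (B.P : Subgroup G)) :=
      hp.to_sup_of_normal_right' B.P.2 hn
    have h4 := B.P.3 hsup le_sup_right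
    have h5 : g⁻¹ * B.T t * g ∈ Subgroup.zpowers (g⁻¹ * B.T t * g) ⊔ (B.P : Subgroup G) :=
      (le_sup_left : Subgroup.zpowers (g⁻¹ * B.T t * g) ≤ _) (Subgroup.mem_zpowers _)
    rw [h4] at h5
    exact h5
  obtain ⟨s, hs⟩ := (B.memP _).1 h3
  have hs0 : s ≠ 0 := by
    rintro rfl
    rw [B.T_zero] at hs
    apply ht
    apply B.T_inj
    rw [B.T_zero]
    calc B.T t = g * (g⁻¹ * B.T t * g) * g⁻¹ := by group
      _ = 1 := by rw [hs]; group
  have h6 : ∀ v : W K, v ∈ Vo K ↔ g⁻¹ • v ∈ Vo K := by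
    intro v
    constructor
    · intro hv
      apply B.fix_T hs0
      rw [← hs, mul_smul, mul_smul, smul_inv_smul, B.T_V t hv]
    · intro hv
      apply B.fix_T ht
      have h7 := B.T_V s hv
      rw [← hs, mul_smul, mul_smul, smul_inv_smul] at h7
      exact smul_left_cancel _ h7
  ext v
  rw [AddSubgroup.mem_pointwise_smul_iff_inv_smul_mem]
  exact (h6 v).symm

theorem card_smul (g : G) (U : AddSubgroup (W K)) : Nat.card (g • U : AddSubgroup (W K)) = Nat.card U := by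
  symm
  exact Nat.card_congr
    { toFun := fun v => ⟨g • (v : W K), AddSubgroup.smul_mem_pointwise_smul _ _ _ v.2⟩
      invFun := fun v => ⟨g⁻¹ • (v : W K), AddSubgroup.mem_pointwise_smul_iff_inv_smul_mem.1 v.2⟩
      left_inv := fun v => Subtype.ext (inv_smul_smul _ _)
      right_inv := fun v => Subtype.ext (smul_inv_smul _ _) }

theorem card_inter (x y : G) : Nat.card (x • Vo K ⊓ y • Vo K : AddSubgroup (W K)) =
    Nat.card (Vo K ⊓ (x⁻¹ * y) • Vo K : AddSubgroup (W K)) := by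
  rw [← B.card_smul x (Vo K ⊓ (x⁻¹ * y) • Vo K)]
  congr 2
  ext v
  rw [AddSubgroup.mem_pointwise_smul_iff_inv_smul_mem, AddSubgroup.mem_inf, AddSubgroup.mem_inf,
    AddSubgroup.mem_pointwise_smul_iff_inv_smul_mem, AddSubgroup.mem_pointwise_smul_iff_inv_smul_mem,
    AddSubgroup.mem_pointwise_smul_iff_inv_smul_mem, mul_inv_rev, inv_inv, mul_smul, smul_inv_smul]

/-- **(1)** the members of the orbit are disjoint -/
theorem inter [Finite G] [Finite K] {g : G} (hg : g • Vo K ≠ Vo K) {v : W K} (h1 : v ∈ Vo K) (h2 : v ∈ g • Vo K) :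
    v = 0 := by
  classical
  have hne : Nonempty {g : G // g • Vo K ≠ Vo K} := ⟨⟨g, hg⟩⟩
  obtain ⟨⟨g₀, hg₀⟩, hmax⟩ := Finite.exists_max
    (fun g : {g : G // g • Vo K ≠ Vo K} => Nat.card (Vo K ⊓ (g : G) • Vo K : AddSubgroup (W K)))
  simp only [Subtype.forall] at hmax
  -- the maximal intersection is trivial
  have h0 : Nat.card (Vo K ⊓ g₀ • Vo K : AddSubgroup (W K)) = 1 := by
    by_contra hcon
    rw [AddSubgroup.card_eq_one] at hcon
    obtain ⟨⟨d, hd⟩, hd0⟩ := AddSubgroup.ne_bot_iff_exists_ne_zero.1 hcon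
    have hd0' : d.2 ≠ 0 := by
      intro h
      apply hd0
      apply Subtype.ext
      ext
      · exact hd.1
      · exact h
    obtain ⟨e, he, he0⟩ : ∃ e ∈ g₀ • Vo K, e ∉ Vo K := by
      by_contra hcon
      push Not at hcon
      exact hg₀ (AddSubgroup.eq_of_le_of_card_ge hcon (B.card_smul g₀ (Vo K)).ge)
    have he1 : e.1 ≠ 0 := he0
    have hr : d.2 / e.1 ≠ 0 := div_ne_zero hd0' he1
    have h3 : B.T (d.2 / e.1) • e = e + d := by
      have := B.T_sub (d.2 / e.1) e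
      rw [sub_eq_iff_eq_add'] at this
      rw [this]
      congr 1
      ext
      · exact hd.1.symm
      · show d.2 / e.1 * e.1 = d.2
        field_simp
    have hne1 : B.T (d.2 / e.1) • (g₀ • Vo K) ≠ g₀ • Vo K := fun h => hg₀ (B.semireg hr h)
    have hne2 : (g₀⁻¹ * (B.T (d.2 / e.1) * g₀)) • Vo K ≠ Vo K := by
      intro h
      apply hne1
      rw [mul_smul, inv_smul_eq_iff, mul_smul] at h
      exact h
    have h4 := hmax _ hne2
    rw [← B.card_inter] at h4
    have hle : Vo K ⊓ g₀ • Vo K ≤ g₀ • Vo K ⊓ (B.T (d.2 / e.1) * g₀) • Vo K := by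
      intro x hx
      refine ⟨hx.2, ?_⟩
      show x ∈ (B.T (d.2 / e.1) * g₀) • Vo K
      rw [mul_smul, AddSubgroup.mem_pointwise_smul_iff_inv_smul_mem, ← B.T_neg, B.T_V _ hx.1]
      exact hx.2
    have h5 := AddSubgroup.eq_of_le_of_card_ge hle h4
    have h6 : e + d ∈ g₀ • Vo K ⊓ (B.T (d.2 / e.1) * g₀) • Vo K := by
      refine ⟨add_mem he hd.2, ?_⟩
      show e + d ∈ (B.T (d.2 / e.1) * g₀) • Vo K
      rw [← h3, mul_smul]
      exact AddSubgroup.smul_mem_pointwise_smul _ _ _ he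
    rw [← h5] at h6
    apply he0
    have h7 : e + d - d ∈ Vo K := sub_mem (show e + d ∈ Vo K from h6.1) (show d ∈ Vo K from hd.1)
    rwa [add_sub_cancel_right] at h7
  have h3 := hmax g hg
  rw [h0] at h3
  have h4 : Nat.card (Vo K ⊓ g • Vo K : AddSubgroup (W K)) = 1 := le_antisymm h3 Nat.card_pos
  rw [AddSubgroup.card_eq_one] at h4
  have h5 : v ∈ Vo K ⊓ g • Vo K := ⟨h1, h2⟩
  rw [h4] at h5
  exact h5

/-- two members of the orbit -/
theorem inter' [Finite G] [Finite K] {x y : G} {v : W K} (h1 : v ∈ x • Vo K) (h2 : v ∈ y • Vo K) (hv : v ≠ 0) :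
    x • Vo K = y • Vo K := by
  by_contra hne
  have h3 : (x⁻¹ * y) • Vo K ≠ Vo K := by
    intro h
    apply hne
    rw [mul_smul, inv_smul_eq_iff] at h
    exact h.symm
  have h4 := B.inter h3 (v := x⁻¹ • v) (AddSubgroup.mem_pointwise_smul_iff_inv_smul_mem.1 h1) (by
    rw [AddSubgroup.mem_pointwise_smul_iff_inv_smul_mem, mul_inv_rev, inv_inv, mul_smul, smul_inv_smul]
    exact AddSubgroup.mem_pointwise_smul_iff_inv_smul_mem.1 h2)
  rw [inv_smul_eq_iff, smul_zero] at h4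
  exact hv h4

/-- **(2)** `W = gV₁` is the graph of an additive map -/
theorem exists_graph [Finite G] [Finite K] {g : G} (hg : g • Vo K ≠ Vo K) :
    ∃ f : K →+ K, ∀ v : W K, v ∈ g • Vo K ↔ v.2 = f v.1 := by
  -- the projection is bijective
  let π : (g • Vo K : AddSubgroup (W K)) →+ K := (AddMonoidHom.fst K K).comp (g • Vo K : AddSubgroup (W K)).subtype
  have hinj : Function.Injective π := by
    rw [injective_iff_map_eq_zero]
    rintro ⟨v, hv⟩ h
    exact Subtype.ext (B.inter hg (v := v) h hv)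
  have hcard : Nat.card (g • Vo K : AddSubgroup (W K)) = Nat.card K := by
    rw [B.card_smul]
    exact Nat.card_congr
      { toFun := fun v => (v : W K).2
        invFun := fun b => ⟨(0, b), rfl⟩
        left_inv := fun v => Subtype.ext (by ext; exact v.2.symm; rfl)
        right_inv := fun b => rfl }
  have hbij : Function.Bijective π := (Nat.bijective_iff_injective_and_card _).2 ⟨hinj, hcard⟩
  let e : (g • Vo K : AddSubgroup (W K)) ≃+ K := AddEquiv.ofBijective π hbij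
  refine ⟨(AddMonoidHom.snd K K).comp ((g • Vo K : AddSubgroup (W K)).subtype.comp e.symm.toAddMonoidHom), fun v => ?_⟩
  constructor
  · intro hv
    have h1 : e.symm v.1 = ⟨v, hv⟩ := by
      rw [AddEquiv.symm_apply_eq]; rfl
    show v.2 = ((e.symm v.1 : (g • Vo K : AddSubgroup (W K))) : W K).2
    rw [h1]
  · intro h
    have h1 : ((e.symm v.1 : (g • Vo K : AddSubgroup (W K))) : W K).1 = v.1 := e.apply_symm_apply v.1
    have h2 : ((e.symm v.1 : (g • Vo K : AddSubgroup (W K))) : W K) = v := by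
      ext
      · exact h1
      · exact h.symm
    rw [← h2]
    exact (e.symm v.1).2

/-- **the main statement**, with the members of the orbit of `V₁` -/
theorem main' [Finite G] [Finite K] {g : G} (hg : g • Vo K ≠ Vo K) :
    ∃ f : K →+ K, (∀ c : K, c ≠ 0 → ∃ h : G, ∀ a b : K, h • ((a, b) : W K) = (c⁻¹ * a, c * (b - f a) + f (c⁻¹ * a))) ∧
      (∀ r : K, r ≠ 0 → ∃ n : G, ∀ a b : K, n • ((a, b) : W K) = ((b - f a) / r, f ((b - f a) / r) - r * a)) ∧
      (∀ x : G, (∀ b : K, (x • ((0, b) : W K)).1 = 0) ∨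
        ∃ r : K, ∀ b : K, (x • ((0, b) : W K)).2 = f (x • ((0, b) : W K)).1 + r * (x • ((0, b) : W K)).1) := by
  obtain ⟨f, hf⟩ := B.exists_graph hg
  -- `θ_r W = {(t, f t + r t)}`
  have hTf : ∀ (r : K) (v : W K), v ∈ B.T r • (g • Vo K) ↔ v.2 = f v.1 + r * v.1 := by
    rintro r ⟨a, b⟩
    rw [AddSubgroup.mem_pointwise_smul_iff_inv_smul_mem, ← B.T_neg, B.T_apply, hf]
    show b + -r * a = f a ↔ b = f a + r * a
    constructor
    · intro h; linear_combination h
    · intro h; linear_combination h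
  -- every member `≠ V₁` of the orbit is some `θ_r W`
  have horb : ∀ x : G, x • Vo K ≠ Vo K → ∃ r, x • Vo K = B.T r • (g • Vo K) := by
    intro x hx
    obtain ⟨f', hf'⟩ := B.exists_graph hx
    have h1 : ((1, f' 1) : W K) ∈ x • Vo K := (hf' _).2 rfl
    refine ⟨f' 1 - f 1, ?_⟩
    rw [← mul_smul]
    refine B.inter' h1 ?_ (by intro h; exact one_ne_zero (congrArg Prod.fst h))
    rw [mul_smul, hTf]
    ring
  -- the conjugate transvections
  have hψ : ∀ r : K, r ≠ 0 → ∃ ψ : G, (∀ a : K, ψ • ((a, f a) : W K) = (a, f a)) ∧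
      ∀ a : K, ψ • ((0, a) : W K) = (a / r, f (a / r) + a) := by
    intro r hr
    -- `g⁻¹ V₁ = θ_{s₀} W`, `g⁻¹ θ_r W = θ_s W`
    have hg1 : g⁻¹ • Vo K ≠ Vo K := by
      intro h
      apply hg
      rw [inv_smul_eq_iff] at h
      exact h.symm
    obtain ⟨s₀, hs₀⟩ := horb _ hg1
    have hg2 : (g⁻¹ * (B.T r * g)) • Vo K ≠ Vo K := by
      intro h
      rw [mul_smul, inv_smul_eq_iff, mul_smul] at h
      exact hg (B.semireg hr h)
    obtain ⟨s, hs⟩ := horb _ hg2
    refine ⟨g * B.T (s - s₀) * g⁻¹, ?_, ?_⟩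
    · intro a
      have h1 : g⁻¹ • ((a, f a) : W K) ∈ Vo K := AddSubgroup.mem_pointwise_smul_iff_inv_smul_mem.1 ((hf _).2 rfl)
      rw [mul_smul, mul_smul, B.T_V _ h1, smul_inv_smul]
    · intro a
      -- `ψ x - x ∈ W`
      have h1 : (g * B.T (s - s₀) * g⁻¹) • ((0, a) : W K) - (0, a) ∈ g • Vo K := by
        have e : (g * B.T (s - s₀) * g⁻¹) • ((0, a) : W K) - (0, a) =
            g • (B.T (s - s₀) • (g⁻¹ • ((0, a) : W K)) - g⁻¹ • ((0, a) : W K)) := by
          rw [smul_sub, smul_inv_smul, mul_smul, mul_smul]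
        rw [e]
        refine AddSubgroup.smul_mem_pointwise_smul _ _ _ ?_
        rw [B.T_sub]; rfl
      -- `ψ V₁ = θ_r W`
      have h2 : (g * B.T (s - s₀) * g⁻¹) • ((0, a) : W K) ∈ B.T r • (g • Vo K) := by
        have e : B.T r • (g • Vo K) = (g * B.T (s - s₀) * g⁻¹) • Vo K := by
          have e1 : g • (B.T s • (g • Vo K)) = B.T r • (g • Vo K) := by
            rw [← hs, mul_smul, smul_inv_smul, mul_smul]
          have e2 : B.T (s - s₀) • (B.T s₀ • (g • Vo K)) = B.T s • (g • Vo K) := by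
            rw [← mul_smul (B.T (s - s₀)), ← B.T_add, sub_add_cancel]
          rw [← e1, mul_smul, mul_smul, hs₀, e2]
        rw [e]
        exact AddSubgroup.smul_mem_pointwise_smul _ _ _ rfl
      generalize (g * B.T (s - s₀) * g⁻¹) • ((0, a) : W K) = x at h1 h2 ⊢
      rw [hTf] at h2
      rw [hf] at h1
      have h3 : x.2 - a = f (x.1 - 0) := h1
      rw [sub_zero] at h3
      have h4 : x.1 = a / r := by
        rw [eq_div_iff hr]
        linear_combination h3 - h2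
      ext
      · exact h4
      · show x.2 = f (a / r) + a
        rw [← h4]
        linear_combination h3
  -- the elements `n_r`
  have hn : ∀ r : K, r ≠ 0 → ∃ n : G, ∀ a b : K,
      n • ((a, b) : W K) = ((b - f a) / r, f ((b - f a) / r) - r * a) := by
    intro r hr
    obtain ⟨ψ, h1, h2⟩ := hψ r hr
    refine ⟨B.T (-r) * ψ * B.T (-r), fun a b => ?_⟩
    have e : B.T (-r) • ((a, b) : W K) = (a, f a) + (0, b - f a - r * a) := by
      rw [B.T_apply]
      ext
      · simp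
      · show b + -r * a = f a + (b - f a - r * a)
        ring
    have e2 : (b - f a - r * a) / r = (b - f a) / r - a := by field_simp
    rw [mul_smul, mul_smul, e, smul_add, h1, h2, e2, map_sub]
    have e3 : ((a, f a) : W K) + ((b - f a) / r - a, f ((b - f a) / r) - f a + (b - f a - r * a)) =
        ((b - f a) / r, f ((b - f a) / r) + (b - f a - r * a)) := by
      ext
      · show a + ((b - f a) / r - a) = (b - f a) / r
        ring
      · show f a + (f ((b - f a) / r) - f a + (b - f a - r * a)) = f ((b - f a) / r) + (b - f a - r * a)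
        ring
    rw [e3, B.T_apply]
    ext
    · rfl
    · show f ((b - f a) / r) + (b - f a - r * a) + -r * ((b - f a) / r) = f ((b - f a) / r) - r * a
      field_simp
      ring
  refine ⟨f, fun c hc => ?_, hn, fun x => ?_⟩
  swap
  · by_cases hx : x • Vo K = Vo K
    · left
      intro b
      have h1 : x • ((0, b) : W K) ∈ x • Vo K := AddSubgroup.smul_mem_pointwise_smul _ _ _ rfl
      rw [hx] at h1
      exact h1
    · right
      obtain ⟨r, hr⟩ := horb x hx
      refine ⟨r, fun b => ?_⟩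
      have h1 : x • ((0, b) : W K) ∈ x • Vo K := AddSubgroup.smul_mem_pointwise_smul _ _ _ rfl
      rw [hr] at h1
      exact (hTf r _).1 h1
  obtain ⟨n1, h1⟩ := hn 1 one_ne_zero
  obtain ⟨n2, h2⟩ := hn (-c) (neg_ne_zero.2 hc)
  refine ⟨n2 * n1, fun a b => ?_⟩
  rw [mul_smul, h1, h2]
  have e : f ((b - f a) / 1) - 1 * a - f ((b - f a) / 1) = -a := by ring
  rw [e]
  have e2 : -a / -c = c⁻¹ * a := by field_simp
  rw [e2]
  ext
  · rfl
  · show f (c⁻¹ * a) - -c * ((b - f a) / 1) = c * (b - f a) + f (c⁻¹ * a)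
    ring

/-- **the main statement** -/
theorem main [Finite G] [Finite K] {g : G} (hg : g • Vo K ≠ Vo K) :
    ∃ f : K →+ K, (∀ c : K, c ≠ 0 → ∃ h : G, ∀ a b : K, h • ((a, b) : W K) = (c⁻¹ * a, c * (b - f a) + f (c⁻¹ * a))) ∧
      (∀ r : K, r ≠ 0 → ∃ n : G, ∀ a b : K, n • ((a, b) : W K) = ((b - f a) / r, f ((b - f a) / r) - r * a)) := by
  obtain ⟨f, h1, h2, -⟩ := B.main' hg
  exact ⟨f, h1, h2⟩

end Base

/-- **`sl2_lemma'`** : `sl2_lemma` together with the members of the orbit of `V₁` -/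
theorem sl2_lemma' {K : Type*} [Field K] [Finite K] {p : ℕ} [Fact p.Prime] [CharP K p]
    {G : Type*} [Group G] [Finite G] (ρ : G →* Equiv.Perm (K × K))
    (hadd : ∀ g v w, ρ g (v + w) = ρ g v + ρ g w) (P : Sylow p G)
    (hP1 : ∀ g ∈ P, ∃ r : K, ρ g = theta r) (hP2 : ∀ r : K, ∃ g ∈ P, ρ g = theta r)
    (hnn : ∃ g b, (ρ g (0, b)).1 ≠ 0) :
    ∃ f : K →+ K, (∀ c : K, c ≠ 0 → ∃ h : G, ∀ a b, ρ h (a, b) = (c⁻¹ * a, c * (b - f a) + f (c⁻¹ * a))) ∧
      (∀ r : K, r ≠ 0 → ∃ n : G, ∀ a b, ρ n (a, b) = ((b - f a) / r, f ((b - f a) / r) - r * a)) ∧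
      (∀ g : G, (∀ b, (ρ g (0, b)).1 = 0) ∨ ∃ r : K, ∀ b, (ρ g (0, b)).2 = f ((ρ g (0, b)).1) + r * (ρ g (0, b)).1) := by
  -- pass to the image
  let G' : Subgroup (Equiv.Perm (K × K)) := ρ.range
  have hmem : ∀ x : G', ∃ g : G, ρ g = x := fun x => x.2
  let _ : DistribMulAction G' (W K) :=
    { smul := fun g v => (g : Equiv.Perm (K × K)) v
      one_smul := fun v => rfl
      mul_smul := fun g h v => rfl
      smul_zero := fun x => by
        show (x : Equiv.Perm (K × K)) 0 = 0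
        obtain ⟨g, hg⟩ := hmem x
        rw [← hg]
        have h := hadd g 0 0
        rw [add_zero] at h
        exact left_eq_add.1 h
      smul_add := fun x v w => by
        show (x : Equiv.Perm (K × K)) (v + w) = (x : Equiv.Perm (K × K)) v + (x : Equiv.Perm (K × K)) w
        obtain ⟨g, hg⟩ := hmem x
        rw [← hg]
        exact hadd g v w }
  have hsm : ∀ (g : G') (v : W K), g • v = (g : Equiv.Perm (K × K)) v := fun _ _ => rfl
  choose T hTP hT using hP2
  let P' : Sylow p G' := P.mapSurjective ρ.rangeRestrict_surjective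
  have hP' : ∀ x : G', x ∈ P' ↔ ∃ g ∈ P, ρ.rangeRestrict g = x := by
    intro x
    show x ∈ ((P.mapSurjective ρ.rangeRestrict_surjective : Sylow p G') : Subgroup G') ↔ _
    rw [Sylow.coe_mapSurjective]
    exact Subgroup.mem_map
  let B : Base p K G' :=
    { T := fun t => ρ.rangeRestrict (T t)
      hT := fun t v => by
        rw [hsm]
        show ρ (T t) v = theta t v
        rw [hT]
      faith := fun x hx => Subtype.ext (Equiv.ext hx)
      P := P'
      memP := fun x => by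
        rw [hP']
        constructor
        · rintro ⟨g, hg, rfl⟩
          obtain ⟨t, ht⟩ := hP1 g hg
          exact ⟨t, Subtype.ext (by show ρ g = ρ (T t); rw [ht, hT])⟩
        · rintro ⟨t, rfl⟩
          exact ⟨T t, hTP t, rfl⟩ }
  obtain ⟨g, b, hgb⟩ := hnn
  have hg : ρ.rangeRestrict g • Vo K ≠ Vo K := by
    intro h
    apply hgb
    have h1 : ρ.rangeRestrict g • ((0, b) : W K) ∈ ρ.rangeRestrict g • Vo K :=
      AddSubgroup.smul_mem_pointwise_smul _ _ _ rfl
    rw [h] at h1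
    exact h1
  obtain ⟨f, h1, h2, h3⟩ := B.main' hg
  refine ⟨f, fun c hc => ?_, fun r hr => ?_, fun x => h3 (ρ.rangeRestrict x)⟩
  · obtain ⟨x, hx⟩ := h1 c hc
    obtain ⟨y, hy⟩ := hmem x
    exact ⟨y, fun a b => by rw [hy]; exact hx a b⟩
  · obtain ⟨x, hx⟩ := h2 r hr
    obtain ⟨y, hy⟩ := hmem x
    exact ⟨y, fun a b => by rw [hy]; exact hx a b⟩

/-- **`sl2_lemma`** -/
theorem sl2_lemma {K : Type*} [Field K] [Finite K] {p : ℕ} [Fact p.Prime] [CharP K p]
    {G : Type*} [Group G] [Finite G] (ρ : G →* Equiv.Perm (K × K))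
    (hadd : ∀ g v w, ρ g (v + w) = ρ g v + ρ g w) (P : Sylow p G)
    (hP1 : ∀ g ∈ P, ∃ r : K, ρ g = theta r) (hP2 : ∀ r : K, ∃ g ∈ P, ρ g = theta r)
    (hnn : ∃ g b, (ρ g (0, b)).1 ≠ 0) :
    ∃ f : K →+ K, (∀ c : K, c ≠ 0 → ∃ h : G, ∀ a b, ρ h (a, b) = (c⁻¹ * a, c * (b - f a) + f (c⁻¹ * a))) ∧
      (∀ r : K, r ≠ 0 → ∃ n : G, ∀ a b, ρ n (a, b) = ((b - f a) / r, f ((b - f a) / r) - r * a)) := by
  obtain ⟨f, h1, h2, -⟩ := sl2_lemma' ρ hadd P hP1 hP2 hnn
  exact ⟨f, h1, h2⟩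

end Cfsg.Agent.H812.SlTwo
end

-- part: H780/SL2Spread
section
/-!
# The `SL₂` lemma with the spread conclusion (helper780, after helper812's `SlLemma`)
-/

set_option autoImplicit false

namespace Cfsg.Agent.H780

open Cfsg.Agent.H812.SlTwo
open scoped Pointwise

theorem sl2_lemma' {K : Type*} [Field K] [Finite K] {p : ℕ} [Fact p.Prime] [CharP K p]
    {G : Type*} [Group G] [Finite G] (ρ : G →* Equiv.Perm (K × K))
    (hadd : ∀ g v w, ρ g (v + w) = ρ g v + ρ g w) (P : Sylow p G)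
    (hP1 : ∀ g ∈ P, ∃ r : K, ρ g = theta r) (hP2 : ∀ r : K, ∃ g ∈ P, ρ g = theta r)
    (hnn : ∃ g b, (ρ g (0, b)).1 ≠ 0) :
    ∃ f : K →+ K, (∀ c : K, c ≠ 0 → ∃ h : G, ∀ a b, ρ h (a, b) = (c⁻¹ * a, c * (b - f a) + f (c⁻¹ * a))) ∧
      (∀ r : K, r ≠ 0 → ∃ n : G, ∀ a b, ρ n (a, b) = ((b - f a) / r, f ((b - f a) / r) - r * a)) ∧
      (∀ g : G, (∀ b, (ρ g (0, b)).1 = 0) ∨
        ∃ r : K, ∀ b, (ρ g (0, b)).2 = f (ρ g (0, b)).1 + r * (ρ g (0, b)).1) := by
  -- pass to the image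
  let G' : Subgroup (Equiv.Perm (K × K)) := ρ.range
  have hmem : ∀ x : G', ∃ g : G, ρ g = x := fun x => x.2
  let _ : DistribMulAction G' (W K) :=
    { smul := fun g v => (g : Equiv.Perm (K × K)) v
      one_smul := fun v => rfl
      mul_smul := fun g h v => rfl
      smul_zero := fun x => by
        show (x : Equiv.Perm (K × K)) 0 = 0
        obtain ⟨g, hg⟩ := hmem x
        rw [← hg]
        have h := hadd g 0 0
        rw [add_zero] at h
        exact left_eq_add.1 h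
      smul_add := fun x v w => by
        show (x : Equiv.Perm (K × K)) (v + w) = (x : Equiv.Perm (K × K)) v + (x : Equiv.Perm (K × K)) w
        obtain ⟨g, hg⟩ := hmem x
        rw [← hg]
        exact hadd g v w }
  have hsm : ∀ (g : G') (v : W K), g • v = (g : Equiv.Perm (K × K)) v := fun _ _ => rfl
  choose T hTP hT using hP2
  let P' : Sylow p G' := P.mapSurjective ρ.rangeRestrict_surjective
  have hP' : ∀ x : G', x ∈ P' ↔ ∃ g ∈ P, ρ.rangeRestrict g = x := by
    intro x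
    show x ∈ ((P.mapSurjective ρ.rangeRestrict_surjective : Sylow p G') : Subgroup G') ↔ _
    rw [Sylow.coe_mapSurjective]
    exact Subgroup.mem_map
  let B : Base p K G' :=
    { T := fun t => ρ.rangeRestrict (T t)
      hT := fun t v => by
        rw [hsm]
        show ρ (T t) v = theta t v
        rw [hT]
      faith := fun x hx => Subtype.ext (Equiv.ext hx)
      P := P'
      memP := fun x => by
        rw [hP']
        constructor
        · rintro ⟨g, hg, rfl⟩
          obtain ⟨t, ht⟩ := hP1 g hg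
          exact ⟨t, Subtype.ext (by show ρ g = ρ (T t); rw [ht, hT])⟩
        · rintro ⟨t, rfl⟩
          exact ⟨T t, hTP t, rfl⟩ }
  obtain ⟨g, b, hgb⟩ := hnn
  have hg : ρ.rangeRestrict g • Vo K ≠ Vo K := by
    intro h
    apply hgb
    have h1 : ρ.rangeRestrict g • ((0, b) : W K) ∈ ρ.rangeRestrict g • Vo K :=
      AddSubgroup.smul_mem_pointwise_smul _ _ _ rfl
    rw [h] at h1
    exact h1
  obtain ⟨f, h1, h2⟩ := B.main hg
  refine ⟨f, fun c hc => ?_, fun r hr => ?_, fun x => ?_⟩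
  · obtain ⟨x, hx⟩ := h1 c hc
    obtain ⟨y, hy⟩ := hmem x
    exact ⟨y, fun a b => by rw [hy]; exact hx a b⟩
  · obtain ⟨x, hx⟩ := h2 r hr
    obtain ⟨y, hy⟩ := hmem x
    exact ⟨y, fun a b => by rw [hy]; exact hx a b⟩
  · by_cases hx : ∀ b, (ρ x (0, b)).1 = 0
    · exact Or.inl hx
    · right
      push Not at hx
      obtain ⟨b₀, hb₀⟩ := hx
      set y := ρ.rangeRestrict x with hy
      set v : W K := ρ x (0, b₀) with hv
      obtain ⟨n, hn⟩ := h2 1 one_ne_zero
      refine ⟨(v.2 - f v.1) / v.1, ?_⟩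
      set r := (v.2 - f v.1) / v.1 with hr
      -- `v ∈ θ_r n V₁`
      have hgraph : ∀ w : W K, w ∈ (B.T r * n) • Vo K ↔ w.2 = f w.1 + r * w.1 := by
        intro w
        constructor
        · intro hw
          obtain ⟨u, hu, rfl⟩ := (AddSubgroup.mem_smul_pointwise_iff_exists _ _ _).1 hw
          obtain ⟨u1, u2⟩ := u
          have hu1 : u1 = 0 := hu
          rw [hu1, mul_smul, hn, B.T_apply]
          simp
        · intro hw
          rw [AddSubgroup.mem_smul_pointwise_iff_exists]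
          refine ⟨(0, w.1), rfl, ?_⟩
          rw [mul_smul, hn, B.T_apply]
          ext
          · simp
          · simp [hw]
      have hv1 : v ∈ y • Vo K :=
        (AddSubgroup.mem_smul_pointwise_iff_exists _ _ _).2 ⟨(0, b₀), rfl, rfl⟩
      have hv2 : v ∈ (B.T r * n) • Vo K := by
        rw [hgraph, hr]
        field_simp
        ring
      have hv0 : v ≠ 0 := fun h => hb₀ (by rw [h]; rfl)
      have h3 := B.inter' hv1 hv2 hv0
      intro b
      have h4 : (ρ x (0, b) : W K) ∈ y • Vo K :=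
        (AddSubgroup.mem_smul_pointwise_iff_exists _ _ _).2 ⟨(0, b), rfl, rfl⟩
      rw [h3, hgraph] at h4
      exact h4

end Cfsg.Agent.H780
end

-- part: H812/SymBase
section
/-!
# The action on `Sym²` : basic facts (helper812; S5260-B)
-/

set_option autoImplicit false
set_option linter.unusedSectionVars false

open scoped Pointwise

namespace Cfsg.Agent.H812.Sym

open Cfsg.Agent.H780

/-- the module -/
abbrev V (K : Type*) : Type _ := K × K × K

variable {K : Type*} [Field K]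

/-- `Z = {(0,0,z)}` -/
def Zs (K : Type*) [Field K] : AddSubgroup (V K) where
  carrier := {v | v.1 = 0 ∧ v.2.1 = 0}
  zero_mem' := ⟨rfl, rfl⟩
  add_mem' := by
    rintro a b ⟨h1, h2⟩ ⟨h3, h4⟩
    exact ⟨by show a.1 + b.1 = 0; rw [h1, h3, add_zero], by show a.2.1 + b.2.1 = 0; rw [h2, h4, add_zero]⟩
  neg_mem' := by
    rintro a ⟨h1, h2⟩
    exact ⟨by show -a.1 = 0; rw [h1, neg_zero], by show -a.2.1 = 0; rw [h2, neg_zero]⟩

theorem mem_Zs {v : V K} : v ∈ Zs K ↔ v.1 = 0 ∧ v.2.1 = 0 := Iff.rfl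

theorem mem_Zs' (z : K) : ((0, 0, z) : V K) ∈ Zs K := ⟨rfl, rfl⟩

theorem eq_of_mem_Zs {v : V K} (h : v ∈ Zs K) : v = (0, 0, v.2.2) := by
  obtain ⟨a, b, c⟩ := v
  obtain ⟨h1, h2⟩ := h
  simp only at h1 h2
  rw [h1, h2]

/-- the basic data -/
structure Base (p : ℕ) (K : Type*) [Field K] (G : Type*) [Group G] [DistribMulAction G (V K)] where
  T : K → G
  hT : ∀ (t : K) (v : V K), T t • v = phi t v
  faith : ∀ g : G, (∀ v : V K, g • v = v) → g = 1
  P : Sylow p G
  memP : ∀ g : G, g ∈ P ↔ ∃ t, g = T t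
  norm : ∀ g : G, g • Zs K = Zs K → ∀ t, ∃ t', g * T t * g⁻¹ = T t'

namespace Base

variable {p : ℕ} {G : Type*} [Group G] [DistribMulAction G (V K)] (B : Base p K G)

include B

theorem ext {g h : G} (e : ∀ v : V K, g • v = h • v) : g = h := by
  have h1 := B.faith (h⁻¹ * g) (fun v => by rw [mul_smul, e, inv_smul_smul])
  rw [inv_mul_eq_one] at h1
  exact h1.symm

theorem T_add (s t : K) : B.T (s + t) = B.T s * B.T t := by
  apply B.ext
  intro v
  rw [mul_smul, B.hT, B.hT, B.hT, phi_add]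
  rfl

theorem T_zero : B.T 0 = 1 := by
  have h := B.T_add 0 0
  rw [add_zero] at h
  exact mul_eq_left.1 h.symm

theorem T_neg (t : K) : B.T (-t) = (B.T t)⁻¹ := by
  rw [eq_inv_iff_mul_eq_one, ← B.T_add, neg_add_cancel, B.T_zero]

theorem T_comm (s t : K) : B.T s * B.T t = B.T t * B.T s := by rw [← B.T_add, ← B.T_add, add_comm]

theorem T_inj {s t : K} (h : B.T s = B.T t) : s = t := by
  have h1 : B.T s • ((1, 0, 0) : V K) = B.T t • ((1, 0, 0) : V K) := by rw [h]
  rw [B.hT, B.hT, phi_apply, phi_apply] at h1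
  have h2 := congrArg (fun v : V K => v.2.1) h1
  simpa using h2

theorem T_apply (t s u z : K) : B.T t • ((s, u, z) : V K) = (s, u + t * s, z + 2 * t * u + t ^ 2 * s) := by
  rw [B.hT, phi_apply]

theorem T_sub (t : K) (v : V K) : B.T t • v - v = (0, t * v.1, 2 * t * v.2.1 + t ^ 2 * v.1) := by
  obtain ⟨s, u, z⟩ := v
  rw [B.T_apply]
  ext
  · simp
  · simp
  · show z + 2 * t * u + t ^ 2 * s - z = _
    ring

theorem T_mem (t : K) : B.T t ∈ B.P := (B.memP _).2 ⟨t, rfl⟩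

theorem T_Z (t : K) {v : V K} (hv : v ∈ Zs K) : B.T t • v = v := by
  rw [eq_of_mem_Zs hv, B.T_apply]
  simp

/-- the fixed points of `T t` -/
theorem fix_T (h2 : (2 : K) ≠ 0) {t : K} (ht : t ≠ 0) {v : V K} (h : B.T t • v = v) : v ∈ Zs K := by
  obtain ⟨s, u, z⟩ := v
  rw [B.T_apply] at h
  have h1 := congrArg (fun v : V K => v.2.1) h
  have h3 := congrArg (fun v : V K => v.2.2) h
  simp only at h1 h3
  have hs : s = 0 := by
    have : t * s = 0 := by linear_combination h1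
    exact (mul_eq_zero.1 this).resolve_left ht
  subst hs
  have hu : u = 0 := by
    have : 2 * t * u = 0 := by linear_combination h3
    exact (mul_eq_zero.1 this).resolve_left (mul_ne_zero h2 ht)
  exact ⟨rfl, hu⟩

/-- **Semiregularity.** -/
theorem semireg [Finite G] [Fact p.Prime] (h2 : (2 : K) ≠ 0) {t : K} (ht : t ≠ 0) {g : G}
    (h : B.T t • (g • Zs K) = g • Zs K) : g • Zs K = Zs K := by
  -- `θ' = g⁻¹ T t g` fixes `Z`
  have h1 : (g⁻¹ * B.T t * g) • Zs K = Zs K := by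
    rw [mul_smul, mul_smul, h, inv_smul_smul]
  -- it is in `P`
  have h3 : g⁻¹ * B.T t * g ∈ B.P := by
    have hp : IsPGroup p (Subgroup.zpowers (g⁻¹ * B.T t * g)) := by
      have e : Subgroup.zpowers (g⁻¹ * B.T t * g) = (Subgroup.zpowers (B.T t)).map (MulAut.conj g⁻¹).toMonoidHom := by
        rw [MonoidHom.map_zpowers]
        congr 1
        show _ = g⁻¹ * B.T t * g⁻¹⁻¹
        rw [inv_inv]
      rw [e]
      exact (B.P.2.to_le (Subgroup.zpowers_le.2 (B.T_mem t))).map _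
    have hn : Subgroup.zpowers (g⁻¹ * B.T t * g) ≤ Subgroup.normalizer ((B.P : Subgroup G) : Set G) := by
      rw [Subgroup.zpowers_le, Subgroup.mem_normalizer_iff]
      intro x
      have hfin : Finite (B.P : Subgroup G) := inferInstance
      have key : ∀ y : G, y • Zs K = Zs K → ∀ x ∈ (B.P : Subgroup G), y * x * y⁻¹ ∈ (B.P : Subgroup G) := by
        intro y hy x hx
        obtain ⟨t, rfl⟩ := (B.memP x).1 hx
        obtain ⟨t', ht'⟩ := B.norm y hy t
        rw [ht']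
        exact B.T_mem t'
      refine ⟨key _ h1 x, fun hx => ?_⟩
      have h5 := key (g⁻¹ * B.T t * g)⁻¹ (by rw [inv_smul_eq_iff, h1]) _ hx
      have e : (g⁻¹ * B.T t * g)⁻¹ * (g⁻¹ * B.T t * g * x * (g⁻¹ * B.T t * g)⁻¹) * (g⁻¹ * B.T t * g)⁻¹⁻¹ = x := by group
      rwa [e] at h5
    have hsup : IsPGroup p ↥(Subgroup.zpowers (g⁻¹ * B.T t * g) ⊔ (B.P : Subgroup G)) :=
      hp.to_sup_of_normal_right' B.P.2 hn
    have h4 := B.P.3 hsup le_sup_right
    have h5 : g⁻¹ * B.T t * g ∈ Subgroup.zpowers (g⁻¹ * B.T t * g) ⊔ (B.P : Subgroup G) :=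
      (le_sup_left : Subgroup.zpowers (g⁻¹ * B.T t * g) ≤ _) (Subgroup.mem_zpowers _)
    rw [h4] at h5
    exact h5
  obtain ⟨s, hs⟩ := (B.memP _).1 h3
  have hs0 : s ≠ 0 := by
    rintro rfl
    rw [B.T_zero] at hs
    apply ht
    apply B.T_inj
    rw [B.T_zero]
    calc B.T t = g * (g⁻¹ * B.T t * g) * g⁻¹ := by group
      _ = 1 := by rw [hs]; group
  -- fixed points
  have h6 : ∀ v : V K, v ∈ Zs K ↔ g⁻¹ • v ∈ Zs K := by
    intro v
    constructor
    · intro hv
      apply B.fix_T h2 hs0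
      rw [← hs, mul_smul, mul_smul, smul_inv_smul, B.T_Z t hv]
    · intro hv
      apply B.fix_T h2 ht
      have h7 := B.T_Z s hv
      rw [← hs, mul_smul, mul_smul, smul_inv_smul] at h7
      exact smul_left_cancel _ h7
  ext v
  rw [AddSubgroup.mem_pointwise_smul_iff_inv_smul_mem]
  exact (h6 v).symm

end Base

/-! ### Elements acting on the filtration `0 < Z < Z₂ < V` -/

section act

variable {G : Type*} [Group G] [DistribMulAction G (V K)]

/-- `g` acts as `1`, `c`, `c²` on the factors of the filtration -/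
structure Act (c : K) (g : G) : Prop where
  z : ∀ v : V K, v ∈ Zs K → g • v = v
  u : ∀ v : V K, v.1 = 0 → (g • v).1 = 0 ∧ (g • v).2.1 = c * v.2.1
  s : ∀ v : V K, (g • v).1 = c ^ 2 * v.1

theorem Act.one : Act (1 : K) (1 : G) where
  z v _ := one_smul _ v
  u v hv := by rw [one_smul, one_mul]; exact ⟨hv, rfl⟩
  s v := by rw [one_smul]; ring

theorem Act.mul {c d : K} {g h : G} (hg : Act c g) (hh : Act d h) : Act (c * d) (g * h) where
  z v hv := by rw [mul_smul, hh.z v hv, hg.z v hv]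
  u v hv := by
    rw [mul_smul]
    obtain ⟨h1, h2⟩ := hh.u v hv
    obtain ⟨h3, h4⟩ := hg.u (h • v) h1
    exact ⟨h3, by rw [h4, h2]; ring⟩
  s v := by rw [mul_smul, hg.s, hh.s]; ring

theorem Act.pow {c : K} {g : G} (hg : Act c g) (n : ℕ) : Act (c ^ n) (g ^ n) := by
  induction n with
  | zero => rw [pow_zero, pow_zero]; exact Act.one
  | succ n ih => rw [pow_succ, pow_succ]; exact ih.mul hg

theorem Act.inv {c : K} (hc : c ≠ 0) {g : G} (hg : Act c g) : Act c⁻¹ g⁻¹ where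
  z v hv := by rw [inv_smul_eq_iff, hg.z v hv]
  u v hv := by
    have h1 := hg.s (g⁻¹ • v)
    rw [smul_inv_smul, hv] at h1
    have h2 : (g⁻¹ • v).1 = 0 := (mul_eq_zero.1 h1.symm).resolve_left (pow_ne_zero 2 hc)
    obtain ⟨-, h4⟩ := hg.u (g⁻¹ • v) h2
    rw [smul_inv_smul] at h4
    exact ⟨h2, by rw [h4, inv_mul_cancel_left₀ hc]⟩
  s v := by
    have h1 := hg.s (g⁻¹ • v)
    rw [smul_inv_smul] at h1
    rw [h1, inv_pow, inv_mul_cancel_left₀ (pow_ne_zero 2 hc)]

theorem Act.stab {c : K} {g : G} (hg : Act c g) : g • Zs K = Zs K := by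
  ext v
  rw [AddSubgroup.mem_pointwise_smul_iff_inv_smul_mem]
  constructor
  · intro h
    have h1 := hg.z _ h
    rw [smul_inv_smul] at h1
    rw [h1]; exact h
  · intro h
    have h1 := hg.z _ h
    have h2 : g⁻¹ • v = v := by rw [inv_smul_eq_iff, h1]
    rw [h2]; exact h

theorem Act.of_maps {c : K} {g : G} (h0 : ∀ z : K, g • ((0, 0, z) : V K) = (0, 0, z))
    (h1 : ∀ u : K, ∃ z' : K, g • ((0, u, 0) : V K) = (0, c * u, z'))
    (h2 : ∀ s : K, ∃ u' z' : K, g • ((s, 0, 0) : V K) = (c ^ 2 * s, u', z')) : Act c g where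
  z v hv := by rw [eq_of_mem_Zs hv]; exact h0 _
  u v hv := by
    obtain ⟨s, u, z⟩ := v
    simp only at hv
    subst hv
    have e : ((0, u, z) : V K) = (0, u, 0) + (0, 0, z) := by ext <;> simp
    obtain ⟨z', hz'⟩ := h1 u
    rw [e, smul_add, hz', h0]
    exact ⟨by simp, by simp⟩
  s v := by
    obtain ⟨s, u, z⟩ := v
    have e : ((s, u, z) : V K) = (s, 0, 0) + ((0, u, 0) + (0, 0, z)) := by ext <;> simp
    obtain ⟨z', hz'⟩ := h1 u
    obtain ⟨u'', z'', hz''⟩ := h2 s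
    rw [e, smul_add, smul_add, hz', h0, hz'']
    simp

/-- iterates of a unipotent map -/
theorem pow_smul_sub {g : G} {v : V K} (h : g • (g • v - v) = g • v - v) (n : ℕ) :
    g ^ n • v = v + n • (g • v - v) := by
  induction n with
  | zero => simp
  | succ n ih =>
    rw [pow_succ', mul_smul, ih, smul_add, smul_comm g n, h, succ_nsmul]
    abel

theorem p_smul {p : ℕ} [CharP K p] (v : V K) : p • v = 0 := by
  obtain ⟨s, u, z⟩ := v
  ext <;> simp

/-- elements acting trivially on the factors are `p`-elements -/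
theorem Act.pow_eq {p : ℕ} [Fact p.Prime] [CharP K p] {g : G} (hg : Act (1 : K) g) (v : V K) :
    g ^ (p ^ 2) • v = v := by
  -- `g ^ p` is trivial modulo `Z`
  have key : ∀ v : V K, g ^ p • v - v ∈ Zs K := by
    intro v
    -- `g • v - v ∈ Z₂`, and `g` is trivial on `Z₂ / Z`
    have h1 : (g • v - v).1 = 0 := by
      show (g • v).1 - v.1 = 0
      rw [hg.s]; ring
    have step : ∀ n : ℕ, g ^ n • v - v - n • (g • v - v) ∈ Zs K := by
      intro n
      induction n with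
      | zero => simp [Zs]
      | succ n ih =>
        have e0 : ∀ w x : V K, g • v = w + v →
            g • x - v - (n + 1) • w = g • (x - v - n • w) + n • (g • w - w) := by
          intro w x h
          rw [smul_sub, smul_sub, smul_comm g n w, h, nsmul_sub, add_nsmul, one_nsmul]
          abel
        have e : g ^ (n + 1) • v - v - (n + 1) • (g • v - v) =
            (g • (g ^ n • v - v - n • (g • v - v))) + n • (g • (g • v - v) - (g • v - v)) := by
          rw [pow_succ', mul_smul]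
          exact e0 _ _ (by abel)
        rw [e]
        refine add_mem ?_ (nsmul_mem ?_ n)
        · rw [hg.z _ ih]; exact ih
        · obtain ⟨h2, h3⟩ := hg.u _ h1
          refine ⟨?_, ?_⟩
          · show (g • (g • v - v)).1 - (g • v - v).1 = 0
            rw [h2, h1, sub_zero]
          · show (g • (g • v - v)).2.1 - (g • v - v).2.1 = 0
            rw [h3]; ring
    have h4 := step p
    rwa [p_smul, sub_zero] at h4
  have h5 := pow_smul_sub (g := g ^ p) (v := v) ((hg.pow p).z _ (key v)) p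
  rw [p_smul, add_zero, ← pow_mul, ← pow_two] at h5
  exact h5

end act

namespace Base

variable {p : ℕ} {G : Type*} [Group G] [DistribMulAction G (V K)] (B : Base p K G)

include B

theorem act_T (t : K) : Act (1 : K) (B.T t) where
  z v hv := B.T_Z t hv
  u v hv := by
    obtain ⟨s, u, z⟩ := v
    simp only at hv
    subst hv
    rw [B.T_apply]
    exact ⟨rfl, by simp⟩
  s v := by
    obtain ⟨s, u, z⟩ := v
    rw [B.T_apply]
    simp

/-- **Lemma B**: elements acting trivially on the factors are in `P` -/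
theorem of_act_one [Finite G] [Fact p.Prime] [CharP K p] {g : G} (hg : Act (1 : K) g) : ∃ t, g = B.T t := by
  let N : Subgroup G :=
    { carrier := {g | Act (1 : K) g}
      one_mem' := Act.one
      mul_mem' := fun {a b} ha hb => by
        have := Act.mul ha hb
        rwa [one_mul] at this
      inv_mem' := fun {a} ha => by
        have := Act.inv one_ne_zero ha
        rwa [inv_one] at this }
  have hN : IsPGroup p N := by
    rintro ⟨x, hx⟩
    refine ⟨2, Subtype.ext ?_⟩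
    show x ^ p ^ 2 = 1
    exact B.faith _ (fun v => Act.pow_eq hx v)
  have hle : (B.P : Subgroup G) ≤ N := by
    intro x hx
    obtain ⟨t, rfl⟩ := (B.memP x).1 hx
    exact B.act_T t
  have h1 := B.P.3 hN hle
  have h2 : g ∈ N := hg
  rw [h1] at h2
  exact (B.memP g).1 h2

/-- **Lemma A**: an element fixing `Z` pointwise has the shape `Act c`, `c ≠ 0` -/
theorem exists_act (h2 : (2 : K) ≠ 0) {g : G} (hg : ∀ v : V K, v ∈ Zs K → g • v = v) :
    ∃ c : K, c ≠ 0 ∧ Act c g := by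
  have hstab : g • Zs K = Zs K := by
    ext v
    rw [AddSubgroup.mem_pointwise_smul_iff_inv_smul_mem]
    constructor
    · intro h
      have h1 := hg _ h
      rw [smul_inv_smul] at h1
      rw [h1]; exact h
    · intro h
      have h1 := hg _ h
      have h2 : g⁻¹ • v = v := by rw [inv_smul_eq_iff, h1]
      rw [h2]; exact h
  obtain ⟨a, ha⟩ := B.norm g hstab 1
  have ha0 : a ≠ 0 := by
    rintro rfl
    rw [B.T_zero, mul_inv_eq_one] at ha
    have h3 : B.T 1 = 1 := by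
      have : g * B.T 1 = g * 1 := by rw [ha, mul_one]
      exact mul_left_cancel this
    rw [← B.T_zero] at h3
    exact one_ne_zero (B.T_inj h3)
  -- `T a (g v) - g v = g (T 1 v - v)`
  have key : ∀ v : V K, B.T a • (g • v) - g • v = g • (B.T 1 • v - v) := by
    intro v
    rw [← ha, ← mul_smul, inv_mul_cancel_right, mul_smul, smul_sub]
  have hu : ∀ v : V K, v.1 = 0 → (g • v).1 = 0 ∧ (g • v).2.1 = a⁻¹ * v.2.1 := by
    intro v hv
    have h3 := key v
    rw [B.T_sub, B.T_sub, hv] at h3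
    have h4 : ((0, 1 * 0, 2 * 1 * v.2.1 + 1 ^ 2 * 0) : V K) ∈ Zs K := ⟨rfl, by simp⟩
    rw [hg _ h4] at h3
    have h5 := congrArg (fun v : V K => v.2.1) h3
    have h6 := congrArg (fun v : V K => v.2.2) h3
    simp only at h5 h6
    have h7 : (g • v).1 = 0 := by
      rw [mul_zero] at h5
      exact (mul_eq_zero.1 h5).resolve_left ha0
    refine ⟨h7, ?_⟩
    rw [h7] at h6
    rw [eq_inv_mul_iff_mul_eq₀ ha0]
    apply mul_left_cancel₀ h2
    linear_combination h6
  refine ⟨a⁻¹, inv_ne_zero ha0, hg, hu, fun v => ?_⟩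
  have h3 := key v
  rw [B.T_sub, B.T_sub] at h3
  have h4 := (hu (0, 1 * v.1, 2 * 1 * v.2.1 + 1 ^ 2 * v.1) rfl).2
  rw [← h3] at h4
  simp only at h4
  rw [inv_pow, eq_inv_mul_iff_mul_eq₀ (pow_ne_zero 2 ha0), pow_two, mul_assoc, h4, one_mul, mul_inv_cancel_left₀ ha0]

/-- conjugation of `T t` -/
theorem conj_T (h2 : (2 : K) ≠ 0) {g : G} {c : K} (hc : c ≠ 0) (hg : Act c g) (t : K) :
    g * B.T t * g⁻¹ = B.T (c⁻¹ * t) := by
  obtain ⟨a, ha⟩ := B.norm g hg.stab t
  rw [ha]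
  congr 1
  have key : ∀ v : V K, B.T a • (g • v) - g • v = g • (B.T t • v - v) := by
    intro v
    rw [← ha, ← mul_smul, inv_mul_cancel_right, mul_smul, smul_sub]
  have h3 := key (0, 1, 0)
  rw [B.T_sub, B.T_sub] at h3
  have h4 : ((0, t * ((0, 1, 0) : V K).1, 2 * t * ((0, 1, 0) : V K).2.1 + t ^ 2 * ((0, 1, 0) : V K).1) : V K) ∈ Zs K :=
    ⟨rfl, by simp⟩
  rw [hg.z _ h4] at h3
  obtain ⟨h5, h6⟩ := hg.u (0, 1, 0) rfl
  have h7 := congrArg (fun v : V K => v.2.2) h3
  simp only [h5, h6] at h7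
  rw [eq_inv_mul_iff_mul_eq₀ hc]
  apply mul_left_cancel₀ h2
  linear_combination h7

end Base

end Cfsg.Agent.H812.Sym
end

-- part: H812/SymDat
section
/-!
# The reduced situation of S5260-B: orbits of `Z` (helper812)
-/

set_option autoImplicit false
set_option linter.unusedSectionVars false

open scoped Pointwise

namespace Cfsg.Agent.H812.Sym

open Cfsg.Agent.H780

/-- the situation after the reduction to the centraliser of `D` -/
structure Dat (p : ℕ) (K : Type*) [Field K] [Fintype K] (G : Type*) [Group G] [DistribMulAction G (V K)] extends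
    Base p K G where
  two : (2 : K) ≠ 0
  D : AddSubgroup (V K)
  D_le : D ≤ Zs K
  D_fix : ∀ (g : G) (d : V K), d ∈ D → g • d = d
  D_ne : ∃ d ∈ D, d ≠ 0
  max : ∀ g : G, g • Zs K ≠ Zs K → Zs K ⊓ g • Zs K = D
  move : ∃ g : G, g • Zs K ≠ Zs K
  c : K
  hc : orderOf c = Fintype.card K - 1
  ζ : G
  hζ : Act c ζ
  ζ_pow : ζ ^ (Fintype.card K - 1) = 1

theorem card_smul {K : Type*} [Field K] {G : Type*} [Group G] [DistribMulAction G (V K)] (g : G)
    (W : AddSubgroup (V K)) : Nat.card (g • W : AddSubgroup (V K)) = Nat.card W := by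
  symm
  exact Nat.card_congr
    { toFun := fun v => ⟨g • (v : V K), AddSubgroup.smul_mem_pointwise_smul _ _ _ v.2⟩
      invFun := fun v => ⟨g⁻¹ • (v : V K), AddSubgroup.mem_pointwise_smul_iff_inv_smul_mem.1 v.2⟩
      left_inv := fun v => Subtype.ext (inv_smul_smul _ _)
      right_inv := fun v => Subtype.ext (smul_inv_smul _ _) }

namespace Dat

variable {p : ℕ} [Fact p.Prime] {K : Type*} [Field K] [Fintype K] [CharP K p] {G : Type*} [Group G] [Finite G]
  [DistribMulAction G (V K)] (A : Dat p K G)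

include A

omit [Fact p.Prime] [CharP K p] [Finite G] in
theorem mem_smul_of_mem_D (g : G) {d : V K} (hd : d ∈ A.D) : d ∈ g • Zs K := by
  rw [AddSubgroup.mem_pointwise_smul_iff_inv_smul_mem, A.D_fix g⁻¹ d hd]
  exact A.D_le hd

omit [Fact p.Prime] [CharP K p] [Finite G] in
theorem smul_D (g : G) : g • A.D = A.D := by
  ext v
  rw [AddSubgroup.mem_pointwise_smul_iff_inv_smul_mem]
  constructor
  · intro h
    have h1 := A.D_fix g _ h
    rw [smul_inv_smul] at h1
    rw [h1]; exact h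
  · intro h
    rw [A.D_fix g⁻¹ v h]; exact h

omit [Fact p.Prime] [CharP K p] [Finite G] in
/-- two members of the orbit meet in `D` -/
theorem inter {x y : G} (h : x • Zs K ≠ y • Zs K) {v : V K} (hx : v ∈ x • Zs K) (hy : v ∈ y • Zs K) : v ∈ A.D := by
  have h1 : (x⁻¹ * y) • Zs K ≠ Zs K := by
    intro h2
    apply h
    rw [mul_smul, inv_smul_eq_iff] at h2
    exact h2.symm
  have h3 : x⁻¹ • v ∈ Zs K ⊓ (x⁻¹ * y) • Zs K := by
    refine ⟨AddSubgroup.mem_pointwise_smul_iff_inv_smul_mem.1 hx, ?_⟩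
    show x⁻¹ • v ∈ (x⁻¹ * y) • Zs K
    rw [AddSubgroup.mem_pointwise_smul_iff_inv_smul_mem, mul_inv_rev, inv_inv, mul_smul, smul_inv_smul]
    exact AddSubgroup.mem_pointwise_smul_iff_inv_smul_mem.1 hy
  rw [A.max _ h1] at h3
  have h4 := A.D_fix x _ h3
  rw [smul_inv_smul] at h4
  rw [h4]
  exact h3

omit [CharP K p] in
theorem not_fix {g : G} (hg : g • Zs K ≠ Zs K) {t : K} (ht : t ≠ 0) : A.T t • (g • Zs K) ≠ g • Zs K :=
  fun h => hg (A.toBase.semireg A.two ht h)

omit [CharP K p] in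
/-- **Step 2** -/
theorem inf_Z2 {g : G} (hg : g • Zs K ≠ Zs K) {w : V K} (hw : w ∈ g • Zs K) (h0 : w.1 = 0) : w ∈ A.D := by
  by_cases hu : w.2.1 = 0
  · have h1 : w ∈ Zs K := ⟨h0, hu⟩
    have h2 : w ∈ Zs K ⊓ g • Zs K := ⟨h1, hw⟩
    rwa [A.max _ hg] at h2
  · exfalso
    obtain ⟨d, hd, hd0⟩ := A.D_ne
    have hdz := eq_of_mem_Zs (A.D_le hd)
    have hd2 : d.2.2 ≠ 0 := by
      intro h
      apply hd0
      rw [hdz, h]
      rfl
    have h2u : 2 * w.2.1 ≠ 0 := mul_ne_zero A.two hu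
    have ht : d.2.2 / (2 * w.2.1) ≠ 0 := div_ne_zero hd2 h2u
    have h1 : A.T (d.2.2 / (2 * w.2.1)) • w = w + d := by
      have h3 := A.toBase.T_sub (d.2.2 / (2 * w.2.1)) w
      rw [sub_eq_iff_eq_add'] at h3
      rw [h3]
      congr 1
      rw [hdz, h0]
      ext
      · rfl
      · simp
      · show 2 * (d.2.2 / (2 * w.2.1)) * w.2.1 + (d.2.2 / (2 * w.2.1)) ^ 2 * 0 = d.2.2
        have h2 := A.two
        field_simp
        ring
    have h4 : w + d ∈ A.D := by
      refine A.inter (x := g) (y := A.T (d.2.2 / (2 * w.2.1)) * g) ?_ ?_ ?_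
      · rw [mul_smul]
        exact (A.not_fix hg ht).symm
      · exact add_mem hw (A.mem_smul_of_mem_D g hd)
      · rw [← h1, mul_smul]
        exact AddSubgroup.smul_mem_pointwise_smul _ _ _ hw
    have h5 : w ∈ A.D := by
      have := sub_mem h4 hd
      rwa [add_sub_cancel_right] at this
    exact hu (A.D_le h5).2

/-- `W ⊄ D` -/
theorem exists_notMem (g : G) (hg : g • Zs K ≠ Zs K) : ∃ w ∈ g • Zs K, w ∉ A.D := by
  by_contra hcon
  push Not at hcon
  apply hg
  have h1 : g • Zs K ≤ Zs K := fun w hw => A.D_le (hcon w hw)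
  have h2 : Nat.card (g • Zs K : AddSubgroup (V K)) = Nat.card (Zs K) := card_smul g (Zs K)
  exact AddSubgroup.eq_of_le_of_card_ge h1 h2.ge

/-! ### The involution `j` -/

/-- the involution -/
def j (A : Dat p K G) : G := A.ζ ^ ((Fintype.card K - 1) / 2)

omit [Fact p.Prime] [CharP K p] [Finite G] in
theorem even_card : 2 * ((Fintype.card K - 1) / 2) = Fintype.card K - 1 := by
  have h : Odd (Fintype.card K) := by
    rw [← Nat.not_even_iff_odd]
    intro he
    have h1 := FiniteField.even_card_iff_char_two.2 (Nat.even_iff.1 he)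
    have h2 : CharP K 2 := by
      rw [← h1]; exact ringChar.charP K
    exact A.two (by exact_mod_cast (CharP.cast_eq_zero K 2))
  obtain ⟨k, hk⟩ := h
  omega

omit [Fact p.Prime] [CharP K p] [Finite G] in
theorem j_sq : A.j * A.j = 1 := by
  rw [j, ← pow_add, ← two_mul, A.even_card, A.ζ_pow]

omit [Fact p.Prime] [CharP K p] [Finite G] in
theorem act_j : Act (-1 : K) A.j := by
  have h1 := A.hζ.pow ((Fintype.card K - 1) / 2)
  have h2 : A.c ^ ((Fintype.card K - 1) / 2) = -1 := by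
    have h3 : A.c ^ ((Fintype.card K - 1) / 2) * A.c ^ ((Fintype.card K - 1) / 2) = 1 := by
      rw [← pow_add, ← two_mul, A.even_card, ← A.hc, pow_orderOf_eq_one]
    rcases mul_self_eq_one_iff.1 h3 with h4 | h4
    · exfalso
      have h5 := orderOf_dvd_of_pow_eq_one h4
      rw [A.hc] at h5
      have h6 := A.even_card
      have h7 : 1 < Fintype.card K := Fintype.one_lt_card
      have h8 := Nat.le_of_dvd (by omega) h5
      omega
    · exact h4
  rw [h2] at h1
  exact h1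

omit [Fact p.Prime] [CharP K p] [Finite G] in
theorem j_inv : A.j⁻¹ = A.j := inv_eq_of_mul_eq_one_left A.j_sq

omit [Fact p.Prime] [CharP K p] [Finite G] in
theorem j_T (t : K) : A.j * A.T t = A.T (-t) * A.j := by
  have h := A.toBase.conj_T A.two (neg_ne_zero.2 one_ne_zero) A.act_j t
  rw [inv_neg, inv_one, neg_one_mul] at h
  rw [← h, inv_mul_cancel_right]

omit [Fact p.Prime] [CharP K p] [Finite G] in
theorem j_ne_one : A.j ≠ 1 := by
  intro h
  have h1 := (A.act_j.u (0, 1, 0) rfl).2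
  rw [h, one_smul] at h1
  simp only [mul_one] at h1
  apply A.two
  linear_combination h1

omit [Fact p.Prime] [CharP K p] [Finite G] in
theorem TJ_sq (t : K) : (A.T t * A.j) * (A.T t * A.j) = 1 := by
  calc (A.T t * A.j) * (A.T t * A.j) = A.T t * (A.j * A.T t) * A.j := by group
    _ = (A.T t * A.T (-t)) * (A.j * A.j) := by rw [A.j_T]; group
    _ = 1 := by rw [← A.toBase.T_add, add_neg_cancel, A.toBase.T_zero, A.j_sq, one_mul]

omit [Fact p.Prime] [CharP K p] [Finite G] in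
theorem act_TJ (t : K) : Act (-1 : K) (A.T t * A.j) := by
  have h := (A.toBase.act_T t).mul A.act_j
  rwa [one_mul] at h

omit [Fact p.Prime] [CharP K p] [Finite G] in
/-- **Step 3**, existence: a fixed point of some `T t * j` -/
theorem exists_TJ {x : V K} (hx : x.1 ≠ 0) : ∃ t, (A.T t * A.j) • x = x := by
  have hs : (A.j • x).1 = x.1 := by
    rw [A.act_j.s]; ring
  refine ⟨(x.2.1 - (A.j • x).2.1) / x.1, ?_⟩
  set t := (x.2.1 - (A.j • x).2.1) / x.1 with ht
  have hZ : (A.T t * A.j) • x - x ∈ Zs K := by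
    have h1 := A.toBase.T_sub t (A.j • x)
    rw [sub_eq_iff_eq_add'] at h1
    rw [mul_smul, h1, hs]
    refine ⟨?_, ?_⟩
    · show (A.j • x).1 + 0 - x.1 = 0
      rw [hs]; ring
    · show (A.j • x).2.1 + t * x.1 - x.2.1 = 0
      rw [ht]
      field_simp
      ring
  have h2 : (A.T t * A.j) • ((A.T t * A.j) • x - x) = (A.T t * A.j) • x - x := (A.act_TJ t).z _ hZ
  rw [smul_sub, ← mul_smul, A.TJ_sq, one_smul] at h2
  -- `x - τ x = τ x - x`
  have h3 : (2 : K) * ((A.T t * A.j) • x - x).2.2 = 0 := by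
    have h4 := congrArg (fun v : V K => v.2.2) h2
    have h5 : x.2.2 - ((A.T t * A.j) • x).2.2 = ((A.T t * A.j) • x).2.2 - x.2.2 := h4
    show 2 * (((A.T t * A.j) • x).2.2 - x.2.2) = 0
    linear_combination -h5
  have h6 := (mul_eq_zero.1 h3).resolve_left A.two
  have h7 := eq_of_mem_Zs hZ
  rw [h6] at h7
  exact sub_eq_zero.1 h7

omit [CharP K p] in
theorem fx_unique {g : G} (hg : g • Zs K ≠ Zs K) {s t : K} (hs : (A.T s * A.j) • (g • Zs K) = g • Zs K)
    (ht : (A.T t * A.j) • (g • Zs K) = g • Zs K) : s = t := by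
  by_contra hne
  apply A.not_fix hg (sub_ne_zero.2 hne)
  have e : A.T (s - t) = (A.T s * A.j) * (A.T t * A.j)⁻¹ := by
    rw [sub_eq_add_neg, A.toBase.T_add, A.toBase.T_neg]
    group
  rw [e, mul_smul, inv_smul_eq_iff.2 ht.symm, hs]

/-- **Step 3** -/
theorem exists_fx {g : G} (hg : g • Zs K ≠ Zs K) : ∃ t, (A.T t * A.j) • (g • Zs K) = g • Zs K ∧
    ∀ w ∈ g • Zs K, (A.T t * A.j) • w = w := by
  -- one element
  have key : ∀ w ∈ g • Zs K, w ∉ A.D → ∃ t, (A.T t * A.j) • (g • Zs K) = g • Zs K ∧ (A.T t * A.j) • w = w := by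
    intro w hw hwD
    have h0 : w.1 ≠ 0 := fun h => hwD (A.inf_Z2 hg hw h)
    obtain ⟨t, ht⟩ := A.exists_TJ h0
    refine ⟨t, ?_, ht⟩
    by_contra hne
    apply hwD
    refine A.inter (x := A.T t * A.j * g) (y := g) (by rw [mul_smul]; exact hne) ?_ hw
    rw [mul_smul, ← ht]
    exact AddSubgroup.smul_mem_pointwise_smul _ _ _ hw
  obtain ⟨w₀, hw₀, hwD₀⟩ := A.exists_notMem g hg
  obtain ⟨t, ht, -⟩ := key w₀ hw₀ hwD₀
  refine ⟨t, ht, fun w hw => ?_⟩
  by_cases hwD : w ∈ A.D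
  · exact A.D_fix _ _ hwD
  · obtain ⟨s, hs, hsw⟩ := key w hw hwD
    rw [A.fx_unique hg ht hs]
    exact hsw

/-- `j` fixes pointwise the members of the orbit it normalises -/
theorem j_fix {g : G} (hg : A.j • (g • Zs K) = g • Zs K) {w : V K} (hw : w ∈ g • Zs K) : A.j • w = w := by
  by_cases h : g • Zs K = Zs K
  · rw [h] at hw
    exact A.act_j.z w hw
  · obtain ⟨t, ht, htw⟩ := A.exists_fx h
    have h0 : (A.T 0 * A.j) • (g • Zs K) = g • Zs K := by rw [A.toBase.T_zero, one_mul, hg]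
    have h1 : t = 0 := A.fx_unique h ht h0
    subst h1
    have := htw w hw
    rwa [A.toBase.T_zero, one_mul] at this

/-- **The conjugates of `j` normalising `Z`** -/
theorem conj_j {g : G} (hg : (g * A.j * g⁻¹) • Zs K = Zs K) : ∃ t, g * A.j * g⁻¹ = A.T t * A.j := by
  have h1 : A.j • (g⁻¹ • Zs K) = g⁻¹ • Zs K := by
    rw [mul_smul, mul_smul] at hg
    rw [eq_inv_smul_iff]; exact hg
  have hfix : ∀ v : V K, v ∈ Zs K → (g * A.j * g⁻¹) • v = v := by
    intro v hv
    have h2 : g⁻¹ • v ∈ g⁻¹ • Zs K := AddSubgroup.smul_mem_pointwise_smul _ _ _ hv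
    rw [mul_smul, mul_smul, A.j_fix h1 h2, smul_inv_smul]
  obtain ⟨c, hc, hact⟩ := A.toBase.exists_act A.two hfix
  have hsq : (g * A.j * g⁻¹) * (g * A.j * g⁻¹) = 1 := by
    calc (g * A.j * g⁻¹) * (g * A.j * g⁻¹) = g * (A.j * A.j) * g⁻¹ := by group
      _ = 1 := by rw [A.j_sq]; group
  have hcc : c * c = 1 := by
    have h3 := ((hact.mul hact).u (0, 1, 0) rfl).2
    rw [hsq, one_smul] at h3
    simpa using h3.symm
  rcases mul_self_eq_one_iff.1 hcc with h | h
  · exfalso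
    subst h
    obtain ⟨t, ht⟩ := A.toBase.of_act_one hact
    rw [ht, ← A.toBase.T_add, ← A.toBase.T_zero] at hsq
    have h4 := A.toBase.T_inj hsq
    rw [← two_mul] at h4
    have h5 := (mul_eq_zero.1 h4).resolve_left A.two
    rw [h5, A.toBase.T_zero] at ht
    exact A.j_ne_one (conj_eq_one_iff.1 ht)
  · subst h
    have h3 := hact.mul A.act_j
    rw [neg_one_mul, neg_neg] at h3
    obtain ⟨t, ht⟩ := A.toBase.of_act_one h3
    refine ⟨t, ?_⟩
    rw [← ht, mul_assoc (g * A.j * g⁻¹), A.j_sq, mul_one]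

end Dat

end Cfsg.Agent.H812.Sym
end

-- part: H812/SymCount
section
/-!
# Counting the orbit of `Z` (helper812; S5260-B)
-/

set_option autoImplicit false
set_option linter.unusedSectionVars false

open scoped Pointwise

namespace Cfsg.Agent.H812.Sym

open Cfsg.Agent.H780

namespace Dat

variable {p : ℕ} [Fact p.Prime] {K : Type*} [Field K] [Fintype K] [CharP K p] {G : Type*} [Group G] [Finite G]
  [DistribMulAction G (V K)] (A : Dat p K G)

include A

/-- the stabiliser of `Z` -/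
def N (_ : Dat p K G) : Subgroup G := MulAction.stabilizer G (Zs K)

/-- the centraliser of `j` -/
def C (A : Dat p K G) : Subgroup G := Subgroup.centralizer ({A.j} : Set G)

/-- the orbit of `Z` -/
def Om (_ : Dat p K G) : Set (AddSubgroup (V K)) := MulAction.orbit G (Zs K)

/-- the members of the orbit fixed by `j` -/
def F (A : Dat p K G) : Set (AddSubgroup (V K)) := {W | W ∈ A.Om ∧ A.j • W = W}

theorem mem_N {g : G} : g ∈ A.N ↔ g • Zs K = Zs K := MulAction.mem_stabilizer_iff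

theorem mem_C {g : G} : g ∈ A.C ↔ g * A.j = A.j * g := Subgroup.mem_centralizer_singleton_iff

theorem T_mem_N (t : K) : A.T t ∈ A.N := A.mem_N.2 (A.toBase.act_T t).stab

/-- `T t ∈ C` only for `t = 0` -/
theorem T_mem_C {t : K} (h : A.T t ∈ A.C) : t = 0 := by
  rw [A.mem_C, A.j_T] at h
  have h1 := A.toBase.T_inj (mul_right_cancel h)
  have h2 : 2 * t = 0 := by linear_combination h1
  exact (mul_eq_zero.1 h2).resolve_left A.two

/-- elements `x` with `x j x⁻¹ = T r j` become elements of `C` -/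
theorem mem_C_of_conj {x : G} {r : K} (h : x⁻¹ * A.j * x = A.T r * A.j) : x * A.T (r / 2) ∈ A.C := by
  rw [A.mem_C]
  have h2 := A.two
  have e : A.j * x = x * (A.T r * A.j) := by rw [← h]; group
  calc x * A.T (r / 2) * A.j = x * (A.T (r + -(r / 2)) * A.j) := by
        rw [mul_assoc]
        congr 3
        field_simp
        ring
    _ = x * (A.T r * A.j) * A.T (r / 2) := by
        rw [A.toBase.T_add]
        simp only [mul_assoc]
        rw [A.j_T]
    _ = A.j * (x * A.T (r / 2)) := by rw [← e, mul_assoc]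

theorem card_P : Nat.card A.P = Fintype.card K := by
  rw [← Nat.card_eq_fintype_card]
  symm
  refine Nat.card_congr (Equiv.ofBijective (fun t => (⟨A.T t, A.toBase.T_mem t⟩ : A.P)) ⟨?_, ?_⟩)
  · intro s t h
    exact A.toBase.T_inj (congrArg Subtype.val h)
  · rintro ⟨g, hg⟩
    obtain ⟨t, rfl⟩ := (A.memP g).1 hg
    exact ⟨t, rfl⟩

theorem card_N : Nat.card A.N = Fintype.card K * Nat.card (A.C ⊓ A.N : Subgroup G) := by
  rw [← Nat.card_eq_fintype_card, ← Nat.card_prod]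
  symm
  refine Nat.card_congr (Equiv.ofBijective
    (fun x : K × (A.C ⊓ A.N : Subgroup G) => (⟨A.T x.1 * x.2, mul_mem (A.T_mem_N _) x.2.2.2⟩ : A.N)) ⟨?_, ?_⟩)
  · rintro ⟨s, x, hx⟩ ⟨t, y, hy⟩ h
    have h1 : A.T s * x = A.T t * y := congrArg Subtype.val h
    have h2 : A.T (-t + s) = y * x⁻¹ := by
      rw [A.toBase.T_add, A.toBase.T_neg, inv_mul_eq_iff_eq_mul, ← mul_assoc, ← h1, mul_inv_cancel_right]
    have h3 : -t + s = 0 := by
      apply A.T_mem_C
      rw [h2]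
      exact mul_mem hy.1 (inv_mem hx.1)
    have h4 : s = t := by linear_combination h3
    subst h4
    have h5 : x = y := mul_left_cancel h1
    subst h5
    rfl
  · rintro ⟨g, hg⟩
    have hg' : g⁻¹ ∈ A.N := inv_mem hg
    have hgZ := A.mem_N.1 hg
    have hgZ' := A.mem_N.1 hg'
    have hj : A.j • Zs K = Zs K := A.act_j.stab
    obtain ⟨r, hr⟩ := A.conj_j (g := g) (by rw [mul_smul, mul_smul, hgZ', hj, hgZ])
    have hc : g⁻¹ * A.T (r / 2) ∈ A.C := A.mem_C_of_conj (x := g⁻¹) (by rw [inv_inv]; exact hr)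
    refine ⟨⟨r / 2, ⟨A.T (-(r / 2)) * g, ?_, mul_mem (A.T_mem_N _) hg⟩⟩, Subtype.ext ?_⟩
    · have := inv_mem hc
      rwa [mul_inv_rev, inv_inv, ← A.toBase.T_neg] at this
    · show A.T (r / 2) * (A.T (-(r / 2)) * g) = g
      rw [A.toBase.T_neg, mul_inv_cancel_left]

theorem card_Om : Nat.card A.Om * Nat.card A.N = Nat.card G := by
  have h := MulAction.index_stabilizer G (Zs K)
  have h1 : A.N.index = Nat.card A.Om := h
  rw [← h1, mul_comm]
  exact A.N.card_mul_index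

/-- `F` is the orbit of `Z` under `C` -/
theorem F_eq : A.F = MulAction.orbit A.C (Zs K) := by
  ext W
  constructor
  · rintro ⟨⟨g, rfl⟩, hj⟩
    simp only at hj
    have h1 : (g⁻¹ * A.j * g) • Zs K = Zs K := by
      rw [mul_smul, mul_smul, hj, inv_smul_smul]
    obtain ⟨r, hr⟩ := A.conj_j (g := g⁻¹) (by rw [inv_inv]; exact h1)
    rw [inv_inv] at hr
    refine ⟨⟨g * A.T (r / 2), A.mem_C_of_conj hr⟩, ?_⟩
    show (g * A.T (r / 2)) • Zs K = g • Zs K
    rw [mul_smul, A.mem_N.1 (A.T_mem_N _)]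
  · rintro ⟨⟨x, hx⟩, rfl⟩
    refine ⟨⟨x, rfl⟩, ?_⟩
    show A.j • (x • Zs K) = x • Zs K
    rw [← mul_smul, ← A.mem_C.1 hx, mul_smul, A.act_j.stab]

theorem card_F : Nat.card A.F * Nat.card (A.C ⊓ A.N : Subgroup G) = Nat.card A.C := by
  have h := MulAction.index_stabilizer A.C (Zs K)
  have h1 : (MulAction.stabilizer A.C (Zs K)).index = Nat.card A.F := by rw [h, A.F_eq]; rfl
  have h2 : Nat.card (MulAction.stabilizer A.C (Zs K)) = Nat.card (A.C ⊓ A.N : Subgroup G) :=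
    Nat.card_congr
      { toFun := fun x => ⟨(x : A.C), x.1.2, A.mem_N.2 (MulAction.mem_stabilizer_iff.1 x.2)⟩
        invFun := fun x => ⟨⟨x, x.2.1⟩, MulAction.mem_stabilizer_iff.2 (A.mem_N.1 x.2.2)⟩
        left_inv := fun _ => rfl
        right_inv := fun _ => rfl }
  rw [← h1, ← h2, mul_comm]
  exact Subgroup.card_mul_index _

theorem p_not_dvd : ¬ p ∣ Nat.card A.C := by
  intro h
  obtain ⟨⟨x, hx⟩, hxo⟩ := exists_prime_orderOf_dvd_card' p h
  rw [Subgroup.orderOf_mk] at hxo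
  -- conjugate into `P`
  have hp : IsPGroup p (Subgroup.zpowers x) := by
    refine IsPGroup.of_card (n := 1) ?_
    rw [Nat.card_zpowers, hxo, pow_one]
  obtain ⟨Q, hQ⟩ := hp.exists_le_sylow
  obtain ⟨g, hg⟩ := MulAction.exists_smul_eq G Q A.P
  have h1 : g * x * g⁻¹ ∈ A.P := by
    rw [← hg]
    exact ⟨x, hQ (Subgroup.mem_zpowers x), rfl⟩
  obtain ⟨t, ht⟩ := (A.memP _).1 h1
  have ht0 : t ≠ 0 := by
    rintro rfl
    rw [A.toBase.T_zero, conj_eq_one_iff] at ht
    rw [ht, orderOf_one] at hxo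
    exact (Fact.out : p.Prime).one_lt.ne hxo
  -- `g j g⁻¹` commutes with `T t`
  have hcomm : (g * A.j * g⁻¹) * A.T t = A.T t * (g * A.j * g⁻¹) := by
    rw [← ht]
    calc g * A.j * g⁻¹ * (g * x * g⁻¹) = g * (A.j * x) * g⁻¹ := by group
      _ = g * (x * A.j) * g⁻¹ := by rw [A.mem_C.1 hx]
      _ = g * x * g⁻¹ * (g * A.j * g⁻¹) := by group
  have hZ : (g * A.j * g⁻¹) • Zs K = Zs K := by
    have key : ∀ y : G, y * A.T t = A.T t * y → ∀ v ∈ Zs K, y • v ∈ Zs K := by
      intro y hy v hv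
      apply A.toBase.fix_T A.two ht0
      rw [← mul_smul, ← hy, mul_smul, A.toBase.T_Z t hv]
    ext v
    rw [AddSubgroup.mem_pointwise_smul_iff_inv_smul_mem]
    constructor
    · intro hv
      have := key _ hcomm _ hv
      rwa [smul_inv_smul] at this
    · intro hv
      refine key _ ?_ v hv
      rw [inv_mul_eq_iff_eq_mul, ← mul_assoc, hcomm, mul_inv_cancel_right]
  obtain ⟨r, hr⟩ := A.conj_j hZ
  rw [hr] at hcomm
  apply ht0
  apply A.T_mem_C
  rw [A.mem_C]
  have h2 : A.T r * (A.j * A.T t) = A.T r * (A.T t * A.j) := by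
    rw [← mul_assoc, hcomm, ← mul_assoc, A.toBase.T_comm, mul_assoc]
  exact (mul_left_cancel h2).symm

theorem card_mul_dvd : Fintype.card K * Nat.card A.C ∣ Nat.card G := by
  refine Nat.Coprime.mul_dvd_of_dvd_of_dvd ?_ ?_ (Subgroup.card_subgroup_dvd_card _)
  · obtain ⟨n, hn⟩ := IsPGroup.iff_card.1 A.P.2
    rw [← A.card_P, hn]
    exact Nat.Coprime.pow_left n (((Fact.out : p.Prime).coprime_iff_not_dvd).2 A.p_not_dvd)
  · rw [← A.card_P]
    exact Subgroup.card_subgroup_dvd_card _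

theorem F_dvd : Nat.card A.F ∣ Nat.card A.Om := by
  have h1 := A.card_mul_dvd
  rw [← A.card_F, ← A.card_Om, A.card_N] at h1
  obtain ⟨k, hk⟩ := h1
  have hpos : 0 < Fintype.card K * Nat.card (A.C ⊓ A.N : Subgroup G) :=
    Nat.mul_pos Fintype.card_pos Nat.card_pos
  refine ⟨k, ?_⟩
  apply Nat.eq_of_mul_eq_mul_right hpos
  rw [hk]
  ring

/-! ### `|Ω| = 1 + q n` -/

/-- the members of `F` different from `Z` -/
def F' (A : Dat p K G) : Set (AddSubgroup (V K)) := {W | W ∈ A.F ∧ W ≠ Zs K}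

theorem card_F' : Nat.card A.F = Nat.card A.F' + 1 := by
  classical
  have hZ : Zs K ∈ A.F := ⟨⟨1, one_smul _ _⟩, A.act_j.stab⟩
  have h1 : A.F = insert (Zs K) A.F' := by
    ext W
    constructor
    · intro h
      by_cases hW : W = Zs K
      · exact Or.inl hW
      · exact Or.inr ⟨h, hW⟩
    · rintro (rfl | h)
      · exact hZ
      · exact h.1
  rw [h1, Nat.card_coe_set_eq, Set.ncard_insert_of_notMem (fun h => h.2 rfl) (Set.toFinite _), Nat.card_coe_set_eq]

theorem smul_mem_Om {W : AddSubgroup (V K)} (g : G) (h : W ∈ A.Om) : g • W ∈ A.Om := by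
  obtain ⟨x, rfl⟩ := h
  exact ⟨g * x, mul_smul _ _ _⟩

theorem card_Om' : Nat.card A.Om = Fintype.card K * Nat.card A.F' + 1 := by
  classical
  have hZ : Zs K ∈ A.Om := ⟨1, one_smul _ _⟩
  have h1 : A.Om = insert (Zs K) {W | W ∈ A.Om ∧ W ≠ Zs K} := by
    ext W
    constructor
    · intro h
      by_cases hW : W = Zs K
      · exact Or.inl hW
      · exact Or.inr ⟨h, hW⟩
    · rintro (rfl | h)
      · exact hZ
      · exact h.1
  rw [h1, Nat.card_coe_set_eq, Set.ncard_insert_of_notMem (fun h => h.2 rfl) (Set.toFinite _)]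
  congr 1
  rw [← Nat.card_coe_set_eq, ← Nat.card_eq_fintype_card, ← Nat.card_prod]
  symm
  have hTZ : ∀ (t : K) (W : AddSubgroup (V K)), W ≠ Zs K → A.T t • W ≠ Zs K := by
    intro t W hW h
    apply hW
    rw [← A.mem_N.1 (A.T_mem_N t)] at h
    exact smul_left_cancel _ h
  refine Nat.card_congr (Equiv.ofBijective (fun x : K × A.F' => (⟨A.T x.1 • (x.2 : AddSubgroup (V K)),
    A.smul_mem_Om _ x.2.2.1.1, hTZ _ _ x.2.2.2⟩ : {W | W ∈ A.Om ∧ W ≠ Zs K})) ⟨?_, ?_⟩)
  · rintro ⟨s, W, ⟨⟨⟨x, rfl⟩, hj⟩, hne⟩⟩ ⟨t, W', ⟨⟨hO', hj'⟩, hne'⟩⟩ h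
    have h1 : A.T s • (x • Zs K) = A.T t • W' := congrArg Subtype.val h
    simp only at hj hne
    -- `W' = T (s - t) W`
    have h2 : W' = A.T (-t + s) • (x • Zs K) := by
      rw [A.toBase.T_add, A.toBase.T_neg, mul_smul, h1, inv_smul_smul]
    -- `T (2 (s - t)) j` fixes `W'`, and `j` fixes `W'`
    have hne2 : (A.T (-t + s) * x) • Zs K ≠ Zs K := by rw [mul_smul, ← h2]; exact hne'
    have h3 : (A.T (2 * (-t + s)) * A.j) • ((A.T (-t + s) * x) • Zs K) = (A.T (-t + s) * x) • Zs K := by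
      have e : A.T (2 * (-t + s)) * A.j * (A.T (-t + s) * x) = A.T (-t + s) * (A.j * x) := by
        rw [two_mul, A.toBase.T_add]
        calc A.T (-t + s) * A.T (-t + s) * A.j * (A.T (-t + s) * x)
            = A.T (-t + s) * A.T (-t + s) * (A.j * A.T (-t + s)) * x := by group
          _ = A.T (-t + s) * (A.T (-t + s) * A.T (-(-t + s))) * A.j * x := by rw [A.j_T]; group
          _ = A.T (-t + s) * (A.j * x) := by
            rw [← A.toBase.T_add, add_neg_cancel, A.toBase.T_zero]; group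
      rw [← mul_smul, e, mul_smul, mul_smul, hj, ← mul_smul]
    have h4 : (A.T 0 * A.j) • ((A.T (-t + s) * x) • Zs K) = (A.T (-t + s) * x) • Zs K := by
      rw [A.toBase.T_zero, one_mul, mul_smul (A.T (-t + s)), ← h2, hj']
    have h5 := A.fx_unique hne2 h3 h4
    have h6 := (mul_eq_zero.1 h5).resolve_left A.two
    have h7 : s = t := by linear_combination h6
    subst h7
    have h8 : W' = x • Zs K := by rw [h2, neg_add_cancel, A.toBase.T_zero, one_smul]
    subst h8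
    rfl
  · rintro ⟨W, ⟨⟨x, rfl⟩, hne⟩⟩
    simp only at hne
    obtain ⟨t, ht, -⟩ := A.exists_fx hne
    have h2 := A.two
    refine ⟨⟨t / 2, ⟨A.T (-(t / 2)) • (x • Zs K), ⟨⟨A.smul_mem_Om _ ⟨x, rfl⟩, ?_⟩, hTZ _ _ hne⟩⟩⟩, Subtype.ext ?_⟩
    · -- `j T(-t/2) = T(t/2) j`, `T(t) j W = W`
      have e : A.j * A.T (-(t / 2)) = A.T (-(t / 2)) * (A.T t * A.j) := by
        rw [A.j_T, neg_neg, ← mul_assoc, ← A.toBase.T_add]
        congr 2
        field_simp
        ring
      rw [← mul_smul, e, mul_smul, ht]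
    · show A.T (t / 2) • (A.T (-(t / 2)) • (x • Zs K)) = x • Zs K
      rw [A.toBase.T_neg, smul_inv_smul]

theorem F'_pos : 0 < Nat.card A.F' := by
  by_contra hcon
  have h0 : Nat.card A.F' = 0 := by omega
  have h1 := A.card_Om'
  rw [h0, mul_zero, zero_add] at h1
  obtain ⟨g, hg⟩ := A.move
  rw [Nat.card_coe_set_eq, Set.ncard_eq_one] at h1
  obtain ⟨W, hW⟩ := h1
  have h2 : Zs K ∈ A.Om := ⟨1, one_smul _ _⟩
  have h3 : g • Zs K ∈ A.Om := ⟨g, rfl⟩
  rw [hW] at h2 h3
  rw [Set.mem_singleton_iff] at h2 h3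
  exact hg (h3.trans h2.symm)

/-- `f` divides `q - 1` -/
theorem F_dvd' : (Nat.card A.F' + 1) ∣ Fintype.card K - 1 := by
  have h1 := A.F_dvd
  rw [A.card_Om', A.card_F'] at h1
  have hq : 1 ≤ Fintype.card K := Fintype.card_pos
  obtain ⟨m, hm⟩ : ∃ m, Fintype.card K = m + 1 := ⟨Fintype.card K - 1, by omega⟩
  rw [hm] at h1 ⊢
  -- `(m+1) n + 1 = (m+1)(n+1) - m`
  have h2 : (m + 1) * Nat.card A.F' + 1 + m = (m + 1) * (Nat.card A.F' + 1) := by ring
  have h3 : (Nat.card A.F' + 1) ∣ (m + 1) * Nat.card A.F' + 1 + m := by rw [h2]; exact Dvd.intro_left _ rfl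
  have h4 := (Nat.dvd_add_right h1).1 h3
  simpa using h4

end Dat

end Cfsg.Agent.H812.Sym
end

-- part: H812/SymSix
section
/-!
# The orders of `D` and of the image of `W` (helper812; S5260-B, steps 6-7)
-/

set_option autoImplicit false
set_option linter.unusedSectionVars false

open scoped Pointwise

namespace Cfsg.Agent.H812.Sym

open Cfsg.Agent.H780

namespace Dat

variable {p : ℕ} [Fact p.Prime] {K : Type*} [Field K] [Fintype K] [CharP K p] {G : Type*} [Group G] [Finite G]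
  [DistribMulAction G (V K)] (A : Dat p K G)

include A

/-- **Step 6** -/
theorem six {W : AddSubgroup (V K)} (hW : W ∈ A.F') {w : V K} (hw : w ∈ W) (h0 : w.1 ≠ 0) {t : K} (ht : t ≠ 0) :
    ((0, 0, t ^ 2 * w.1) : V K) ∉ A.D := by
  intro hd
  obtain ⟨hF, hne⟩ := hW
  have hF2 := hF
  rw [A.F_eq] at hF2
  obtain ⟨⟨g, hg⟩, rfl⟩ := hF2
  have hw' : w ∈ g • Zs K := hw
  have hne' : g • Zs K ≠ Zs K := hne
  have hgj : A.j * g = g * A.j := (A.mem_C.1 hg).symm
  have hjw : A.j • w = w := A.j_fix hF.2 hw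
  set d : V K := (0, 0, t ^ 2 * w.1) with hdef
  set v : V K := (0, t * w.1, 2 * t * w.2.1) with hv
  -- `T t w = w + d + v`, `T (-t) w = w + d - v`
  have h1 : A.T t • w = w + d + v := by
    have := A.toBase.T_sub t w
    rw [sub_eq_iff_eq_add'] at this
    rw [this, add_assoc]
    congr 1
    ext
    · simp [hdef, hv]
    · simp [hdef, hv]
    · show 2 * t * w.2.1 + t ^ 2 * w.1 = t ^ 2 * w.1 + 2 * t * w.2.1
      ring
  have h2 : A.T (-t) • w = w + d - v := by
    have := A.toBase.T_sub (-t) w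
    rw [sub_eq_iff_eq_add'] at this
    rw [this, add_sub_assoc]
    congr 1
    ext
    · simp [hdef, hv]
    · simp [hdef, hv]
    · show 2 * -t * w.2.1 + (-t) ^ 2 * w.1 = t ^ 2 * w.1 - 2 * t * w.2.1
      ring
  -- `j v = -v`
  have hjd : A.j • d = d := A.D_fix _ _ hd
  have hjv : A.j • v = -v := by
    have h3 : A.j • (A.T t • w) = A.T (-t) • w := by
      rw [← mul_smul, A.j_T, mul_smul, hjw]
    rw [h1, h2, smul_add, smul_add, hjw, hjd] at h3
    have h4 : w + d + A.j • v = w + d + -v := by rw [h3, sub_eq_add_neg]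
    exact add_left_cancel h4
  -- `y = g⁻¹ v` is in `Z₂ ∖ Z`
  have hjy : A.j • (g⁻¹ • v) = -(g⁻¹ • v) := by
    rw [← mul_smul]
    have e : A.j * g⁻¹ = g⁻¹ * A.j := by
      rw [eq_inv_mul_iff_mul_eq, ← mul_assoc, ← hgj, mul_inv_cancel_right]
    rw [e, mul_smul, hjv, smul_neg]
  set y : V K := g⁻¹ • v with hy
  have hy1 : y.1 = 0 := by
    have h3 := A.act_j.s y
    rw [hjy] at h3
    have h4 : -y.1 = (-1) ^ 2 * y.1 := h3
    have h5 : 2 * y.1 = 0 := by linear_combination -h4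
    exact (mul_eq_zero.1 h5).resolve_left A.two
  have hv0 : v ≠ 0 := by
    intro h
    have h3 := congrArg (fun v : V K => v.2.1) h
    have h4 : t * w.1 = 0 := h3
    exact (mul_ne_zero ht h0) h4
  have hy0 : y ≠ 0 := by
    intro h
    apply hv0
    rw [← smul_inv_smul g v, ← hy, h, smul_zero]
  have hy2 : y.2.1 ≠ 0 := by
    intro h
    have h3 : y ∈ Zs K := ⟨hy1, h⟩
    have h4 := A.act_j.z y h3
    rw [hjy] at h4
    have h5 : -y.2.2 = y.2.2 := congrArg (fun v : V K => v.2.2) h4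
    have h6 : 2 * y.2.2 = 0 := by linear_combination -h5
    have h7 := (mul_eq_zero.1 h6).resolve_left A.two
    apply hy0
    rw [eq_of_mem_Zs h3, h7]
    rfl
  -- `w' = w + d ∈ W`
  have hw2 : g⁻¹ • (w + d) ∈ Zs K :=
    AddSubgroup.mem_pointwise_smul_iff_inv_smul_mem.1 (add_mem hw' (A.mem_smul_of_mem_D g hd))
  -- `θ = T r` with `T r y = y - g⁻¹ w'`
  obtain ⟨r, hr⟩ : ∃ r : K, A.T r • y = y - g⁻¹ • (w + d) := by
    have h2y : 2 * y.2.1 ≠ 0 := mul_ne_zero A.two hy2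
    refine ⟨-(g⁻¹ • (w + d)).2.2 / (2 * y.2.1), ?_⟩
    have h3 := A.toBase.T_sub (-(g⁻¹ • (w + d)).2.2 / (2 * y.2.1)) y
    rw [sub_eq_iff_eq_add'] at h3
    rw [h3, sub_eq_add_neg]
    congr 1
    have h4 := eq_of_mem_Zs hw2
    generalize g⁻¹ • (w + d) = x at h4 ⊢
    rw [h4, hy1]
    ext
    · simp
    · simp
    · have h2 := A.two
      show 2 * (-x.2.2 / (2 * y.2.1)) * y.2.1 + (-x.2.2 / (2 * y.2.1)) ^ 2 * 0 = -x.2.2
      field_simp
      ring
  -- `θ' = g T(r) g⁻¹`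
  have hθv : (g * A.T r * g⁻¹) • v = v - (w + d) := by
    rw [mul_smul, mul_smul, ← hy, hr, smul_sub, smul_inv_smul, smul_inv_smul]
  have hθw : (g * A.T r * g⁻¹) • (w + d) = w + d := by
    rw [mul_smul, mul_smul, A.toBase.T_Z r hw2, smul_inv_smul]
  have hθ : (g * A.T r * g⁻¹) • (A.T t • w) = v := by
    rw [h1, smul_add, hθw, hθv]
    abel
  -- `v` is in a member of the orbit
  have hvW : v ∈ (g * A.T r * g⁻¹ * A.T t * g) • Zs K := by
    have h3 : (g * A.T r * g⁻¹ * A.T t * g) • Zs K = (g * A.T r * g⁻¹) • (A.T t • (g • Zs K)) := by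
      rw [mul_smul, mul_smul]
    rw [h3, ← hθ]
    exact AddSubgroup.smul_mem_pointwise_smul _ _ _ (AddSubgroup.smul_mem_pointwise_smul _ _ _ hw')
  have hvZ : v ∉ Zs K := fun h => mul_ne_zero ht h0 h.2
  have hne3 : (g * A.T r * g⁻¹ * A.T t * g) • Zs K ≠ Zs K := fun h => by rw [h] at hvW; exact hvZ hvW
  exact hvZ (A.D_le (A.inf_Z2 hne3 hvW rfl))

/-- the values on `D` -/
def D' (A : Dat p K G) : AddSubgroup K where
  carrier := {z | ((0, 0, z) : V K) ∈ A.D}
  zero_mem' := A.D.zero_mem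
  add_mem' := by
    intro a b ha hb
    have := A.D.add_mem ha hb
    simpa using this
  neg_mem' := by
    intro a ha
    have := A.D.neg_mem ha
    simpa using this

theorem card_D' : Nat.card A.D' = Nat.card A.D := by
  refine Nat.card_congr
    { toFun := fun z => ⟨(0, 0, (z : K)), z.2⟩
      invFun := fun d => ⟨(d : V K).2.2, ?_⟩
      left_inv := fun z => rfl
      right_inv := fun d => Subtype.ext (eq_of_mem_Zs (A.D_le d.2)).symm }
  show ((0, 0, (d : V K).2.2) : V K) ∈ A.D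
  rw [← eq_of_mem_Zs (A.D_le d.2)]
  exact d.2

/-- first coordinates -/
def Sg (W : AddSubgroup (V K)) : AddSubgroup K := W.map (AddMonoidHom.fst K (K × K))

omit A in
theorem mem_Sg {W : AddSubgroup (V K)} {x : K} : x ∈ Sg W ↔ ∃ w ∈ W, w.1 = x := Iff.rfl

theorem card_Zs : Nat.card (Zs K) = Fintype.card K := by
  rw [← Nat.card_eq_fintype_card]
  exact Nat.card_congr
    { toFun := fun v => (v : V K).2.2
      invFun := fun z => ⟨(0, 0, z), mem_Zs' z⟩
      left_inv := fun v => Subtype.ext (eq_of_mem_Zs v.2).symm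
      right_inv := fun z => rfl }

theorem card_Sg {W : AddSubgroup (V K)} (hW : W ∈ A.F') : Nat.card A.D' * Nat.card (Sg W) = Fintype.card K := by
  obtain ⟨⟨⟨g, rfl⟩, hj⟩, hne⟩ := hW
  have hne' : g • Zs K ≠ Zs K := hne
  have h1 : Nat.card (g • Zs K : AddSubgroup (V K)) = Fintype.card K := by rw [card_smul, A.card_Zs]
  let f : (g • Zs K : AddSubgroup (V K)) →+ K := (AddMonoidHom.fst K (K × K)).comp (g • Zs K : AddSubgroup (V K)).subtype
  have hr : f.range = Sg (g • Zs K) := by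
    ext x
    constructor
    · rintro ⟨⟨w, hw⟩, rfl⟩
      exact ⟨w, hw, rfl⟩
    · rintro ⟨w, hw, rfl⟩
      exact ⟨⟨w, hw⟩, rfl⟩
  have hk : Nat.card f.ker = Nat.card A.D := by
    refine Nat.card_congr
      { toFun := fun w => ⟨((w : (g • Zs K : AddSubgroup (V K))) : V K), A.inf_Z2 hne' w.1.2 w.2⟩
        invFun := fun d => ⟨⟨(d : V K), A.mem_smul_of_mem_D g d.2⟩, (A.D_le d.2).1⟩
        left_inv := fun w => rfl
        right_inv := fun d => rfl }
  have h2 := f.ker.card_mul_index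
  rw [AddSubgroup.index_ker, hr, hk, h1, ← A.card_D'] at h2
  exact h2

theorem not_isSquare {W : AddSubgroup (V K)} (hW : W ∈ A.F') {x y : K} (hx : x ∈ Sg W) (hx0 : x ≠ 0)
    (hy : y ∈ A.D') (hy0 : y ≠ 0) : ¬ IsSquare (x * y) := by
  rintro ⟨a, ha⟩
  obtain ⟨w, hw, rfl⟩ := hx
  have ha0 : a ≠ 0 := by
    rintro rfl
    rw [mul_zero] at ha
    exact mul_ne_zero hx0 hy0 ha
  apply A.six hW hw hx0 (t := a / w.1) (div_ne_zero ha0 hx0)
  have e : (a / w.1) ^ 2 * w.1 = y := by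
    have h1 : w.1 ≠ 0 := hx0
    have h2 : w.1 * y = a * a := ha
    field_simp
    linear_combination -h2
  rw [e]
  exact hy

/-- there is a nonzero element in `D'` -/
theorem exists_D' : ∃ y ∈ A.D', y ≠ 0 := by
  obtain ⟨d, hd, hd0⟩ := A.D_ne
  refine ⟨d.2.2, ?_, fun h => hd0 ?_⟩
  · show ((0, 0, d.2.2) : V K) ∈ A.D
    rw [← eq_of_mem_Zs (A.D_le hd)]
    exact hd
  · rw [eq_of_mem_Zs (A.D_le hd), h]
    rfl

theorem exists_Sg {W : AddSubgroup (V K)} (hW : W ∈ A.F') : ∃ x ∈ Sg W, x ≠ 0 := by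
  obtain ⟨⟨⟨g, rfl⟩, hj⟩, hne⟩ := hW
  obtain ⟨w, hw, hwD⟩ := A.exists_notMem g hne
  exact ⟨w.1, ⟨w, hw, rfl⟩, fun h => hwD (A.inf_Z2 hne hw h)⟩

omit A in
/-- additive subgroups whose nonzero elements are in one class modulo squares -/
theorem card_sq_le {X : AddSubgroup K} {y : K} (h2 : (2 : K) ≠ 0)
    (h : ∀ x ∈ X, x ≠ 0 → ¬ IsSquare (x * y)) : Nat.card X * Nat.card X ≤ Fintype.card K := by
  classical
  have hchar : ringChar K ≠ 2 := by
    intro h3
    apply h2
    have h4 : CharP K 2 := by rw [← h3]; exact ringChar.charP K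
    exact_mod_cast (CharP.cast_eq_zero K 2)
  obtain ⟨ν, hν⟩ := FiniteField.exists_nonsquare hchar
  have hν0 : ν ≠ 0 := by
    rintro rfl
    exact hν ⟨0, by simp⟩
  rw [← Nat.card_prod, ← Nat.card_eq_fintype_card]
  refine Nat.card_le_card_of_injective (fun x : X × X => (x.1 : K) + ν * (x.2 : K)) ?_
  rintro ⟨a, b⟩ ⟨a', b'⟩ he
  have he' : (a : K) + ν * b = a' + ν * b' := he
  have h3 : ((a - a' : X) : K) = ν * ((b' - b : X) : K) := by
    push_cast
    linear_combination he'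
  by_cases hb : ((b' - b : X) : K) = 0
  · have hb' : b = b' := by
      have h5 : (b : K) = b' := by
        push_cast at hb
        linear_combination -hb
      exact Subtype.ext h5
    have ha' : a = a' := by
      rw [hb, mul_zero] at h3
      have h5 : (a : K) = a' := by
        push_cast at h3
        linear_combination h3
      exact Subtype.ext h5
    rw [ha', hb']
  · exfalso
    have ha : ((a - a' : X) : K) ≠ 0 := by rw [h3]; exact mul_ne_zero hν0 hb
    have c1 := h _ (a - a').2 ha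
    have c2 := h _ (b' - b).2 hb
    have d1 := quadraticChar_neg_one_iff_not_isSquare.2 c1
    have d2 := quadraticChar_neg_one_iff_not_isSquare.2 c2
    have d3 := quadraticChar_neg_one_iff_not_isSquare.2 hν
    rw [h3, map_mul, map_mul] at d1
    rw [map_mul] at d2
    rw [mul_assoc, d2, d3] at d1
    norm_num at d1

/-- **Step 7** -/
theorem card_eq {W : AddSubgroup (V K)} (hW : W ∈ A.F') :
    Nat.card (Sg W) = Nat.card A.D' ∧ Nat.card A.D' * Nat.card A.D' = Fintype.card K := by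
  obtain ⟨y, hy, hy0⟩ := A.exists_D'
  obtain ⟨x, hx, hx0⟩ := A.exists_Sg hW
  have h1 := card_sq_le (X := Sg W) A.two (fun x' hx' hx0' => A.not_isSquare hW hx' hx0' hy hy0)
  have h2 := card_sq_le (X := A.D') A.two (fun y' hy' hy0' => by
    rw [mul_comm]; exact A.not_isSquare hW hx hx0 hy' hy0')
  have h3 := A.card_Sg hW
  have h4 : 0 < Nat.card A.D' := Nat.card_pos
  have h5 : 0 < Nat.card (Sg W) := Nat.card_pos
  rw [← h3] at h1 h2
  have h6 : Nat.card (Sg W) ≤ Nat.card A.D' := Nat.le_of_mul_le_mul_right h1 h5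
  have h7 : Nat.card A.D' ≤ Nat.card (Sg W) := Nat.le_of_mul_le_mul_left h2 h4
  have h8 := le_antisymm h6 h7
  exact ⟨h8, by rw [← h3, h8]⟩

end Dat

end Cfsg.Agent.H812.Sym
end

-- part: H812/SymFin
section
/-!
# The contradiction (helper812; S5260-B, steps 8-9)
-/

set_option autoImplicit false
set_option linter.unusedSectionVars false
set_option linter.unusedVariables false

open scoped Pointwise

namespace Cfsg.Agent.H812.Sym

open Cfsg.Agent.H780

/-! ### Orbits -/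

/-- if all the orbits have size divisible by `m` (after multiplication by `k`), so has the set -/
theorem dvd_card_of_orbits {H X : Type*} [Group H] [MulAction H X] [Finite X] {m k : ℕ}
    (h : ∀ x : X, m ∣ k * Nat.card (MulAction.orbit H x)) : m ∣ k * Nat.card X := by
  classical
  have hfin : Finite (Quotient (MulAction.orbitRel H X)) := Quotient.finite _
  have := Fintype.ofFinite (Quotient (MulAction.orbitRel H X))
  rw [Nat.card_congr (MulAction.selfEquivSigmaOrbits' H X)]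
  rw [Nat.card_sigma, Finset.mul_sum]
  refine Finset.dvd_sum fun ω _ => ?_
  induction ω using Quotient.inductionOn with
  | h x => exact h x

/-- elements of order `l` in a group acting faithfully on `V` -/
theorem no_order {K : Type*} [Field K] [Fintype K] {G : Type*} [Group G] [Finite G] [DistribMulAction G (V K)]
    (faith : ∀ g : G, (∀ v : V K, g • v = v) → g = 1) {l P N : ℕ} (hl : l.Prime) (hP : P.Prime)
    (hd : l ∣ Nat.card G) (hc : Nat.card (V K) = P ^ N) (h : ∀ a < N, ¬ P ^ N ≡ P ^ a [MOD l]) : False := by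
  have : Fact l.Prime := ⟨hl⟩
  obtain ⟨g, hg⟩ := exists_prime_orderOf_dvd_card' l hd
  have hp : IsPGroup l (Subgroup.zpowers g) := IsPGroup.of_card (n := 1) (by rw [Nat.card_zpowers, hg, pow_one])
  have h1 := hp.card_modEq_card_fixedPoints (V K)
  let Fx : AddSubgroup (V K) :=
    { carrier := {v | g • v = v}
      zero_mem' := smul_zero g
      add_mem' := fun {a b} ha hb => by
        show g • (a + b) = a + b
        rw [smul_add, show g • a = a from ha, show g • b = b from hb]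
      neg_mem' := fun {a} ha => by
        show g • (-a) = -a
        rw [smul_neg, show g • a = a from ha] }
  have h2 : Nat.card (MulAction.fixedPoints (Subgroup.zpowers g) (V K)) = Nat.card Fx := by
    refine Nat.card_congr (Equiv.subtypeEquivRight fun v => ?_)
    rw [MulAction.mem_fixedPoints]
    constructor
    · intro h
      exact h ⟨g, Subgroup.mem_zpowers g⟩
    · rintro hv ⟨x, hx⟩
      show x • v = v
      obtain ⟨k, rfl⟩ := Subgroup.mem_zpowers_iff.1 hx
      have h4 : g ∈ MulAction.stabilizer G v := hv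
      exact (MulAction.stabilizer G v).zpow_mem h4 k
  have h3 : Nat.card Fx ∣ P ^ N := by rw [← hc]; exact AddSubgroup.card_addSubgroup_dvd_card Fx
  obtain ⟨a, ha, hFa⟩ := (Nat.dvd_prime_pow hP).1 h3
  rw [h2, hFa, hc] at h1
  rcases Nat.lt_or_ge a N with ha' | ha'
  · exact h a ha' h1
  · have haN : a = N := le_antisymm ha ha'
    have h5 : Fx = ⊤ := by
      apply AddSubgroup.eq_top_of_card_eq
      rw [hFa, hc, haN]
    have h6 : g = 1 := faith g fun v => by
      have : v ∈ Fx := by rw [h5]; exact AddSubgroup.mem_top v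
      exact this
    rw [h6, orderOf_one] at hg
    exact hl.one_lt.ne hg

namespace Dat

variable {p : ℕ} [Fact p.Prime] {K : Type*} [Field K] [Fintype K] [CharP K p] {G : Type*} [Group G] [Finite G]
  [DistribMulAction G (V K)] (A : Dat p K G)

include A

theorem c_ne : A.c ≠ 0 := by
  intro h
  have h1 := A.hc
  have h2 : 1 < Fintype.card K := Fintype.one_lt_card
  have h3 : A.c ^ (orderOf A.c) = 1 := pow_orderOf_eq_one _
  rw [h1, h, zero_pow (by omega)] at h3
  exact zero_ne_one h3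

theorem c_pow_of_ζ_pow {m : ℕ} (h : A.ζ ^ m = 1) : A.c ^ m = 1 := by
  have h1 := (A.hζ.pow m).u (0, 1, 0) rfl
  rw [h, one_smul] at h1
  simpa using h1.2.symm

theorem ζ_pow_of_c_pow {m : ℕ} (h : A.c ^ m = 1) : A.ζ ^ m = 1 := by
  have h1 := orderOf_dvd_of_pow_eq_one h
  rw [A.hc] at h1
  obtain ⟨k, rfl⟩ := h1
  rw [pow_mul, A.ζ_pow, one_pow]

theorem orderOf_ζ : orderOf A.ζ = Fintype.card K - 1 := by
  apply Nat.dvd_antisymm
  · exact orderOf_dvd_of_pow_eq_one A.ζ_pow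
  · rw [← A.hc]
    exact orderOf_dvd_of_pow_eq_one (A.c_pow_of_ζ_pow (pow_orderOf_eq_one _))

/-- multiplication on `Sg W` -/
theorem scal {W : AddSubgroup (V K)} {m : ℕ} (h : A.ζ ^ m • W = W) :
    ((A.c ^ m) ^ 2) ^ (Nat.card (Sg W) - 1) = 1 := by
  classical
  have hl : (A.c ^ m) ^ 2 ≠ 0 := pow_ne_zero 2 (pow_ne_zero m A.c_ne)
  have hmap : ∀ x ∈ Sg W, (A.c ^ m) ^ 2 * x ∈ Sg W := by
    rintro _ ⟨w, hw, rfl⟩
    refine ⟨A.ζ ^ m • w, ?_, (A.hζ.pow m).s w⟩
    rw [← h]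
    exact AddSubgroup.smul_mem_pointwise_smul _ _ _ hw
  set lam := (A.c ^ m) ^ 2 with hlam
  let s : Finset K := Finset.univ.filter fun x => x ∈ Sg W ∧ x ≠ 0
  have hs : s.card = Nat.card (Sg W) - 1 := by
    have h1 : insert 0 s = Finset.univ.filter fun x => x ∈ Sg W := by
      ext x
      simp only [s, Finset.mem_insert, Finset.mem_filter, Finset.mem_univ, true_and]
      constructor
      · rintro (rfl | h)
        · exact (Sg W).zero_mem
        · exact h.1
      · intro h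
        by_cases hx : x = 0
        · exact Or.inl hx
        · exact Or.inr ⟨h, hx⟩
    have h2 : (insert 0 s).card = s.card + 1 := Finset.card_insert_of_notMem (by simp [s])
    have h3 : (insert 0 s).card = Nat.card (Sg W) := by
      rw [h1, Nat.card_eq_fintype_card, Fintype.card_subtype]
    omega
  have hprod : ∏ x ∈ s, (lam * x) = ∏ x ∈ s, x := by
    refine Finset.prod_bij (fun x _ => lam * x) ?_ ?_ ?_ (fun _ _ => rfl)
    · intro x hx
      simp only [s, Finset.mem_filter, Finset.mem_univ, true_and] at hx ⊢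
      exact ⟨hmap x hx.1, mul_ne_zero hl hx.2⟩
    · intro x _ y _ h
      exact mul_left_cancel₀ hl h
    · have hinj : Set.InjOn (fun x => lam * x) (s : Set K) := fun x _ y _ h => mul_left_cancel₀ hl h
      have himg : s.image (fun x => lam * x) = s := by
        apply Finset.eq_of_subset_of_card_le
        · intro y hy
          obtain ⟨x, hx, rfl⟩ := Finset.mem_image.1 hy
          simp only [s, Finset.mem_filter, Finset.mem_univ, true_and] at hx ⊢
          exact ⟨hmap x hx.1, mul_ne_zero hl hx.2⟩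
        · rw [Finset.card_image_of_injOn hinj]
      intro y hy
      rw [← himg] at hy
      obtain ⟨x, hx, rfl⟩ := Finset.mem_image.1 hy
      exact ⟨x, hx, rfl⟩
  rw [Finset.prod_mul_distrib, Finset.prod_const, hs] at hprod
  have hne : ∏ x ∈ s, x ≠ 0 := Finset.prod_ne_zero_iff.2 fun x hx => by
    simp only [s, Finset.mem_filter] at hx
    exact hx.2.2
  exact mul_right_cancel₀ hne (by rw [hprod, one_mul])

theorem ζ_stab (m : ℕ) {W : AddSubgroup (V K)} (hW : W ∈ A.F') : A.ζ ^ m • W ∈ A.F' := by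
  obtain ⟨⟨hO, hj⟩, hne⟩ := hW
  refine ⟨⟨A.smul_mem_Om _ hO, ?_⟩, ?_⟩
  · rw [← mul_smul, j, ← pow_add, add_comm, pow_add, mul_smul]
    congr 1
  · intro h
    apply hne
    rw [← (A.hζ.pow m).stab] at h
    exact smul_left_cancel _ h

theorem exists_pow {x : G} (hx : x ∈ Subgroup.zpowers A.ζ) : ∃ m : ℕ, A.ζ ^ m = x :=
  (isOfFinOrder_of_finite A.ζ).mem_powers_iff_mem_zpowers.2 hx

theorem zstab {x : G} (hx : x ∈ Subgroup.zpowers A.ζ) {W : AddSubgroup (V K)} (hW : W ∈ A.F') : x • W ∈ A.F' := by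
  obtain ⟨m, rfl⟩ := A.exists_pow hx
  exact A.ζ_stab m hW

/-- the action of `⟨ζ⟩` on `F'` -/
@[reducible] def actF' (A : Dat p K G) : MulAction (Subgroup.zpowers A.ζ) A.F' where
  smul x W := ⟨(x : G) • (W : AddSubgroup (V K)), A.zstab x.2 W.2⟩
  one_smul W := Subtype.ext (one_smul _ _)
  mul_smul x y W := Subtype.ext (mul_smul _ _ _)

/-- **Step 8** -/
theorem eight : (Nat.card A.D' + 1) ∣ 2 * Nat.card A.F' := by
  let _ := A.actF'
  refine dvd_card_of_orbits (H := Subgroup.zpowers A.ζ) (X := A.F') fun W => ?_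
  obtain ⟨hr1, hr2⟩ := A.card_eq W.2
  set r := Nat.card A.D' with hr
  have hr0 : 0 < r := Nat.card_pos
  -- the stabiliser
  have hexp : ∀ x : Subgroup.zpowers A.ζ, x ∈ MulAction.stabilizer (Subgroup.zpowers A.ζ) W →
      x ^ (2 * (r - 1)) = 1 := by
    intro x hx
    obtain ⟨m, hm⟩ := A.exists_pow x.2
    have h1 : A.ζ ^ m • (W : AddSubgroup (V K)) = W := by
      rw [hm]
      exact congrArg Subtype.val (MulAction.mem_stabilizer_iff.1 hx)
    have h2 := A.scal h1
    rw [hr1, ← pow_mul, ← pow_mul] at h2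
    have h3 := A.ζ_pow_of_c_pow h2
    apply Subtype.ext
    show (x : G) ^ (2 * (r - 1)) = 1
    rw [← hm, ← pow_mul, ← h3]
  have hcard : Nat.card (MulAction.stabilizer (Subgroup.zpowers A.ζ) W) ∣ 2 * (r - 1) := by
    rw [← IsCyclic.exponent_eq_card]
    exact Monoid.exponent_dvd_of_forall_pow_eq_one fun x => Subtype.ext (hexp x x.2)
  have horb : Nat.card (MulAction.orbit (Subgroup.zpowers A.ζ) W) *
      Nat.card (MulAction.stabilizer (Subgroup.zpowers A.ζ) W) = (r - 1) * (r + 1) := by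
    have h1 := MulAction.index_stabilizer (Subgroup.zpowers A.ζ) W
    have h2 : (MulAction.stabilizer (Subgroup.zpowers A.ζ) W).index =
      Nat.card (MulAction.orbit (Subgroup.zpowers A.ζ) W) := h1
    rw [← h2, mul_comm, Subgroup.card_mul_index, Nat.card_zpowers, A.orderOf_ζ, ← hr2]
    obtain ⟨k, hk⟩ : ∃ k, r = k + 1 := ⟨r - 1, by omega⟩
    rw [hk]
    have : (k + 1) * (k + 1) - 1 = k * (k + 2) := by
      have : (k + 1) * (k + 1) = k * (k + 2) + 1 := by ring
      omega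
    rw [this]
    simp
  obtain ⟨k, hk⟩ := hcard
  refine ⟨k, ?_⟩
  have hpos : 0 < Nat.card (MulAction.stabilizer (Subgroup.zpowers A.ζ) W) := Nat.card_pos
  apply Nat.eq_of_mul_eq_mul_right hpos
  calc 2 * Nat.card (MulAction.orbit (Subgroup.zpowers A.ζ) W) *
        Nat.card (MulAction.stabilizer (Subgroup.zpowers A.ζ) W)
      = 2 * ((r - 1) * (r + 1)) := by rw [mul_assoc, horb]
    _ = (2 * (r - 1)) * (r + 1) := by ring
    _ = (Nat.card (MulAction.stabilizer (Subgroup.zpowers A.ζ) W) * k) * (r + 1) := by rw [hk]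
    _ = _ := by ring

omit A in
/-- **Step 9**, arithmetic -/
theorem arith {r n : ℕ} (hr : Odd r) (hr1 : 1 < r) (hn : 0 < n) (h1 : (n + 1) ∣ r * r - 1) (h2 : (r + 1) ∣ 2 * n) :
    (r = 9 ∧ n = 15) ∨ (r = 5 ∧ n = 3) ∨ (r = 13 ∧ n = 7) := by
  obtain ⟨e', rfl⟩ := hr
  -- `e = e' + 1`
  obtain ⟨m, hm⟩ := h2
  have hn' : n = m * (e' + 1) := by
    have : 2 * n = 2 * (m * (e' + 1)) := by rw [hm]; ring
    omega
  have he0 : 0 < e' := by omega
  have hm0 : 0 < m := by
    rcases Nat.eq_zero_or_pos m with h | h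
    · rw [h, zero_mul] at hn'; omega
    · exact h
  have h3 : (2 * e' + 1) * (2 * e' + 1) - 1 = 4 * e' * (e' + 1) := by
    have : (2 * e' + 1) * (2 * e' + 1) = 4 * e' * (e' + 1) + 1 := by ring
    omega
  rw [h3, hn'] at h1
  have hcop : Nat.Coprime (m * (e' + 1) + 1) (e' + 1) := by
    simp [Nat.Coprime]
  have h4 : (m * (e' + 1) + 1) ∣ 4 * e' := hcop.dvd_of_dvd_mul_right h1
  obtain ⟨l, hl⟩ := h4
  -- `4 e' = (m (e'+1) + 1) l`
  have hl0 : 0 < l := by
    rcases Nat.eq_zero_or_pos l with h | h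
    · rw [h, mul_zero] at hl; omega
    · exact h
  have hlm : l * m < 4 := by
    by_contra hcon
    push Not at hcon
    have h5 : 4 * (e' + 1) ≤ (l * m) * (e' + 1) := Nat.mul_le_mul_right _ hcon
    have h6 : (m * (e' + 1) + 1) * l = (l * m) * (e' + 1) + l := by ring
    omega
  have hl4 : l < 4 := lt_of_le_of_lt (Nat.le_mul_of_pos_right l hm0) hlm
  have hm4 : m < 4 := lt_of_le_of_lt (Nat.le_mul_of_pos_left m hl0) hlm
  rw [hn']
  interval_cases l <;> interval_cases m <;> omega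

theorem odd_r : Odd (Nat.card A.D') := by
  obtain ⟨W, hW⟩ : ∃ W, W ∈ A.F' := by
    have h := A.F'_pos
    obtain ⟨⟨W, hW⟩⟩ := (Nat.card_pos_iff.1 h).1
    exact ⟨W, hW⟩
  have h1 := (A.card_eq hW).2
  have h2 := A.even_card
  have h3 : 1 < Fintype.card K := Fintype.one_lt_card
  rw [← Nat.not_even_iff_odd]
  rintro ⟨k, hk⟩
  rw [← h1, hk] at h2 h3
  have h4 : (k + k) * (k + k) = 4 * (k * k) := by ring
  rw [h4] at h2 h3
  omega

theorem false : False := by
  obtain ⟨W, hW⟩ : ∃ W, W ∈ A.F' := by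
    have h := A.F'_pos
    obtain ⟨⟨W, hW⟩⟩ := (Nat.card_pos_iff.1 h).1
    exact ⟨W, hW⟩
  have hq := (A.card_eq hW).2
  have h1 := A.F_dvd'
  have hr1 : 1 < Nat.card A.D' := by
    by_contra hcon
    have h3 : 1 < Fintype.card K := Fintype.one_lt_card
    have h4 : Nat.card A.D' ≤ 1 := by omega
    have h5 := Nat.mul_le_mul h4 h4
    omega
  have h2 := arith A.odd_r hr1 A.F'_pos (by rw [hq]; exact h1) A.eight
  have hOm : Nat.card A.Om ∣ Nat.card G := ⟨_, A.card_Om.symm⟩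
  rw [A.card_Om', ← hq] at hOm
  have hV : Nat.card (V K) = Fintype.card K ^ 3 := by
    rw [Nat.card_prod, Nat.card_prod, Nat.card_eq_fintype_card]
    ring
  rw [← hq] at hV
  rcases h2 with ⟨hr, hn⟩ | ⟨hr, hn⟩ | ⟨hr, hn⟩
  · rw [hr, hn] at hOm
    rw [hr] at hV
    refine no_order A.faith (l := 19) (P := 3) (N := 12) (by norm_num) (by norm_num)
      ((by norm_num : 19 ∣ 9 * 9 * 15 + 1).trans hOm) (by rw [hV]; norm_num) ?_
    intro a ha
    interval_cases a <;> decide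
  · rw [hr, hn] at hOm
    rw [hr] at hV
    refine no_order A.faith (l := 19) (P := 5) (N := 6) (by norm_num) (by norm_num)
      ((by norm_num : 19 ∣ 5 * 5 * 3 + 1).trans hOm) (by rw [hV]; norm_num) ?_
    intro a ha
    interval_cases a <;> decide
  · rw [hr, hn] at hOm
    rw [hr] at hV
    refine no_order A.faith (l := 37) (P := 13) (N := 6) (by norm_num) (by norm_num)
      ((by norm_num : 37 ∣ 13 * 13 * 7 + 1).trans hOm) (by rw [hV]; norm_num) ?_
    intro a ha
    interval_cases a <;> decide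

end Dat

end Cfsg.Agent.H812.Sym
end

-- part: H812/SymLemma
section
/-!
# `sym_lemma` (S5260-B; helper812)
-/

set_option autoImplicit false
set_option linter.unusedSectionVars false

open scoped Pointwise

namespace Cfsg.Agent.H812.Sym

open Cfsg.Agent.H780

variable {p : ℕ} [Fact p.Prime] {K : Type*} [Field K] [Fintype K] [CharP K p] {G : Type*} [Group G] [Finite G]
  [DistribMulAction G (V K)]

theorem Base.T_pow {p : ℕ} {K : Type*} [Field K] {G : Type*} [Group G] [DistribMulAction G (V K)] (B : Base p K G)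
    (t : K) (n : ℕ) : B.T t ^ n = B.T (n * t) := by
  induction n with
  | zero => rw [pow_zero, Nat.cast_zero, zero_mul, B.T_zero]
  | succ n ih => rw [pow_succ, ih, ← B.T_add]; congr 1; push_cast; ring

/-- **The module version.** -/
theorem main (B : Base p K G) (h2 : (2 : K) ≠ 0)
    (hH : ∀ c : K, c ≠ 0 → ∃ h : G, Act c h) {d₀ : V K} (hd₀ : d₀ ∈ Zs K) (hd0 : d₀ ≠ 0)
    (hfix : ∀ g : G, g • d₀ = d₀) (g : G) : g • Zs K = Zs K := by
  classical
  by_contra hcon
  -- the maximal intersection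
  have hne : Nonempty {g : G // g • Zs K ≠ Zs K} := ⟨⟨g, hcon⟩⟩
  obtain ⟨⟨g₀, hg₀⟩, hmax⟩ := Finite.exists_max
    (fun g : {g : G // g • Zs K ≠ Zs K} => Nat.card (Zs K ⊓ (g : G) • Zs K : AddSubgroup (V K)))
  simp only [Subtype.forall] at hmax
  set D : AddSubgroup (V K) := Zs K ⊓ g₀ • Zs K with hD
  have hdD : d₀ ∈ D := by
    refine ⟨hd₀, ?_⟩
    show d₀ ∈ g₀ • Zs K
    rw [AddSubgroup.mem_pointwise_smul_iff_inv_smul_mem, hfix]
    exact hd₀
  -- the centraliser of `D`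
  let G₁ : Subgroup G :=
    { carrier := {x | ∀ d ∈ D, x • d = d}
      one_mem' := fun d _ => one_smul _ _
      mul_mem' := fun {a b} ha hb d hd => by rw [mul_smul, hb d hd, ha d hd]
      inv_mem' := fun {a} ha d hd => by rw [inv_smul_eq_iff, ha d hd] }
  have hG₁ : ∀ x : G, (∀ v ∈ Zs K, x • v = v) → x ∈ G₁ := fun x hx d hd => hx d hd.1
  have hT : ∀ t, B.T t ∈ G₁ := fun t => hG₁ _ fun v hv => B.T_Z t hv
  have hP : (B.P : Subgroup G) ≤ G₁ := by
    intro x hx
    obtain ⟨t, rfl⟩ := (B.memP x).1 hx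
    exact hT t
  have hsm : ∀ (x : G₁) (v : V K), x • v = (x : G) • v := fun _ _ => rfl
  have hsmZ : ∀ (x : G₁), x • Zs K = (x : G) • Zs K := fun _ => rfl
  -- the generator
  obtain ⟨u, hu⟩ := IsCyclic.exists_generator (α := Kˣ)
  have hcu : orderOf (u : K) = Fintype.card K - 1 := by
    rw [orderOf_units, orderOf_eq_card_of_forall_mem_zpowers hu, Nat.card_eq_fintype_card, Fintype.card_units]
  obtain ⟨h, hh⟩ := hH (u : K) u.ne_zero
  obtain ⟨t, ht⟩ : ∃ t, h ^ (Fintype.card K - 1) = B.T t := by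
    apply B.of_act_one
    have h3 := hh.pow (Fintype.card K - 1)
    rwa [← hcu, pow_orderOf_eq_one, hcu] at h3
  have hact : Act (u : K) (h ^ Fintype.card K) := by
    have h3 := hh.pow (Fintype.card K)
    rwa [FiniteField.pow_card] at h3
  have hz : (h ^ Fintype.card K) ^ (Fintype.card K - 1) = 1 := by
    rw [← pow_mul, mul_comm, pow_mul, ht, B.T_pow, Nat.cast_card_eq_zero, zero_mul, B.T_zero]
  have hζ : h ^ Fintype.card K ∈ G₁ := hG₁ _ hact.z
  let A : Dat p K G₁ :=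
    { T := fun t => ⟨B.T t, hT t⟩
      hT := fun t v => B.hT t v
      faith := fun x hx => Subtype.ext (B.faith x hx)
      P := B.P.subtype hP
      memP := fun x => by
        have e : x ∈ B.P.subtype hP ↔ (x : G) ∈ B.P := by
          show x ∈ ((B.P.subtype hP : Sylow p G₁) : Subgroup G₁) ↔ _
          rw [Sylow.coe_subtype]
          exact Subgroup.mem_subgroupOf
        rw [e, B.memP]
        constructor
        · rintro ⟨t, ht⟩
          exact ⟨t, Subtype.ext ht⟩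
        · rintro ⟨t, ht⟩
          exact ⟨t, congrArg Subtype.val ht⟩
      norm := fun x hx t => by
        obtain ⟨t', ht'⟩ := B.norm x hx t
        exact ⟨t', Subtype.ext ht'⟩
      two := h2
      D := D
      D_le := inf_le_left
      D_fix := fun x d hd => x.2 d hd
      D_ne := ⟨d₀, hdD, hd0⟩
      max := fun x hx => by
        symm
        have hle : D ≤ Zs K ⊓ (x : G) • Zs K := by
          intro d hd
          refine ⟨hd.1, ?_⟩
          show d ∈ (x : G) • Zs K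
          rw [AddSubgroup.mem_pointwise_smul_iff_inv_smul_mem]
          have h3 := (x⁻¹).2 d hd
          have h4 : (x : G)⁻¹ • d = d := h3
          rw [h4]
          exact hd.1
        exact AddSubgroup.eq_of_le_of_card_ge hle (hmax x hx)
      move := by
        refine ⟨⟨g₀ * B.T 1 * g₀⁻¹, ?_⟩, ?_⟩
        · intro d hd
          have h3 : g₀⁻¹ • d ∈ Zs K := AddSubgroup.mem_pointwise_smul_iff_inv_smul_mem.1 hd.2
          rw [mul_smul, mul_smul, B.T_Z 1 h3, smul_inv_smul]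
        · intro h3
          have h4 : (g₀ * B.T 1 * g₀⁻¹) • Zs K = Zs K := h3
          rw [mul_smul, mul_smul, ← eq_inv_smul_iff] at h4
          have h5 := B.semireg h2 one_ne_zero h4
          apply hg₀
          rw [inv_smul_eq_iff] at h5
          exact h5.symm
      c := u
      hc := hcu
      ζ := ⟨h ^ Fintype.card K, hζ⟩
      hζ := ⟨hact.z, hact.u, hact.s⟩
      ζ_pow := Subtype.ext hz }
  exact A.false

omit [DistribMulAction G (V K)] in
/-- **`sym_lemma`** -/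
theorem sym_lemma (hp : p ≠ 2) (ρ : G →* Equiv.Perm (K × K × K)) (hρ : Function.Injective ρ)
    (hadd : ∀ g v w, ρ g (v + w) = ρ g v + ρ g w) (P : Sylow p G)
    (hP1 : ∀ g ∈ P, ∃ t : K, ρ g = phi t) (hP2 : ∀ t : K, ∃ g ∈ P, ρ g = phi t)
    (hN : ∀ g, (∀ z, ∃ z', ρ g (0, 0, z) = (0, 0, z')) → ∀ x ∈ P, g * x * g⁻¹ ∈ P)
    (hH : ∀ c : K, c ≠ 0 → ∃ h : G, (∀ z, ρ h (0, 0, z) = (0, 0, z)) ∧ (∀ u, ∃ z', ρ h (0, u, 0) = (0, c * u, z')) ∧
      (∀ s, ∃ u' z', ρ h (s, 0, 0) = (c ^ 2 * s, u', z')))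
    (z₀ : K) (hz₀ : z₀ ≠ 0) (hfix : ∀ g, ρ g (0, 0, z₀) = (0, 0, z₀)) :
    ∀ g z, ∃ z', ρ g (0, 0, z) = (0, 0, z') := by
  have h2 : (2 : K) ≠ 0 := by
    intro h
    have h1 : ((2 : ℕ) : K) = 0 := by exact_mod_cast h
    have h3 := (CharP.cast_eq_zero_iff K p 2).1 h1
    exact hp ((Nat.prime_dvd_prime_iff_eq (Fact.out : p.Prime) Nat.prime_two).1 h3)
  let _ : DistribMulAction G (V K) :=
    { smul := fun g v => ρ g v
      one_smul := fun v => by show ρ 1 v = v; rw [map_one]; rfl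
      mul_smul := fun g h v => by show ρ (g * h) v = ρ g (ρ h v); rw [map_mul]; rfl
      smul_zero := fun g => by
        show ρ g 0 = 0
        have h := hadd g 0 0
        rw [add_zero] at h
        exact left_eq_add.1 h
      smul_add := hadd }
  have hsm : ∀ (g : G) (v : V K), g • v = ρ g v := fun _ _ => rfl
  choose T hTP hT using hP2
  have hfaith : ∀ g : G, (∀ v : V K, g • v = v) → g = 1 := by
    intro g hg
    apply hρ
    rw [map_one]
    exact Equiv.ext hg
  let B : Base p K G :=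
    { T := T
      hT := fun t v => by rw [hsm, hT]
      faith := hfaith
      P := P
      memP := fun g => by
        constructor
        · intro hg
          obtain ⟨t, ht⟩ := hP1 g hg
          exact ⟨t, hρ (by rw [ht, hT])⟩
        · rintro ⟨t, rfl⟩
          exact hTP t
      norm := fun g hg t => by
        have h1 := hN g (fun z => by
          have h3 : g • ((0, 0, z) : V K) ∈ g • Zs K := AddSubgroup.smul_mem_pointwise_smul _ _ _ (mem_Zs' z)
          rw [hg] at h3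
          exact ⟨_, eq_of_mem_Zs h3⟩) (T t) (hTP t)
        obtain ⟨t', ht'⟩ := hP1 _ h1
        exact ⟨t', hρ (by rw [ht', hT])⟩ }
  intro g z
  have h1 := main B h2 (fun c hc => by
    obtain ⟨h, h3, h4, h5⟩ := hH c hc
    exact ⟨h, Act.of_maps h3 h4 h5⟩) (mem_Zs' z₀) (fun h => hz₀ (congrArg (fun v : V K => v.2.2) h)) hfix g
  have h3 : g • ((0, 0, z) : V K) ∈ g • Zs K := AddSubgroup.smul_mem_pointwise_smul _ _ _ (mem_Zs' z)
  rw [h1] at h3
  exact ⟨_, eq_of_mem_Zs h3⟩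

end Cfsg.Agent.H812.Sym
end

-- part: H780/SpProps
section
/-!
# Instances of the two lemmas (helper780)
-/

set_option autoImplicit false

universe u v

namespace Cfsg.Agent.H780

theorem sl2Prop {K : Type v} [Field K] [Finite K] {p : ℕ} [Fact p.Prime] [CharP K p] :
    SL2Prop.{u} K p := by
  intro G _ _ ρ hadd P hP1 hP2 hnn
  exact sl2_lemma' ρ hadd P hP1 hP2 hnn

theorem symProp {K : Type v} [Field K] [Fintype K] {p : ℕ} [Fact p.Prime] (hp : p ≠ 2) [CharP K p] :
    SymProp.{u} K p := by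
  intro G _ _ ρ hρ hadd P hP1 hP2 hN hH z₀ hz₀ hfix
  exact Cfsg.Agent.H812.Sym.sym_lemma hp ρ hρ hadd P hP1 hP2 hN hH z₀ hz₀ hfix

end Cfsg.Agent.H780
end

-- part: H780/TwoDefs
section
/-!
# Data for saturated systems over a Sylow `2`-subgroup of `Sp₄(K)`, `|K| ∈ {2,4}` (helper780)
-/

set_option autoImplicit false

universe u v w

namespace Cfsg.Agent.H780

open Cfsg Cfsg.FusionSystem

variable {Ω : Type u} [Group Ω] {S : Subgroup Ω} {K : Type v} [Field K]

/-- The data which determine a saturated system `F` over `S` (with `Z₁ = {t=s=u=0}` invariant), `M = {t=0}`,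
`L₀ = C.L 0 = {s=0}`, `Z₂ = {t=s=0}`. -/
structure TwoData (F : FusionSystem S) (C : SpC S K) (Δ : Subgroup Kˣ) : Prop where
  autS : ∀ α ∈ F.autGroup S, ∃ a b : Kˣ, a ^ 2 * b ∈ Δ ∧ ∃ r₁ r₂ : K,
    (∀ x : S, C.t (α x : S) = a * C.t x ∧ C.s (α x : S) = b * C.s x ∧
      C.u (α x : S) = a * b * C.u x + r₁ * C.t x + r₂ * C.s x) ∧
    ∀ x : S, (x : Ω) ∈ C.Z1 → ((α x : S) : Ω) ∈ C.Z1 ∧ C.z (α x : S) = a ^ 2 * b * C.z x
  exS : ∀ a b : Kˣ, a ^ 2 * b ∈ Δ → ∃ α ∈ F.autGroup S,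
    (∀ x : S, C.t (α x : S) = a * C.t x ∧ C.s (α x : S) = b * C.s x ∧
      C.u (α x : S) = a * b * C.u x) ∧
    ∀ x : S, (x : Ω) ∈ C.Z1 → ((α x : S) : Ω) ∈ C.Z1 ∧ C.z (α x : S) = a ^ 2 * b * C.z x
  Z1M : ∀ α ∈ F.autGroup C.M, ∀ x : C.M, (x : Ω) ∈ C.Z1 → ((α x : C.M) : Ω) ∈ C.Z1
  Z1L : ∀ α ∈ F.autGroup (C.L 0), ∀ x : C.L 0, (x : Ω) ∈ C.Z1 → ((α x : C.L 0) : Ω) ∈ C.Z1
  nM : ∃ n ∈ F.autGroup C.M, (∀ x : C.M, (x : Ω) ∈ C.Z1 → n x = x) ∧
    ∀ x : C.M, C.s (n x : C.M) = C.u x ∧ C.u (n x : C.M) = C.s x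
  nL : ∃ n ∈ F.autGroup (C.L 0), (∀ x : C.L 0, (x : Ω) ∈ C.Z1 → n x = x) ∧
    ∀ x : C.L 0, C.t (n x : C.L 0) = C.u x ∧ C.u (n x : C.L 0) = C.t x
  spreadM : ∀ α ∈ F.autGroup C.M, (∀ x : C.M, (x : Ω) ∈ C.Z2 → ((α x : C.M) : Ω) ∈ C.Z2) ∨
    ∃ r : K, ∀ x : C.M, (x : Ω) ∈ C.Z2 → C.u (α x : C.M) = r * C.s (α x : C.M)
  spreadL : ∀ α ∈ F.autGroup (C.L 0), (∀ x : C.L 0, (x : Ω) ∈ C.Z2 → ((α x : C.L 0) : Ω) ∈ C.Z2) ∨
    ∃ r : K, ∀ x : C.L 0, (x : Ω) ∈ C.Z2 → C.u (α x : C.L 0) = r * C.t (α x : C.L 0)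
  extM : ∀ α ∈ F.autGroup C.M, (∀ x : C.M, (x : Ω) ∈ C.Z2 → ((α x : C.M) : Ω) ∈ C.Z2) →
    ∃ β ∈ F.autGroup S, ∀ (x : Ω) (hx : x ∈ C.M) (hx' : x ∈ S), ((β ⟨x, hx'⟩ : S) : Ω) = (α ⟨x, hx⟩ : C.M)
  extL : ∀ α ∈ F.autGroup (C.L 0), (∀ x : C.L 0, (x : Ω) ∈ C.Z2 → ((α x : C.L 0) : Ω) ∈ C.Z2) →
    ∃ β ∈ F.autGroup S, ∀ (x : Ω) (hx : x ∈ C.L 0) (hx' : x ∈ S),
      ((β ⟨x, hx'⟩ : S) : Ω) = (α ⟨x, hx⟩ : C.L 0)

open Cfsg.Agent.H454.AlperinGL3 in
/-- An extension `E` of `GD Δ` by `Z₁` containing `S` over the unitriangular group, `e ∈ E` acting on `Z₁` as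
`det⁻¹`. -/
structure ExtData (C : SpC S K) (Δ : Subgroup Kˣ) {E : Type w} [Group E] (ι : S →* E)
    (ρ : E →* GD Δ) : Prop where
  inj : Function.Injective ι
  comp : ∀ x : S, ρ (ι x) = xx Δ (C.t x) (C.s x) (C.u x)
  surj : Function.Surjective ρ
  ker : ∀ e, ρ e = 1 → ∃ x : S, (x : Ω) ∈ C.Z1 ∧ e = ι x
  conj : ∀ (e : E) (x y : S), (x : Ω) ∈ C.Z1 → (y : Ω) ∈ C.Z1 →
    C.z y * ((Matrix.GeneralLinearGroup.det (ρ e).1 : Kˣ) : K) = C.z x → e * ι x * e⁻¹ = ι y

end Cfsg.Agent.H780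
end
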