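import Cfsg.Agent.H780.SpOddMain_mg
import Cfsg.Agent.H263.FF.Basic
import Cfsg.Agent.H780.SpTwo_mg
set_option linter.all false

-- part: H541/TwoLem
section
/-!
# Characteristic two: an invariant subgroup of `K × K × K` (task S5260-F, helper541)
-/

set_option autoImplicit false
set_option linter.unusedSectionVars false

namespace Cfsg.Agent.H541.TwoLem

open Cfsg.Agent.H780

section

variable {K : Type*} [Field K]

/-- the subgroup of the triples `(0, u, z)` -/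
def ZZ (K : Type*) [Field K] : AddSubgroup (K × K × K) where
  carrier := {v | v.1 = 0}
  zero_mem' := rfl
  add_mem' := by
    intro a b ha hb
    show a.1 + b.1 = 0
    rw [show a.1 = 0 from ha, show b.1 = 0 from hb, add_zero]
  neg_mem' := by
    intro a ha
    show -a.1 = 0
    rw [show a.1 = 0 from ha, neg_zero]

theorem mem_ZZ {v : K × K × K} : v ∈ ZZ K ↔ v.1 = 0 := Iff.rfl

theorem card_ZZ [Finite K] : Nat.card (ZZ K) = Nat.card K * Nat.card K := by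
  rw [← Nat.card_prod]
  exact Nat.card_congr
    { toFun := fun v => v.1.2
      invFun := fun w => ⟨(0, w), rfl⟩
      left_inv := fun v => by
        apply Subtype.ext
        exact Prod.ext (show (0 : K) = v.1.1 from v.2.symm) rfl
      right_inv := fun w => rfl }

variable {G : Type*} [Group G] (ρ : G →* Equiv.Perm (K × K × K))
  (hadd : ∀ g v w, ρ g (v + w) = ρ g v + ρ g w)

include hadd in
theorem map_zero' (g : G) : ρ g 0 = 0 := by
  have h := hadd g 0 0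
  rw [add_zero] at h
  exact left_eq_add.1 h

include hadd in
theorem map_neg' (g : G) (v : K × K × K) : ρ g (-v) = -ρ g v := by
  have h := hadd g (-v) v
  rw [neg_add_cancel, map_zero' ρ hadd] at h
  exact eq_neg_of_add_eq_zero_left h.symm

/-- the image `g Z` -/
def WW (g : G) : AddSubgroup (K × K × K) where
  carrier := {v | (ρ g⁻¹ v).1 = 0}
  zero_mem' := by
    show (ρ g⁻¹ 0).1 = 0
    rw [map_zero' ρ hadd]; rfl
  add_mem' := by
    intro a b ha hb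
    show (ρ g⁻¹ (a + b)).1 = 0
    rw [hadd]
    show (ρ g⁻¹ a).1 + (ρ g⁻¹ b).1 = 0
    rw [show (ρ g⁻¹ a).1 = 0 from ha, show (ρ g⁻¹ b).1 = 0 from hb, add_zero]
  neg_mem' := by
    intro a ha
    show (ρ g⁻¹ (-a)).1 = 0
    rw [map_neg' ρ hadd]
    show -(ρ g⁻¹ a).1 = 0
    rw [show (ρ g⁻¹ a).1 = 0 from ha, neg_zero]

theorem mem_WW {g : G} {v : K × K × K} : v ∈ WW ρ hadd g ↔ (ρ g⁻¹ v).1 = 0 := Iff.rfl

theorem inv_apply (g : G) (v : K × K × K) : ρ g⁻¹ (ρ g v) = v := by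
  rw [← Equiv.Perm.mul_apply, ← map_mul, inv_mul_cancel, map_one, Equiv.Perm.one_apply]

theorem apply_inv (g : G) (v : K × K × K) : ρ g (ρ g⁻¹ v) = v := by
  rw [← Equiv.Perm.mul_apply, ← map_mul, mul_inv_cancel, map_one, Equiv.Perm.one_apply]

theorem mul_apply' (g h : G) (v : K × K × K) : ρ (g * h) v = ρ g (ρ h v) := by
  rw [map_mul, Equiv.Perm.mul_apply]

theorem mem_WW_one {v : K × K × K} : v ∈ WW ρ hadd 1 ↔ v.1 = 0 := by
  rw [mem_WW, inv_one, map_one, Equiv.Perm.one_apply]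

theorem apply_mem_WW {g h : G} {v : K × K × K} : ρ h v ∈ WW ρ hadd (h * g) ↔ v ∈ WW ρ hadd g := by
  rw [mem_WW, mem_WW, mul_inv_rev, mul_apply', inv_apply]

theorem card_WW [Finite K] (g : G) : Nat.card (WW ρ hadd g) = Nat.card K * Nat.card K := by
  rw [← card_ZZ]
  refine (Nat.card_congr (Equiv.subtypeEquiv (ρ g) ?_)).symm
  intro v
  show v.1 = 0 ↔ (ρ g⁻¹ (ρ g v)).1 = 0
  rw [inv_apply]

theorem card_inf_WW [Finite K] (a g h : G) :
    Nat.card (WW ρ hadd (a * g) ⊓ WW ρ hadd (a * h) : AddSubgroup (K × K × K)) =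
      Nat.card (WW ρ hadd g ⊓ WW ρ hadd h : AddSubgroup (K × K × K)) := by
  refine (Nat.card_congr (Equiv.subtypeEquiv (ρ a) ?_)).symm
  intro v
  show v ∈ WW ρ hadd g ⊓ WW ρ hadd h ↔ ρ a v ∈ WW ρ hadd (a * g) ⊓ WW ρ hadd (a * h)
  rw [AddSubgroup.mem_inf, AddSubgroup.mem_inf, apply_mem_WW, apply_mem_WW]

theorem card_all [Finite K] : Nat.card (K × K × K) = Nat.card K * (Nat.card K * Nat.card K) := by
  rw [Nat.card_prod, Nat.card_prod]

end

section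

variable {K : Type*} [Field K] [Finite K] [CharP K 2]

/-- `R_s = {(0, x, x² / s)}` -/
def RR (s : K) : AddSubgroup (K × K × K) where
  carrier := {v | v.1 = 0 ∧ v.2.2 * s = v.2.1 ^ 2}
  zero_mem' := by
    refine ⟨rfl, ?_⟩
    show (0 : K) * s = (0 : K) ^ 2
    rw [zero_mul, zero_pow two_ne_zero]
  add_mem' := by
    rintro a b ⟨ha, ha'⟩ ⟨hb, hb'⟩
    refine ⟨by show a.1 + b.1 = 0; rw [ha, hb, add_zero], ?_⟩
    show (a.2.2 + b.2.2) * s = (a.2.1 + b.2.1) ^ 2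
    rw [CharTwo.add_sq, ← ha', ← hb', add_mul]
  neg_mem' := by
    rintro a ⟨ha, ha'⟩
    refine ⟨by show -a.1 = 0; rw [ha, neg_zero], ?_⟩
    show (-a.2.2) * s = (-a.2.1) ^ 2
    rw [CharTwo.neg_eq, CharTwo.neg_eq, ha']

theorem card_RR {s : K} (hs : s ≠ 0) : Nat.card (RR s) = Nat.card K := by
  refine Nat.card_congr
    { toFun := fun v => v.1.2.1
      invFun := fun x => ⟨(0, x, x ^ 2 / s), rfl, div_mul_cancel₀ _ hs⟩
      left_inv := fun v => ?_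
      right_inv := fun x => rfl }
  apply Subtype.ext
  obtain ⟨⟨a, x, y⟩, h1, h2⟩ := v
  have h1' : a = 0 := h1
  have h2' : y * s = x ^ 2 := h2
  show ((0 : K), x, x ^ 2 / s) = (a, x, y)
  rw [h1', ← h2', mul_div_cancel_right₀ _ hs]

theorem two_eq : (2 : K) = 0 := CharTwo.two_eq_zero

theorem phi_two (t s u z : K) : phi t (s, u, z) = (s, u + t * s, z + t ^ 2 * s) := by
  rw [phi_apply, two_eq]
  ring_nf

/-- `φ_t e = e + (0, t s, t² s)` -/
theorem phi_add_vec (t : K) (v : K × K × K) : phi t v = v + (0, t * v.1, t ^ 2 * v.1) := by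
  obtain ⟨s, u, z⟩ := v
  rw [phi_two]
  ext
  · show s = s + 0
    rw [add_zero]
  · rfl
  · rfl

theorem phi_fix (t : K) {v : K × K × K} (hv : v.1 = 0) : phi t v = v := by
  rw [phi_add_vec, hv, mul_zero, mul_zero]
  exact add_zero v

theorem fix_phi {t : K} (ht : t ≠ 0) {v : K × K × K} (h : phi t v = v) : v.1 = 0 := by
  obtain ⟨s, u, z⟩ := v
  rw [phi_two] at h
  have h1 : u + t * s = u := congrArg (fun w : K × K × K => w.2.1) h
  have h2 : t * s = 0 := by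
    have := add_left_cancel (a := u) (b := t * s) (c := 0) (by rw [h1, add_zero])
    exact this
  exact (mul_eq_zero.1 h2).resolve_left ht

end

section

variable {K : Type*} [Field K] [Finite K] [CharP K 2] {G : Type*} [Group G] [Finite G]
  (ρ : G →* Equiv.Perm (K × K × K)) (hρ : Function.Injective ρ)
  (hadd : ∀ g v w, ρ g (v + w) = ρ g v + ρ g w) (P : Sylow 2 G)
  (hP1 : ∀ g ∈ P, ∃ t : K, ρ g = phi t) (hP2 : ∀ t : K, ∃ g ∈ P, ρ g = phi t)

/-- the elements which act trivially on `Z` and on `V / Z` -/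
def CC : Subgroup G where
  carrier := {g | (∀ v : K × K × K, v.1 = 0 → ρ g v = v) ∧ ∀ v : K × K × K, (ρ g v).1 = v.1}
  one_mem' := by
    refine ⟨fun v _ => ?_, fun v => ?_⟩ <;> rw [map_one, Equiv.Perm.one_apply]
  mul_mem' := by
    rintro a b ⟨ha, ha'⟩ ⟨hb, hb'⟩
    refine ⟨fun v hv => ?_, fun v => ?_⟩
    · rw [mul_apply', hb v hv, ha v hv]
    · rw [mul_apply', ha', hb']
  inv_mem' := by
    rintro a ⟨ha, ha'⟩
    refine ⟨fun v hv => ?_, fun v => ?_⟩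
    · have h := ha v hv
      calc ρ a⁻¹ v = ρ a⁻¹ (ρ a v) := by rw [h]
        _ = v := inv_apply ρ a v
    · have h := ha' (ρ a⁻¹ v)
      rw [apply_inv] at h
      exact h.symm

include hρ hadd in
theorem sq_CC {x : G} (hx : x ∈ CC ρ) : x ^ 2 = 1 := by
  apply hρ
  rw [map_one]
  apply Equiv.ext
  intro v
  obtain ⟨h1, h2⟩ := hx
  rw [Equiv.Perm.one_apply, pow_two, mul_apply']
  have h3 : ρ x v = v + (ρ x v - v) := by abel
  have h4 : (ρ x v - v).1 = 0 := by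
    show (ρ x v).1 - v.1 = 0
    rw [h2, sub_self]
  have h5 : ρ x (ρ x v) = ρ x v + (ρ x v - v) := by
    conv_lhs => rw [h3]
    rw [hadd, h1 _ h4]
  rw [h5]
  have h6 : ρ x v + (ρ x v - v) = (ρ x v + ρ x v) - v := by abel
  rw [h6]
  obtain ⟨a, b, c⟩ := ρ x v
  obtain ⟨d, e, f⟩ := v
  have h7 : ∀ y : K, y + y = 0 := fun y => CharTwo.add_self_eq_zero y
  show (a + a - d, b + b - e, c + c - f) = (d, e, f)
  rw [h7, h7, h7, zero_sub, zero_sub, zero_sub, CharTwo.neg_eq, CharTwo.neg_eq, CharTwo.neg_eq]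

include hρ hadd hP1 in
theorem CC_eq : CC ρ = P := by
  refine P.is_maximal' ?_ ?_
  · intro x
    exact ⟨1, Subtype.ext (by rw [pow_one]; exact sq_CC ρ hρ hadd x.2)⟩
  · intro g hg
    obtain ⟨t, ht⟩ := hP1 g hg
    refine ⟨fun v hv => by rw [ht, phi_fix t hv], fun v => ?_⟩
    rw [ht, phi_add_vec]
    show v.1 + 0 = v.1
    rw [add_zero]

include hρ hadd hP1 in
/-- an element which stabilises `Z` normalises `P` -/
theorem conj_mem {g : G} (hg : ∀ v : K × K × K, v.1 = 0 → (ρ g v).1 = 0)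
    (hg' : ∀ v : K × K × K, v.1 = 0 → (ρ g⁻¹ v).1 = 0) {x : G} (hx : x ∈ P) : g⁻¹ * x * g ∈ P := by
  have hC := CC_eq ρ hρ hadd P hP1
  have hx' : x ∈ CC ρ := by rw [hC]; exact hx
  obtain ⟨h1, h2⟩ := hx'
  have h : g⁻¹ * x * g ∈ CC ρ := by
    refine ⟨fun v hv => ?_, fun v => ?_⟩
    · rw [mul_apply', mul_apply', h1 _ (hg v hv), inv_apply]
    · rw [mul_apply', mul_apply']
      have h3 : ρ x (ρ g v) = ρ g v + (ρ x (ρ g v) - ρ g v) := by abel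
      have h4 : (ρ x (ρ g v) - ρ g v).1 = 0 := by
        show (ρ x (ρ g v)).1 - (ρ g v).1 = 0
        rw [h2, sub_self]
      rw [h3, hadd, inv_apply]
      show v.1 + (ρ g⁻¹ (ρ x (ρ g v) - ρ g v)).1 = v.1
      rw [hg' _ h4, add_zero]
  rw [hC] at h
  exact h

include hρ hadd hP1 in
/-- a `2`-element which stabilises `Z` lies in `P` -/
theorem mem_P {g : G} (hg : ∀ v : K × K × K, v.1 = 0 → (ρ g v).1 = 0)
    (hg' : ∀ v : K × K × K, v.1 = 0 → (ρ g⁻¹ v).1 = 0) (h2 : g ^ 2 = 1) : g ∈ P := by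
  have hgi : g⁻¹ = g := by
    rw [inv_eq_iff_mul_eq_one, ← pow_two, h2]
  have hn : g ∈ Subgroup.normalizer ((P : Subgroup G) : Set G) := by
    rw [Subgroup.mem_normalizer_iff]
    intro x
    constructor
    · intro hx
      have := conj_mem ρ hρ hadd P hP1 (g := g⁻¹) hg' (by rw [inv_inv]; exact hg) hx
      rwa [inv_inv] at this
    · intro hx
      have h := conj_mem ρ hρ hadd P hP1 hg hg' hx
      have e : g⁻¹ * (g * x * g⁻¹) * g = x := by group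
      rw [e] at h
      exact h
  have hpg : IsPGroup 2 (Subgroup.zpowers g) := by
    rw [IsPGroup.iff_card]
    rw [Nat.card_zpowers]
    have := orderOf_dvd_of_pow_eq_one h2
    obtain ⟨k, -, hk⟩ := (Nat.dvd_prime_pow Nat.prime_two (m := 1)).1 (by simpa using this)
    exact ⟨k, hk⟩
  have h3 := hpg.inf_normalizer_sylow P
  have h4 : g ∈ Subgroup.zpowers g ⊓ (P : Subgroup G) := by
    rw [← h3]
    exact ⟨Subgroup.mem_zpowers g, hn⟩
  exact h4.2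

include hρ hadd hP1 in
/-- an element `θ ≠ 1` of `P` which stabilises `g Z` forces `g Z = Z` -/
theorem stab_imp {g x : G} (hx : x ∈ P) (hx1 : x ≠ 1) (h : WW ρ hadd (x * g) = WW ρ hadd g) :
    WW ρ hadd g = WW ρ hadd 1 := by
  obtain ⟨t, ht⟩ := hP1 x hx
  have ht0 : t ≠ 0 := by
    rintro rfl
    apply hx1
    apply hρ
    rw [ht, map_one]
    apply Equiv.ext
    intro v
    rw [phi_add_vec, Equiv.Perm.one_apply]
    simp
  have hx2 : x ^ 2 = 1 := by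
    apply hρ
    rw [map_pow, ht, map_one, pow_two, ← phi_add]
    have : t + t = 0 := CharTwo.add_self_eq_zero t
    rw [this]
    apply Equiv.ext
    intro v
    rw [phi_add_vec, Equiv.Perm.one_apply]
    simp
  -- the conjugate stabilises `Z`
  have hst : ∀ v : K × K × K, v.1 = 0 → (ρ (g⁻¹ * x * g) v).1 = 0 := by
    intro v hv
    have h1 : ρ g v ∈ WW ρ hadd g := by
      rw [mem_WW, inv_apply]; exact hv
    have h2 : ρ x (ρ g v) ∈ WW ρ hadd (x * g) := (apply_mem_WW ρ hadd).2 h1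
    rw [h, mem_WW] at h2
    rw [mul_apply', mul_apply']
    exact h2
  have hη2 : (g⁻¹ * x * g) ^ 2 = 1 := by
    have : (g⁻¹ * x * g) ^ 2 = g⁻¹ * x ^ 2 * g := by rw [pow_two, pow_two]; group
    rw [this, hx2]; group
  have hηi : (g⁻¹ * x * g)⁻¹ = g⁻¹ * x * g := by
    rw [inv_eq_iff_mul_eq_one, ← pow_two, hη2]
  have hηP : g⁻¹ * x * g ∈ P := mem_P ρ hρ hadd P hP1 hst (by rw [hηi]; exact hst) hη2
  obtain ⟨t', ht'⟩ := hP1 _ hηP
  have ht0' : t' ≠ 0 := by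
    rintro rfl
    apply hx1
    have : g⁻¹ * x * g = 1 := by
      apply hρ
      rw [ht', map_one]
      apply Equiv.ext
      intro v
      rw [phi_add_vec, Equiv.Perm.one_apply]
      simp
    have h5 : x = g * (g⁻¹ * x * g) * g⁻¹ := by group
    rw [h5, this]; group
  ext v
  rw [mem_WW_one, mem_WW]
  constructor
  · intro hv
    have h1 : ρ (g⁻¹ * x * g) (ρ g⁻¹ v) = ρ g⁻¹ v := by rw [ht', phi_fix _ hv]
    have h2 : ρ x v = v := by
      rw [mul_apply', mul_apply', apply_inv] at h1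
      exact (ρ g⁻¹).injective h1
    rw [ht] at h2
    exact fix_phi ht0 h2
  · intro hv
    have h2 : ρ x v = v := by rw [ht, phi_fix _ hv]
    have h1 : ρ (g⁻¹ * x * g) (ρ g⁻¹ v) = ρ g⁻¹ v := by
      rw [mul_apply', mul_apply', apply_inv, h2]
    rw [ht'] at h1
    exact fix_phi ht0' h1

theorem card_K_pos : 0 < Nat.card K := Nat.card_pos

/-- `|Z ∩ g Z| ≥ q` -/
theorem card_inf_ge (g : G) :
    Nat.card K ≤ Nat.card (WW ρ hadd 1 ⊓ WW ρ hadd g : AddSubgroup (K × K × K)) := by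
  have h1 := Cfsg.Agent.H263.FF.Basic.card_sup_inf (WW ρ hadd 1) (WW ρ hadd g)
  rw [card_WW, card_WW] at h1
  have h2 : Nat.card (WW ρ hadd 1 ⊔ WW ρ hadd g : AddSubgroup (K × K × K)) ≤
      Nat.card K * (Nat.card K * Nat.card K) := by
    rw [← card_all]
    exact Nat.card_le_card_of_injective _ Subtype.val_injective
  have h0 : 0 < Nat.card K := Nat.card_pos
  have h3 : Nat.card K * (Nat.card K * Nat.card K) * Nat.card K ≤
      Nat.card K * (Nat.card K * Nat.card K) *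
        Nat.card (WW ρ hadd 1 ⊓ WW ρ hadd g : AddSubgroup (K × K × K)) := by
    calc Nat.card K * (Nat.card K * Nat.card K) * Nat.card K = Nat.card K * Nat.card K * (Nat.card K * Nat.card K) := by
          ring
      _ = _ := h1.symm
      _ ≤ _ := Nat.mul_le_mul_right _ h2
  exact Nat.le_of_mul_le_mul_left h3 (by positivity)

include hρ hP1 hP2 in
/-- for `g Z ≠ Z` with `|Z ∩ g Z|` maximal the intersection meets every `R_s` trivially (`s = e.1`, `e ∈ g Z`) -/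
theorem inf_RR {g : G} (hg : WW ρ hadd g ≠ WW ρ hadd 1)
    (hmax : ∀ h : G, WW ρ hadd h ≠ WW ρ hadd 1 →
      Nat.card (WW ρ hadd 1 ⊓ WW ρ hadd h : AddSubgroup (K × K × K)) ≤
        Nat.card (WW ρ hadd 1 ⊓ WW ρ hadd g : AddSubgroup (K × K × K)))
    {e : K × K × K} (he : e ∈ WW ρ hadd g) (he1 : e.1 ≠ 0) {v : K × K × K}
    (hv : v ∈ WW ρ hadd 1 ⊓ WW ρ hadd g) (hvR : v ∈ RR e.1) : v = 0 := by
  by_contra hv0
  obtain ⟨s, u, z⟩ := e
  obtain ⟨a, x, y⟩ := v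
  obtain ⟨h1, h2⟩ := hvR
  have h1' : a = 0 := h1
  have h2' : y * s = x ^ 2 := h2
  have hs : s ≠ 0 := he1
  subst h1'
  obtain ⟨θ, hθ, hθt⟩ := hP2 (x / s)
  have hx0 : x ≠ 0 := by
    rintro rfl
    apply hv0
    rw [zero_pow two_ne_zero] at h2'
    rw [(mul_eq_zero.1 h2').resolve_right hs]
    rfl
  have ht0 : x / s ≠ 0 := div_ne_zero hx0 hs
  have hθ1 : θ ≠ 1 := by
    rintro rfl
    rw [map_one] at hθt
    have h3 := congrArg (fun f : Equiv.Perm (K × K × K) => (f (1, 0, 0)).2.1) hθt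
    have h4 : (0 : K) = 0 + x / s * 1 := by
      simpa [phi_two] using h3
    rw [zero_add, mul_one] at h4
    exact ht0 h4.symm
  -- `θ e = e + v`
  have hθe : ρ θ (s, u, z) = (s, u, z) + (0, x, y) := by
    rw [hθt, phi_add_vec]
    congr 1
    show ((0 : K), x / s * s, (x / s) ^ 2 * s) = (0, x, y)
    have h5 : (x / s) ^ 2 * s = y := by
      rw [div_pow, pow_two s, ← h2']
      field_simp
    rw [h5, div_mul_cancel₀ _ hs]
  have hne : WW ρ hadd (θ * g) ≠ WW ρ hadd g := fun h =>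
    hg (stab_imp ρ hρ hadd P hP1 hθ hθ1 h)
  -- compare with `g⁻¹ θ g`
  have hne' : WW ρ hadd (g⁻¹ * θ * g) ≠ WW ρ hadd 1 := by
    intro h
    apply hne
    ext w
    have h6 : ∀ w, w ∈ WW ρ hadd (θ * g) ↔ ρ g⁻¹ w ∈ WW ρ hadd (g⁻¹ * θ * g) := by
      intro w
      rw [mul_assoc, apply_mem_WW]
    rw [h6, h, mem_WW_one, mem_WW]
  have hcard : Nat.card (WW ρ hadd 1 ⊓ WW ρ hadd (g⁻¹ * θ * g) : AddSubgroup (K × K × K)) =
      Nat.card (WW ρ hadd g ⊓ WW ρ hadd (θ * g) : AddSubgroup (K × K × K)) := by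
    rw [← card_inf_WW ρ hadd g⁻¹ g (θ * g), inv_mul_cancel, mul_assoc]
  have hle : WW ρ hadd 1 ⊓ WW ρ hadd g ≤ WW ρ hadd g ⊓ WW ρ hadd (θ * g) := by
    intro w hw
    obtain ⟨hw1, hw2⟩ := AddSubgroup.mem_inf.1 hw
    refine AddSubgroup.mem_inf.2 ⟨hw2, ?_⟩
    have h7 : ρ θ w = w := by rw [hθt, phi_fix _ ((mem_WW_one ρ hadd).1 hw1)]
    have h8 : ρ θ w ∈ WW ρ hadd (θ * g) := (apply_mem_WW ρ hadd).2 hw2
    rwa [h7] at h8
  have hθeW : ρ θ (s, u, z) ∈ WW ρ hadd g ⊓ WW ρ hadd (θ * g) := by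
    refine AddSubgroup.mem_inf.2 ⟨?_, (apply_mem_WW ρ hadd).2 he⟩
    rw [hθe]
    exact add_mem he (AddSubgroup.mem_inf.1 hv).2
  have hnot : ρ θ (s, u, z) ∉ WW ρ hadd 1 ⊓ WW ρ hadd g := by
    intro h
    have h9 := (mem_WW_one ρ hadd).1 (AddSubgroup.mem_inf.1 h).1
    rw [hθe] at h9
    have h10 : s + 0 = 0 := h9
    rw [add_zero] at h10
    exact hs h10
  have hlt : WW ρ hadd 1 ⊓ WW ρ hadd g < WW ρ hadd g ⊓ WW ρ hadd (θ * g) :=
    lt_of_le_of_ne hle fun h => hnot (by rw [h]; exact hθeW)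
  have hlt' : Nat.card (WW ρ hadd 1 ⊓ WW ρ hadd g : AddSubgroup (K × K × K)) <
      Nat.card (WW ρ hadd g ⊓ WW ρ hadd (θ * g) : AddSubgroup (K × K × K)) := by
    refine lt_of_le_of_ne (Cfsg.Agent.H263.FF.Basic.card_le hle) fun h => ?_
    have h11 : Nat.card (WW ρ hadd g ⊓ WW ρ hadd (θ * g) : AddSubgroup (K × K × K)) ≤
        Nat.card (WW ρ hadd 1 ⊓ WW ρ hadd g : AddSubgroup (K × K × K)) := h.ge
    exact hlt.ne (AddSubgroup.eq_of_le_of_card_ge hle h11)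
  have := hmax _ hne'
  rw [hcard] at this
  omega

/-- `K_u` -/
def KU (K : Type*) [Field K] : AddSubgroup (K × K × K) where
  carrier := {v | v.1 = 0 ∧ v.2.2 = 0}
  zero_mem' := ⟨rfl, rfl⟩
  add_mem' := by
    rintro a b ⟨ha, ha'⟩ ⟨hb, hb'⟩
    refine ⟨?_, ?_⟩
    · show a.1 + b.1 = 0
      rw [ha, hb, add_zero]
    · show a.2.2 + b.2.2 = 0
      rw [ha', hb', add_zero]
  neg_mem' := by
    rintro a ⟨ha, ha'⟩
    refine ⟨?_, ?_⟩
    · show -a.1 = 0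
      rw [ha, neg_zero]
    · show -a.2.2 = 0
      rw [ha', neg_zero]

/-- `K_z` -/
def KZ (K : Type*) [Field K] : AddSubgroup (K × K × K) where
  carrier := {v | v.1 = 0 ∧ v.2.1 = 0}
  zero_mem' := ⟨rfl, rfl⟩
  add_mem' := by
    rintro a b ⟨ha, ha'⟩ ⟨hb, hb'⟩
    refine ⟨?_, ?_⟩
    · show a.1 + b.1 = 0
      rw [ha, hb, add_zero]
    · show a.2.1 + b.2.1 = 0
      rw [ha', hb', add_zero]
  neg_mem' := by
    rintro a ⟨ha, ha'⟩
    refine ⟨?_, ?_⟩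
    · show -a.1 = 0
      rw [ha, neg_zero]
    · show -a.2.1 = 0
      rw [ha', neg_zero]

theorem card_KU : Nat.card (KU K) = Nat.card K := by
  refine Nat.card_congr
    { toFun := fun v => v.1.2.1
      invFun := fun x => ⟨(0, x, 0), rfl, rfl⟩
      left_inv := fun v => ?_
      right_inv := fun x => rfl }
  obtain ⟨⟨a, x, y⟩, h1, h2⟩ := v
  have h1' : a = 0 := h1
  have h2' : y = 0 := h2
  subst h1' h2'
  rfl

theorem card_KZ : Nat.card (KZ K) = Nat.card K := by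
  refine Nat.card_congr
    { toFun := fun v => v.1.2.2
      invFun := fun x => ⟨(0, 0, x), rfl, rfl⟩
      left_inv := fun v => ?_
      right_inv := fun x => rfl }
  obtain ⟨⟨a, x, y⟩, h1, h2⟩ := v
  have h1' : a = 0 := h1
  have h2' : x = 0 := h2
  subst h1' h2'
  rfl

/-- an additive subgroup of `Z` of order `q` without elements with both coordinates non-zero -/
theorem eq_KU_or {D : AddSubgroup (K × K × K)} (hD : ∀ v ∈ D, v.1 = 0) (hc : Nat.card D = Nat.card K)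
    (h : ∀ v ∈ D, v.2.1 = 0 ∨ v.2.2 = 0) : D = KU K ∨ D = KZ K := by
  by_cases h1 : D ≤ KU K
  · exact Or.inl (AddSubgroup.eq_of_le_of_card_ge h1 (by rw [card_KU, hc]))
  · right
    refine AddSubgroup.eq_of_le_of_card_ge ?_ (by rw [card_KZ, hc])
    intro b hb
    obtain ⟨a, ha, ha'⟩ := SetLike.not_le_iff_exists.1 h1
    have ha2 : a.2.2 ≠ 0 := fun h => ha' ⟨hD a ha, h⟩
    have ha1 : a.2.1 = 0 := (h a ha).resolve_right ha2
    refine ⟨hD b hb, ?_⟩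
    by_contra hb1
    have hb2 : b.2.2 = 0 := (h b hb).resolve_left hb1
    rcases h (a + b) (add_mem ha hb) with h3 | h3
    · have h4 : a.2.1 + b.2.1 = 0 := h3
      rw [ha1, zero_add] at h4
      exact hb1 h4
    · have h4 : a.2.2 + b.2.2 = 0 := h3
      rw [hb2, add_zero] at h4
      exact ha2 h4

include hρ hadd hP1 hP2 in
/-- **Task S5260-F.** -/
theorem two_lemma (Q : AddSubgroup (K × K × K)) (hQ : Q ≠ ⊥) (hQZ : ∀ v ∈ Q, v.1 = 0)
    (hQG : ∀ g, ∀ v ∈ Q, ρ g v ∈ Q) (hnn : ∃ g u z, (ρ g (0, u, z)).1 ≠ 0) :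
    (∀ g z, ∃ z', ρ g (0, 0, z) = (0, 0, z')) ∨ (∀ g u, ∃ u', ρ g (0, u, 0) = (0, u', 0)) := by
  obtain ⟨g₀, u₀, z₀, h₀⟩ := hnn
  have hne₀ : WW ρ hadd g₀⁻¹ ≠ WW ρ hadd 1 := by
    intro h
    apply h₀
    have h1 : ((0 : K), u₀, z₀) ∈ WW ρ hadd 1 := (mem_WW_one ρ hadd).2 rfl
    rw [← h, mem_WW, inv_inv] at h1
    exact h1
  let S : Set G := {g | WW ρ hadd g ≠ WW ρ hadd 1}
  obtain ⟨g₁, hg₁, hmax⟩ := Set.exists_max_image S
    (fun g => Nat.card (WW ρ hadd 1 ⊓ WW ρ hadd g : AddSubgroup (K × K × K))) (Set.toFinite S) ⟨_, hne₀⟩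
  have hq : 0 < Nat.card K := Nat.card_pos
  -- every `g Z ≠ Z` contains a vector outside `Z`
  have hout : ∀ g, WW ρ hadd g ≠ WW ρ hadd 1 → ∃ e ∈ WW ρ hadd g, e.1 ≠ 0 := by
    intro g hg
    by_contra hcon
    push Not at hcon
    apply hg
    refine AddSubgroup.eq_of_le_of_card_ge (fun v hv => (mem_WW_one ρ hadd).2 (hcon v hv)) ?_
    rw [card_WW, card_WW]
  -- the maximal order is `q`
  have hle₁ : Nat.card (WW ρ hadd 1 ⊓ WW ρ hadd g₁ : AddSubgroup (K × K × K)) ≤ Nat.card K := by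
    obtain ⟨e, he, he1⟩ := hout g₁ hg₁
    have h1 := Cfsg.Agent.H263.FF.Basic.card_sup_inf (WW ρ hadd 1 ⊓ WW ρ hadd g₁) (RR e.1)
    have h2 : (WW ρ hadd 1 ⊓ WW ρ hadd g₁) ⊓ RR e.1 = ⊥ := by
      rw [eq_bot_iff]
      intro v hv
      obtain ⟨hv1, hv2⟩ := AddSubgroup.mem_inf.1 hv
      exact AddSubgroup.mem_bot.2 (inf_RR ρ hρ hadd P hP1 hP2 hg₁ (fun h hh => hmax h hh) he he1 hv1 hv2)
    have h3 : Nat.card ((WW ρ hadd 1 ⊓ WW ρ hadd g₁) ⊔ RR e.1 : AddSubgroup (K × K × K)) ≤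
        Nat.card K * Nat.card K := by
      rw [← card_WW ρ hadd 1]
      refine Cfsg.Agent.H263.FF.Basic.card_le (sup_le inf_le_left fun v hv => ?_)
      exact (mem_WW_one ρ hadd).2 hv.1
    rw [h2, AddSubgroup.card_bot, mul_one, card_RR he1] at h1
    rw [h1] at h3
    exact Nat.le_of_mul_le_mul_right h3 hq
  have hcard : ∀ g, WW ρ hadd g ≠ WW ρ hadd 1 →
      Nat.card (WW ρ hadd 1 ⊓ WW ρ hadd g : AddSubgroup (K × K × K)) = Nat.card K := fun g hg =>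
    le_antisymm ((hmax g hg).trans hle₁) (card_inf_ge ρ hadd g)
  -- each of the intersections is `K_u` or `K_z`
  have hD : ∀ g, WW ρ hadd g ≠ WW ρ hadd 1 →
      WW ρ hadd 1 ⊓ WW ρ hadd g = KU K ∨ WW ρ hadd 1 ⊓ WW ρ hadd g = KZ K := by
    intro g hg
    refine eq_KU_or (fun v hv => (mem_WW_one ρ hadd).1 (AddSubgroup.mem_inf.1 hv).1) (hcard g hg) ?_
    intro v hv
    by_contra hcon
    push Not at hcon
    obtain ⟨hx, hy⟩ := hcon
    -- the sum is everything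
    have h1 := Cfsg.Agent.H263.FF.Basic.card_sup_inf (WW ρ hadd 1) (WW ρ hadd g)
    rw [card_WW, card_WW, hcard g hg] at h1
    have h2 : (WW ρ hadd 1 ⊔ WW ρ hadd g : AddSubgroup (K × K × K)) = ⊤ := by
      apply AddSubgroup.eq_top_of_card_eq
      rw [card_all]
      have h3 : Nat.card (WW ρ hadd 1 ⊔ WW ρ hadd g : AddSubgroup (K × K × K)) * Nat.card K =
          Nat.card K * (Nat.card K * Nat.card K) * Nat.card K := by rw [h1]; ring
      exact Nat.eq_of_mul_eq_mul_right hq h3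
    have h4 : ((v.2.1 ^ 2 / v.2.2 : K), (0 : K), (0 : K)) ∈ (WW ρ hadd 1 ⊔ WW ρ hadd g : AddSubgroup (K × K × K)) := by
      rw [h2]; exact AddSubgroup.mem_top _
    obtain ⟨a, ha, e, he, hae⟩ := AddSubgroup.mem_sup.1 h4
    have ha1 : a.1 = 0 := (mem_WW_one ρ hadd).1 ha
    have he1 : e.1 = v.2.1 ^ 2 / v.2.2 := by
      have h5 : a.1 + e.1 = v.2.1 ^ 2 / v.2.2 := congrArg Prod.fst hae
      rwa [ha1, zero_add] at h5
    have he0 : e.1 ≠ 0 := by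
      rw [he1]; exact div_ne_zero (pow_ne_zero 2 hx) hy
    have hmax' : ∀ h : G, WW ρ hadd h ≠ WW ρ hadd 1 →
        Nat.card (WW ρ hadd 1 ⊓ WW ρ hadd h : AddSubgroup (K × K × K)) ≤
          Nat.card (WW ρ hadd 1 ⊓ WW ρ hadd g : AddSubgroup (K × K × K)) := by
      intro h hh
      rw [hcard g hg, hcard h hh]
    have h6 := inf_RR ρ hρ hadd P hP1 hP2 hg hmax' he he0 hv
      ⟨(mem_WW_one ρ hadd).1 (AddSubgroup.mem_inf.1 hv).1, by rw [he1]; field_simp⟩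
    rw [h6] at hx
    exact hx rfl
  -- a non-zero vector of `Q`
  obtain ⟨w, hw, hw0⟩ : ∃ w ∈ Q, w ≠ 0 := by
    obtain ⟨a, ha⟩ := AddSubgroup.ne_bot_iff_exists_ne_zero.1 hQ
    exact ⟨a.1, a.2, fun h => ha (Subtype.ext h)⟩
  have hwall : ∀ g, w ∈ WW ρ hadd g := fun g => hQZ _ (hQG g⁻¹ w hw)
  -- the intersection is the same for all `g`
  have hinv : ∀ U : AddSubgroup (K × K × K), (∀ g, WW ρ hadd g ≠ WW ρ hadd 1 → WW ρ hadd 1 ⊓ WW ρ hadd g = U) →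
      ∀ g, ∀ v ∈ U, ρ g v ∈ U := by
    intro U hU g v hv
    have hUle : ∀ h, U ≤ WW ρ hadd h := by
      intro h
      by_cases hh : WW ρ hadd h = WW ρ hadd 1
      · rw [hh, ← hU g₁ hg₁]; exact inf_le_left
      · rw [← hU h hh]; exact inf_le_right
    have h1 : ∀ h, ρ g v ∈ WW ρ hadd h := by
      intro h
      have h2 : h = g * (g⁻¹ * h) := by group
      rw [h2, apply_mem_WW]
      exact hUle _ hv
    rw [← hU g₁ hg₁]
    exact AddSubgroup.mem_inf.2 ⟨h1 1, h1 g₁⟩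
  have hdisj : ¬ (w ∈ KU K ∧ w ∈ KZ K) := by
    rintro ⟨⟨h1, h2⟩, ⟨-, h3⟩⟩
    apply hw0
    exact Prod.ext h1 (Prod.ext h3 h2)
  rcases hD g₁ hg₁ with h1 | h1
  · right
    have hwU : w ∈ KU K := by rw [← h1]; exact AddSubgroup.mem_inf.2 ⟨hwall 1, hwall g₁⟩
    have hU : ∀ g, WW ρ hadd g ≠ WW ρ hadd 1 → WW ρ hadd 1 ⊓ WW ρ hadd g = KU K := by
      intro g hg
      rcases hD g hg with h2 | h2
      · exact h2
      · exact absurd ⟨hwU, by rw [← h2]; exact AddSubgroup.mem_inf.2 ⟨hwall 1, hwall g⟩⟩ hdisj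
    intro g u
    obtain ⟨h3, h4⟩ := hinv _ hU g (0, u, 0) ⟨rfl, rfl⟩
    exact ⟨(ρ g (0, u, 0)).2.1, Prod.ext h3 (Prod.ext rfl h4)⟩
  · left
    have hwU : w ∈ KZ K := by rw [← h1]; exact AddSubgroup.mem_inf.2 ⟨hwall 1, hwall g₁⟩
    have hU : ∀ g, WW ρ hadd g ≠ WW ρ hadd 1 → WW ρ hadd 1 ⊓ WW ρ hadd g = KZ K := by
      intro g hg
      rcases hD g hg with h2 | h2
      · exact absurd ⟨by rw [← h2]; exact AddSubgroup.mem_inf.2 ⟨hwall 1, hwall g⟩, hwU⟩ hdisj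
      · exact h2
    intro g z
    obtain ⟨h3, h4⟩ := hinv _ hU g (0, 0, z) ⟨rfl, rfl⟩
    exact ⟨(ρ g (0, 0, z)).2.2, Prod.ext h3 (Prod.ext h4 rfl)⟩

end

end Cfsg.Agent.H541.TwoLem
end

-- part: H780/TwoLemQ
section
/-!
# `two_lemma` of helper541 with the additional conclusion that `Q` is contained in the
invariant subgroup (helper780; the proof is helper541's)
-/

set_option autoImplicit false
set_option linter.unusedSectionVars false

namespace Cfsg.Agent.H780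

open Cfsg.Agent.H541.TwoLem

variable {K : Type*} [Field K] [Finite K] [CharP K 2] {G : Type*} [Group G] [Finite G]
  (ρ : G →* Equiv.Perm (K × K × K)) (hρ : Function.Injective ρ)
  (hadd : ∀ g v w, ρ g (v + w) = ρ g v + ρ g w) (P : Sylow 2 G)
  (hP1 : ∀ g ∈ P, ∃ t : K, ρ g = phi t) (hP2 : ∀ t : K, ∃ g ∈ P, ρ g = phi t)

include hρ hadd hP1 hP2 in
/-- **Task S5260-F.** -/
theorem two_lemma' (Q : AddSubgroup (K × K × K)) (hQ : Q ≠ ⊥) (hQZ : ∀ v ∈ Q, v.1 = 0)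
    (hQG : ∀ g, ∀ v ∈ Q, ρ g v ∈ Q) (hnn : ∃ g u z, (ρ g (0, u, z)).1 ≠ 0) :
    ((∀ g z, ∃ z', ρ g (0, 0, z) = (0, 0, z')) ∧ ∀ v ∈ Q, v.2.1 = 0) ∨
      ((∀ g u, ∃ u', ρ g (0, u, 0) = (0, u', 0)) ∧ ∀ v ∈ Q, v.2.2 = 0) := by
  obtain ⟨g₀, u₀, z₀, h₀⟩ := hnn
  have hne₀ : WW ρ hadd g₀⁻¹ ≠ WW ρ hadd 1 := by
    intro h
    apply h₀
    have h1 : ((0 : K), u₀, z₀) ∈ WW ρ hadd 1 := (mem_WW_one ρ hadd).2 rfl
    rw [← h, mem_WW, inv_inv] at h1
    exact h1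
  let S : Set G := {g | WW ρ hadd g ≠ WW ρ hadd 1}
  obtain ⟨g₁, hg₁, hmax⟩ := Set.exists_max_image S
    (fun g => Nat.card (WW ρ hadd 1 ⊓ WW ρ hadd g : AddSubgroup (K × K × K))) (Set.toFinite S) ⟨_, hne₀⟩
  have hq : 0 < Nat.card K := Nat.card_pos
  -- every `g Z ≠ Z` contains a vector outside `Z`
  have hout : ∀ g, WW ρ hadd g ≠ WW ρ hadd 1 → ∃ e ∈ WW ρ hadd g, e.1 ≠ 0 := by
    intro g hg
    by_contra hcon
    push Not at hcon
    apply hg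
    refine AddSubgroup.eq_of_le_of_card_ge (fun v hv => (mem_WW_one ρ hadd).2 (hcon v hv)) ?_
    rw [card_WW, card_WW]
  -- the maximal order is `q`
  have hle₁ : Nat.card (WW ρ hadd 1 ⊓ WW ρ hadd g₁ : AddSubgroup (K × K × K)) ≤ Nat.card K := by
    obtain ⟨e, he, he1⟩ := hout g₁ hg₁
    have h1 := Cfsg.Agent.H263.FF.Basic.card_sup_inf (WW ρ hadd 1 ⊓ WW ρ hadd g₁) (RR e.1)
    have h2 : (WW ρ hadd 1 ⊓ WW ρ hadd g₁) ⊓ RR e.1 = ⊥ := by
      rw [eq_bot_iff]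
      intro v hv
      obtain ⟨hv1, hv2⟩ := AddSubgroup.mem_inf.1 hv
      exact AddSubgroup.mem_bot.2 (inf_RR ρ hρ hadd P hP1 hP2 hg₁ (fun h hh => hmax h hh) he he1 hv1 hv2)
    have h3 : Nat.card ((WW ρ hadd 1 ⊓ WW ρ hadd g₁) ⊔ RR e.1 : AddSubgroup (K × K × K)) ≤
        Nat.card K * Nat.card K := by
      rw [← card_WW ρ hadd 1]
      refine Cfsg.Agent.H263.FF.Basic.card_le (sup_le inf_le_left fun v hv => ?_)
      exact (mem_WW_one ρ hadd).2 hv.1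
    rw [h2, AddSubgroup.card_bot, mul_one, card_RR he1] at h1
    rw [h1] at h3
    exact Nat.le_of_mul_le_mul_right h3 hq
  have hcard : ∀ g, WW ρ hadd g ≠ WW ρ hadd 1 →
      Nat.card (WW ρ hadd 1 ⊓ WW ρ hadd g : AddSubgroup (K × K × K)) = Nat.card K := fun g hg =>
    le_antisymm ((hmax g hg).trans hle₁) (card_inf_ge ρ hadd g)
  -- each of the intersections is `K_u` or `K_z`
  have hD : ∀ g, WW ρ hadd g ≠ WW ρ hadd 1 →
      WW ρ hadd 1 ⊓ WW ρ hadd g = KU K ∨ WW ρ hadd 1 ⊓ WW ρ hadd g = KZ K := by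
    intro g hg
    refine eq_KU_or (fun v hv => (mem_WW_one ρ hadd).1 (AddSubgroup.mem_inf.1 hv).1) (hcard g hg) ?_
    intro v hv
    by_contra hcon
    push Not at hcon
    obtain ⟨hx, hy⟩ := hcon
    -- the sum is everything
    have h1 := Cfsg.Agent.H263.FF.Basic.card_sup_inf (WW ρ hadd 1) (WW ρ hadd g)
    rw [card_WW, card_WW, hcard g hg] at h1
    have h2 : (WW ρ hadd 1 ⊔ WW ρ hadd g : AddSubgroup (K × K × K)) = ⊤ := by
      apply AddSubgroup.eq_top_of_card_eq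
      rw [card_all]
      have h3 : Nat.card (WW ρ hadd 1 ⊔ WW ρ hadd g : AddSubgroup (K × K × K)) * Nat.card K =
          Nat.card K * (Nat.card K * Nat.card K) * Nat.card K := by rw [h1]; ring
      exact Nat.eq_of_mul_eq_mul_right hq h3
    have h4 : ((v.2.1 ^ 2 / v.2.2 : K), (0 : K), (0 : K)) ∈ (WW ρ hadd 1 ⊔ WW ρ hadd g : AddSubgroup (K × K × K)) := by
      rw [h2]; exact AddSubgroup.mem_top _
    obtain ⟨a, ha, e, he, hae⟩ := AddSubgroup.mem_sup.1 h4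
    have ha1 : a.1 = 0 := (mem_WW_one ρ hadd).1 ha
    have he1 : e.1 = v.2.1 ^ 2 / v.2.2 := by
      have h5 : a.1 + e.1 = v.2.1 ^ 2 / v.2.2 := congrArg Prod.fst hae
      rwa [ha1, zero_add] at h5
    have he0 : e.1 ≠ 0 := by
      rw [he1]; exact div_ne_zero (pow_ne_zero 2 hx) hy
    have hmax' : ∀ h : G, WW ρ hadd h ≠ WW ρ hadd 1 →
        Nat.card (WW ρ hadd 1 ⊓ WW ρ hadd h : AddSubgroup (K × K × K)) ≤
          Nat.card (WW ρ hadd 1 ⊓ WW ρ hadd g : AddSubgroup (K × K × K)) := by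
      intro h hh
      rw [hcard g hg, hcard h hh]
    have h6 := inf_RR ρ hρ hadd P hP1 hP2 hg hmax' he he0 hv
      ⟨(mem_WW_one ρ hadd).1 (AddSubgroup.mem_inf.1 hv).1, by rw [he1]; field_simp⟩
    rw [h6] at hx
    exact hx rfl
  -- a non-zero vector of `Q`
  obtain ⟨w, hw, hw0⟩ : ∃ w ∈ Q, w ≠ 0 := by
    obtain ⟨a, ha⟩ := AddSubgroup.ne_bot_iff_exists_ne_zero.1 hQ
    exact ⟨a.1, a.2, fun h => ha (Subtype.ext h)⟩
  have hwall : ∀ g, w ∈ WW ρ hadd g := fun g => hQZ _ (hQG g⁻¹ w hw)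
  -- the intersection is the same for all `g`
  have hinv : ∀ U : AddSubgroup (K × K × K), (∀ g, WW ρ hadd g ≠ WW ρ hadd 1 → WW ρ hadd 1 ⊓ WW ρ hadd g = U) →
      ∀ g, ∀ v ∈ U, ρ g v ∈ U := by
    intro U hU g v hv
    have hUle : ∀ h, U ≤ WW ρ hadd h := by
      intro h
      by_cases hh : WW ρ hadd h = WW ρ hadd 1
      · rw [hh, ← hU g₁ hg₁]; exact inf_le_left
      · rw [← hU h hh]; exact inf_le_right
    have h1 : ∀ h, ρ g v ∈ WW ρ hadd h := by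
      intro h
      have h2 : h = g * (g⁻¹ * h) := by group
      rw [h2, apply_mem_WW]
      exact hUle _ hv
    rw [← hU g₁ hg₁]
    exact AddSubgroup.mem_inf.2 ⟨h1 1, h1 g₁⟩
  have hdisj : ¬ (w ∈ KU K ∧ w ∈ KZ K) := by
    rintro ⟨⟨h1, h2⟩, ⟨-, h3⟩⟩
    apply hw0
    exact Prod.ext h1 (Prod.ext h3 h2)
  rcases hD g₁ hg₁ with h1 | h1
  · right
    have hwU : w ∈ KU K := by rw [← h1]; exact AddSubgroup.mem_inf.2 ⟨hwall 1, hwall g₁⟩
    have hU : ∀ g, WW ρ hadd g ≠ WW ρ hadd 1 → WW ρ hadd 1 ⊓ WW ρ hadd g = KU K := by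
      intro g hg
      rcases hD g hg with h2 | h2
      · exact h2
      · exact absurd ⟨hwU, by rw [← h2]; exact AddSubgroup.mem_inf.2 ⟨hwall 1, hwall g⟩⟩ hdisj
    refine ⟨fun g u => ?_, fun v hv => ?_⟩
    · obtain ⟨h3, h4⟩ := hinv _ hU g (0, u, 0) ⟨rfl, rfl⟩
      exact ⟨(ρ g (0, u, 0)).2.1, Prod.ext h3 (Prod.ext rfl h4)⟩
    · have h5 : v ∈ KU K := by
        rw [← h1]; exact AddSubgroup.mem_inf.2 ⟨hQZ _ (hQG _ v hv), hQZ _ (hQG _ v hv)⟩
      exact h5.2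
  · left
    have hwU : w ∈ KZ K := by rw [← h1]; exact AddSubgroup.mem_inf.2 ⟨hwall 1, hwall g₁⟩
    have hU : ∀ g, WW ρ hadd g ≠ WW ρ hadd 1 → WW ρ hadd 1 ⊓ WW ρ hadd g = KZ K := by
      intro g hg
      rcases hD g hg with h2 | h2
      · exact absurd ⟨by rw [← h2]; exact AddSubgroup.mem_inf.2 ⟨hwall 1, hwall g⟩, hwU⟩ hdisj
      · exact h2
    refine ⟨fun g z => ?_, fun v hv => ?_⟩
    · obtain ⟨h3, h4⟩ := hinv _ hU g (0, 0, z) ⟨rfl, rfl⟩
      exact ⟨(ρ g (0, 0, z)).2.2, Prod.ext h3 (Prod.ext h4 rfl)⟩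
    · have h5 : v ∈ KZ K := by
        rw [← h1]; exact AddSubgroup.mem_inf.2 ⟨hQZ _ (hQG _ v hv), hQZ _ (hQG _ v hv)⟩
      exact h5.2


end Cfsg.Agent.H780
end

-- part: H780/SpTwoU
section
/-!
# `p = 2`: the invariant subgroup `U` and the change of coordinates (helper780)
-/

set_option autoImplicit false

universe u v

namespace Cfsg.Agent.H780

open Cfsg Cfsg.FusionSystem Cfsg.Agent.H802

variable {Ω : Type u} [Group Ω] {S : Subgroup Ω} {K : Type v} [Field K]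

theorem two_eq_zero [CharP K 2] : (2 : K) = 0 := by
  have := CharP.cast_eq_zero K 2
  simpa using this

theorem sq_inj [CharP K 2] {a b : K} (h : a ^ 2 = b ^ 2) : a = b := by
  have h2 : (2 : K) = 0 := two_eq_zero
  have h3 : (a - b) ^ 2 = 0 := by
    linear_combination h + (b ^ 2 - a * b) * h2
  exact sub_eq_zero.1 (pow_eq_zero_iff (two_ne_zero)|>.1 h3)

theorem sq_surj [Finite K] [CharP K 2] (a : K) : ∃ b : K, b ^ 2 = a := by
  have h : Function.Injective (fun b : K => b ^ 2) := fun a b h => sq_inj h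
  exact Finite.surjective_of_injective h a

/-- The other coordinates for `p = 2`, exchanging `M` and `L₀`. -/
def SpC.swap [Finite K] [CharP K 2] (C : SpC S K) : SpC S K where
  t x := C.s x
  s x := C.t x ^ 2
  u x := C.z x + C.t x ^ 2 * C.s x
  z x := (C.u x + C.t x * C.s x) ^ 2
  t_mul := fun hx hy => C.s_mul hx hy
  s_mul := fun {x y} hx hy => by
    rw [C.t_mul hx hy]
    linear_combination (C.t x * C.t y) * (two_eq_zero : (2 : K) = 0)
  u_mul := fun {x y} hx hy => by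
    rw [C.z_mul hx hy, C.t_mul hx hy, C.s_mul hx hy]
    linear_combination (C.t x * C.u y + C.t x ^ 2 * C.s y + C.t x * C.t y * (C.s x + C.s y)) *
      (two_eq_zero : (2 : K) = 0)
  z_mul := fun {x y} hx hy => by
    rw [C.u_mul hx hy, C.t_mul hx hy, C.s_mul hx hy]
    have h2 : (2 : K) = 0 := two_eq_zero
    have h3 : C.u x + C.u y + C.t x * C.s y + (C.t x + C.t y) * (C.s x + C.s y) =
        (C.u x + C.t x * C.s x) + (C.u y + C.t y * C.s y) + C.t y * C.s x := by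
      linear_combination (C.t x * C.s y) * h2
    rw [h3]
    linear_combination ((C.u x + C.t x * C.s x) * (C.u y + C.t y * C.s y) +
      (C.u x + C.t x * C.s x) * (C.t y * C.s x) + (C.u y + C.t y * C.s y) * (C.t y * C.s x) -
      C.s x * (C.z y + C.t y ^ 2 * C.s y)) * h2
  inj := fun {x y} hx hy h1 h2 h3 h4 => by
    have h5 : C.t x = C.t y := sq_inj h2
    have h6 := sq_inj h4
    apply C.inj hx hy h5 h1
    · rw [h5, h1] at h6
      exact add_right_cancel h6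
    · rw [h5, h1] at h3
      exact add_right_cancel h3
  surj := fun a b c d => by
    obtain ⟨b', hb⟩ := sq_surj b
    obtain ⟨d', hd⟩ := sq_surj d
    obtain ⟨x, hx, h1, h2, h3, h4⟩ := C.surj b' a (d' - b' * a) (c - b * a)
    refine ⟨x, hx, h2, by rw [h1, hb], ?_, ?_⟩
    · rw [h1, h2, h4, hb]; ring
    · rw [h1, h2, h3, ← hd]; ring

theorem SpC.swap_M [Finite K] [CharP K 2] (C : SpC S K) : C.swap.M = C.L 0 := by
  ext x
  rw [C.mem_L0]
  exact Iff.rfl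

theorem SpC.swap_L [Finite K] [CharP K 2] (C : SpC S K) : C.swap.L 0 = C.M := by
  ext x
  rw [C.swap.mem_L0]
  show x ∈ S ∧ C.t x ^ 2 = 0 ↔ x ∈ S ∧ C.t x = 0
  rw [pow_eq_zero_iff two_ne_zero]

theorem SpC.swap_Z2 [Finite K] [CharP K 2] (C : SpC S K) : C.swap.Z2 = C.Z2 := by
  ext x
  show x ∈ S ∧ C.s x = 0 ∧ C.t x ^ 2 = 0 ↔ x ∈ S ∧ C.t x = 0 ∧ C.s x = 0
  rw [pow_eq_zero_iff two_ne_zero]
  tauto

theorem SpC.mem_swap_Z1 [Finite K] [CharP K 2] (C : SpC S K) {x : Ω} :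
    x ∈ C.swap.Z1 ↔ x ∈ C.Z2 ∧ C.z x = 0 := by
  show x ∈ S ∧ C.s x = 0 ∧ C.t x ^ 2 = 0 ∧ C.z x + C.t x ^ 2 * C.s x = 0 ↔
    (x ∈ S ∧ C.t x = 0 ∧ C.s x = 0) ∧ C.z x = 0
  rw [pow_eq_zero_iff two_ne_zero]
  constructor
  · rintro ⟨h1, h2, h3, h4⟩
    rw [h2, h3] at h4
    exact ⟨⟨h1, h3, h2⟩, by linear_combination h4⟩
  · rintro ⟨⟨h1, h3, h2⟩, h4⟩
    exact ⟨h1, h2, h3, by rw [h2, h3, h4]; ring⟩

theorem SpC.swap_z_iff [Finite K] [CharP K 2] (C : SpC S K) {x : Ω} :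
    (x ∈ C.swap.Z2 ∧ C.swap.z x = 0) ↔ x ∈ C.Z1 := by
  show ((x ∈ S ∧ C.s x = 0 ∧ C.t x ^ 2 = 0) ∧ (C.u x + C.t x * C.s x) ^ 2 = 0) ↔
    (x ∈ S ∧ C.t x = 0 ∧ C.s x = 0 ∧ C.u x = 0)
  rw [pow_eq_zero_iff two_ne_zero, pow_eq_zero_iff two_ne_zero]
  constructor
  · rintro ⟨⟨h1, h2, h3⟩, h4⟩
    rw [h2, h3] at h4
    exact ⟨h1, h3, h2, by linear_combination h4⟩
  · rintro ⟨h1, h3, h2, h4⟩
    exact ⟨⟨h1, h2, h3⟩, by rw [h2, h3, h4]; ring⟩

/-- The invariant subgroup for `M`. -/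
theorem SpC.two_U [Finite K] [CharP K 2] [Finite S] (C : SpC S K) (hS : IsPGroup 2 S) {F : FusionSystem S}
    (hF : F.IsSaturated 2) (hM : F.IsEssential 2 C.M) {Q : Subgroup Ω} (hQ : F.StronglyClosed Q)
    (hQ1 : Q ≠ ⊥) (hQZ : Q ≤ C.Z2) :
    ((∀ α ∈ F.autGroup C.M, ∀ x : C.M, (x : Ω) ∈ C.Z1 → ((α x : C.M) : Ω) ∈ C.Z1) ∧ Q ≤ C.Z1) ∨
      ((∀ α ∈ F.autGroup C.M, ∀ x : C.M, ((x : Ω) ∈ C.Z2 ∧ C.z x = 0) →
        (((α x : C.M) : Ω) ∈ C.Z2 ∧ C.z (α x : C.M) = 0)) ∧ ∀ x ∈ Q, C.z x = 0) := by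
  have h2 : (2 : K) = 0 := two_eq_zero
  have hPS : C.M ≤ S := C.M_le
  have hfM : Finite C.M := finite_of_le hPS
  obtain ⟨-, R, hR⟩ := isFullyAutomized_of_isFullyNormalized hS hF hM.2.1
  have hmemR : ∀ g : F.autGroup C.M, g ∈ R ↔ (g : MulAut C.M) ∈ autInducedBy S C.M := by
    intro g
    have : g ∈ (R : Subgroup (F.autGroup C.M)) ↔
      g ∈ (autInducedBy S C.M).subgroupOf (F.autGroup C.M) := by rw [hR]
    exact this
  have hc1 : C.c3 1 = 0 := by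
    have := C.c3_mul 1 1
    rw [mul_one] at this
    simpa using this
  have hker : ∀ x, C.c3 x = 0 → x = 1 := fun x hx => C.c3_inj x 1 (by rw [hx, hc1])
  obtain ⟨ρ, hρ, hρadd⟩ := exists_rho C.c3 C.c3_mul C.c3_surj (F.autGroup C.M)
    (fun α _ x hx => by rw [hker x hx, map_one, hc1])
  have hρinj : Function.Injective ρ := by
    intro α β hαβ
    apply Subtype.ext
    apply MulEquiv.ext
    intro x
    apply C.c3_inj
    rw [← hρ, ← hρ, hαβ]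
  have hρeq : ∀ (g : F.autGroup C.M) (t : K), (∀ x, C.c3 (g.1 x) = phi t (C.c3 x)) → ρ g = phi t := by
    intro g t h
    apply Equiv.ext
    intro v
    obtain ⟨x, rfl⟩ := C.c3_surj v
    rw [hρ]
    exact h x
  have hQM : Q ≤ C.M := fun x hx => C.Z2_le_M (hQZ hx)
  let Q' : AddSubgroup (K × K × K) :=
    { carrier := {v | ∃ x : C.M, (x : Ω) ∈ Q ∧ C.c3 x = v}
      zero_mem' := ⟨1, Q.one_mem, hc1⟩
      add_mem' := by
        rintro _ _ ⟨x, hx, rfl⟩ ⟨y, hy, rfl⟩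
        exact ⟨x * y, Q.mul_mem hx hy, C.c3_mul x y⟩
      neg_mem' := by
        rintro _ ⟨x, hx, rfl⟩
        refine ⟨x⁻¹, Q.inv_mem hx, ?_⟩
        have := C.c3_mul x⁻¹ x
        rw [inv_mul_cancel, hc1] at this
        exact eq_neg_of_add_eq_zero_left this.symm }
  have hQ'mem : ∀ x : C.M, (x : Ω) ∈ Q → C.c3 x ∈ Q' := fun x hx => ⟨x, hx, rfl⟩
  have hinv : ∀ α ∈ F.autGroup C.M, ∀ x : C.M, (x : Ω) ∈ Q → ((α x : C.M) : Ω) ∈ Q := by
    intro α hα x hx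
    have h5 := hQ.2 Q le_rfl ((C.M.subtype.comp α.toMonoidHom).comp
      (Subgroup.inclusion hQM)) (restrict_mem ((mem_autGroup_iff F hPS _).1 hα) _) ⟨x, hx⟩
    exact h5
  have hmain := two_lemma' ρ hρinj hρadd R
    (fun g hg => by
      obtain ⟨a, ha, haτ⟩ := (mem_autInducedBy_iff S C.M _).1 ((hmemR g).1 hg)
      exact ⟨C.t a, hρeq g _ (fun x => C.c3_conj ha x _ (haτ x))⟩)
    (fun t => by
      obtain ⟨a, ha, h3, -, -, -⟩ := C.surj t 0 0 0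
      obtain ⟨τ, hτ⟩ := exists_conjAut (C.M_normalizer ha)
      have hτT : τ ∈ autInducedBy S C.M := (mem_autInducedBy_iff S C.M τ).2 ⟨a, ha, hτ⟩
      refine ⟨⟨τ, autInducedBy_le_autGroup F hPS hτT⟩, (hmemR _).2 hτT, hρeq _ _ (fun x => ?_)⟩
      have h4 := C.c3_conj ha x _ (hτ x)
      rw [h3] at h4
      exact h4)
    Q'
    (fun h => by
      apply hQ1
      rw [Subgroup.eq_bot_iff_forall]
      intro x hx
      have h3 := hQ'mem ⟨x, hQM hx⟩ hx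
      rw [h, AddSubgroup.mem_bot] at h3
      exact congrArg Subtype.val (hker _ h3))
    (by
      rintro _ ⟨x, hx, rfl⟩
      exact (hQZ hx).2.2)
    (by
      rintro g _ ⟨x, hx, rfl⟩
      rw [hρ]
      exact hQ'mem _ (hinv g g.2 x hx))
    (by
      by_contra hcon
      push Not at hcon
      apply ne_of_isEssential hS hF hM
      apply le_antisymm hPS
      intro g hg
      refine mem_of_chain2 hS hM C.Z2 C.Z2_le_M (fun α hα x hx => ?_) hg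
        (fun x hx => C.comm_mem_Z2 hg (hPS hx)) (fun x hx => ?_)
      · refine ⟨(α x).2.1, (α x).2.2, ?_⟩
        have h3 : (ρ ⟨α, hα⟩ (C.c3 x)).1 = 0 := by
          have h4 : C.c3 x = (0, C.u x, C.z x) := by
            show (C.s x, C.u x, C.z x) = _
            rw [hx.2.2]
          rw [h4]
          exact hcon _ _ _
        rw [hρ] at h3
        exact h3
      · rw [← C.Z2_comm h2 hx hg, mul_inv_cancel_right])
  have hmemZ1 : ∀ x : C.M, (x : Ω) ∈ C.Z1 ↔ ∃ z, C.c3 x = (0, 0, z) := by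
    intro x
    constructor
    · intro h
      refine ⟨C.z x, ?_⟩
      show (C.s x, C.u x, C.z x) = _
      rw [h.2.2.1, h.2.2.2]
    · rintro ⟨z, hz⟩
      exact ⟨x.2.1, x.2.2, congrArg Prod.fst hz, congrArg (fun v => v.2.1) hz⟩
  have hmemKu : ∀ x : C.M, ((x : Ω) ∈ C.Z2 ∧ C.z x = 0) ↔ ∃ u, C.c3 x = (0, u, 0) := by
    intro x
    constructor
    · rintro ⟨h, h'⟩
      refine ⟨C.u x, ?_⟩
      show (C.s x, C.u x, C.z x) = _
      rw [h.2.2, h']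
    · rintro ⟨z, hz⟩
      exact ⟨⟨x.2.1, x.2.2, congrArg Prod.fst hz⟩, congrArg (fun v => v.2.2) hz⟩
  rcases hmain with ⟨h3, h4⟩ | ⟨h3, h4⟩
  · left
    refine ⟨fun α hα x hx => ?_, fun x hx => ?_⟩
    · obtain ⟨z, hz⟩ := (hmemZ1 x).1 hx
      rw [hmemZ1]
      obtain ⟨z', hz'⟩ := h3 ⟨α, hα⟩ z
      exact ⟨z', by rw [← hz', ← hz, hρ]⟩
    · have h5 := hQZ hx
      have h6 := h4 _ (hQ'mem ⟨x, hQM hx⟩ hx)
      exact ⟨h5.1, h5.2.1, h5.2.2, h6⟩
  · right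
    refine ⟨fun α hα x hx => ?_, fun x hx => ?_⟩
    · obtain ⟨z, hz⟩ := (hmemKu x).1 hx
      rw [hmemKu]
      obtain ⟨z', hz'⟩ := h3 ⟨α, hα⟩ z
      exact ⟨z', by rw [← hz', ← hz, hρ]⟩
    · exact h4 _ (hQ'mem ⟨x, hQM hx⟩ hx)

/-- **Coordinates in which `Z₁` is invariant.** -/
theorem SpC.exists_coords [Finite K] [CharP K 2] [Finite S] (C : SpC S K) (hS : IsPGroup 2 S)
    {F : FusionSystem S} (hF : F.IsSaturated 2) (hcore : F.core ≠ ⊥)
    (hnc : ¬ ∃ Q : Subgroup Ω, F.IsNormal Q ∧ F.IsCentric Q) :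
    ∃ C : SpC S K, F.IsEssential 2 C.M ∧ F.IsEssential 2 (C.L 0) ∧
      (∀ α ∈ F.autGroup C.M, ∀ x : C.M, (x : Ω) ∈ C.Z1 → ((α x : C.M) : Ω) ∈ C.Z1) ∧
      (∀ α ∈ F.autGroup (C.L 0), ∀ x : C.L 0, (x : Ω) ∈ C.Z1 → ((α x : C.L 0) : Ω) ∈ C.Z1) := by
  have h2 : (2 : K) = 0 := two_eq_zero
  obtain ⟨hM, hL, hQZ⟩ := C.two_reduction h2 hS hF hnc
  have hQs : F.StronglyClosed F.core := H759.IsNormal.stronglyClosed H759.isNormal_core
  obtain ⟨q, hq, hq1⟩ : ∃ q ∈ F.core, q ≠ 1 := by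
    by_contra hcon
    push Not at hcon
    exact hcore ((Subgroup.eq_bot_iff_forall _).2 hcon)
  have h3 := C.two_U hS hF hM hQs hcore hQZ
  have h4 := C.swap.two_U hS hF (by rw [C.swap_M]; exact hL) hQs hcore (by rw [C.swap_Z2]; exact hQZ)
  have hnot : ∀ x, x ∈ C.Z1 → C.z x = 0 → x = 1 := by
    intro x hx hz
    apply C.inj hx.1 S.one_mem
    · rw [hx.2.1, C.t_one]
    · rw [hx.2.2.1, C.s_one]
    · rw [hx.2.2.2, C.u_one]
    · rw [hz, C.z_one]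
  rcases h3 with ⟨h3, h3'⟩ | ⟨h3, h3'⟩ <;> rcases h4 with ⟨h4, h4'⟩ | ⟨h4, h4'⟩
  · exact (hq1 (hnot q (h3' hq) (C.mem_swap_Z1.1 (h4' hq)).2)).elim
  · refine ⟨C, hM, hL, h3, ?_⟩
    have key : ∀ P : Subgroup Ω, P = C.L 0 → (∀ α ∈ F.autGroup P, ∀ x : P, ((x : Ω) ∈ C.swap.Z2 ∧ C.swap.z x = 0) →
        (((α x : P) : Ω) ∈ C.swap.Z2 ∧ C.swap.z (α x : P) = 0)) →
        ∀ α ∈ F.autGroup (C.L 0), ∀ x : C.L 0, (x : Ω) ∈ C.Z1 → ((α x : C.L 0) : Ω) ∈ C.Z1 := by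
      rintro P rfl h α hα x hx
      rw [← C.swap_z_iff] at hx ⊢
      exact h α hα x hx
    exact key _ C.swap_M h4
  · refine ⟨C.swap, by rw [C.swap_M]; exact hL, by rw [C.swap_L]; exact hM, h4, ?_⟩
    have key : ∀ P : Subgroup Ω, P = C.M → ∀ α ∈ F.autGroup P, ∀ x : P,
        (x : Ω) ∈ C.swap.Z1 → ((α x : P) : Ω) ∈ C.swap.Z1 := by
      rintro P rfl α hα x hx
      rw [C.mem_swap_Z1] at hx ⊢
      exact h3 α hα x hx
    exact key _ C.swap_L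
  · have h5 : q ∈ C.Z1 := C.swap_z_iff.1 ⟨by rw [C.swap_Z2]; exact hQZ hq, h4' q hq⟩
    exact (hq1 (hnot q h5 (h3' q hq))).elim

end Cfsg.Agent.H780
end

-- part: H780/SpSide
section
/-!
# `p = 2`: the two sides (helper780)
-/

set_option autoImplicit false
set_option linter.unusedSectionVars false

universe u v

namespace Cfsg.Agent.H780

open Cfsg Cfsg.FusionSystem Cfsg.Agent.H802

variable {Ω : Type u} [Group Ω] {S : Subgroup Ω} {K : Type v} [Field K]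

/-- The common properties of `M` and `L₀` (in characteristic two). -/
structure Side (S : Subgroup Ω) (P Z1 Z2 : Subgroup Ω) (σ τ w : Ω → K) : Prop where
  σ_mul : ∀ {x y}, x ∈ S → y ∈ S → σ (x * y) = σ x + σ y
  τ_mul : ∀ {x y}, x ∈ S → y ∈ S → τ (x * y) = τ x + τ y
  w_mul : ∀ {x y}, x ∈ P → y ∈ P → w (x * y) = w x + w y
  memP : ∀ {x}, x ∈ P ↔ x ∈ S ∧ τ x = 0
  memZ2 : ∀ {x}, x ∈ Z2 ↔ x ∈ S ∧ τ x = 0 ∧ σ x = 0
  memZ1 : ∀ {x}, x ∈ Z1 ↔ x ∈ S ∧ τ x = 0 ∧ σ x = 0 ∧ w x = 0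
  σ_conj : ∀ {g x}, g ∈ S → x ∈ S → σ (g * x * g⁻¹) = σ x
  τ_conj : ∀ {g x}, g ∈ S → x ∈ S → τ (g * x * g⁻¹) = τ x
  w_conj : ∀ {g x}, g ∈ S → x ∈ P → w (g * x * g⁻¹) = w x + τ g * σ x
  surj : ∀ a b c : K, ∃ x ∈ S, σ x = a ∧ τ x = b ∧ w x = c
  comm : ∀ {x y}, x ∈ Z2 → y ∈ S → x * y = y * x
  cen : ∀ {x}, x ∈ S → (∀ y ∈ S, x * y = y * x) → x ∈ Z2

/-- What is obtained for the two sides. -/
structure SideConc (F : FusionSystem S) (P Z1 Z2 : Subgroup Ω) (σ τ w : Ω → K) : Prop where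
  torus : ∀ c : K, c ≠ 0 → ∃ β ∈ F.autGroup S, (∀ x : S, (x : Ω) ∈ Z1 → β x = x) ∧
    (∀ x : S, (x : Ω) ∈ P → w (β x : S) = c * w x) ∧ (∀ x : S, σ (β x : S) = c⁻¹ * σ x) ∧
    (∀ x : S, τ (β x : S) = c ^ 2 * τ x)
  n : ∃ n ∈ F.autGroup P, (∀ x : P, (x : Ω) ∈ Z1 → n x = x) ∧
    ∀ x : P, σ (n x : P) = w x ∧ w (n x : P) = σ x
  spread : ∀ α ∈ F.autGroup P, (∀ x : P, (x : Ω) ∈ Z2 → ((α x : P) : Ω) ∈ Z2) ∨
    ∃ r : K, ∀ x : P, (x : Ω) ∈ Z2 → w (α x : P) = r * σ (α x : P)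
  ext : ∀ α ∈ F.autGroup P, (∀ x : P, (x : Ω) ∈ Z2 → ((α x : P) : Ω) ∈ Z2) →
    ∃ β ∈ F.autGroup S, ∀ (x : Ω) (hx : x ∈ P) (hx' : x ∈ S), ((β ⟨x, hx'⟩ : S) : Ω) = (α ⟨x, hx⟩ : P)

theorem SpC.side_M [Finite K] [CharP K 2] (C : SpC S K) : Side S C.M C.Z1 C.Z2 C.s C.t C.u where
  σ_mul := fun hx hy => C.s_mul hx hy
  τ_mul := fun hx hy => C.t_mul hx hy
  w_mul := fun {x y} hx hy => by rw [C.u_mul hx.1 hy.1, hx.2]; ring
  memP := Iff.rfl
  memZ2 := Iff.rfl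
  memZ1 := Iff.rfl
  σ_conj := fun hg hx => C.s_conj hg hx
  τ_conj := fun hg hx => C.t_conj hg hx
  w_conj := fun {g x} hg hx => by rw [C.u_conj hg hx.1, hx.2]; ring
  surj := fun a b c => by
    obtain ⟨x, hx, h1, h2, h3, -⟩ := C.surj b a c 0
    exact ⟨x, hx, h2, h1, h3⟩
  comm := fun hx hy => C.Z2_comm two_eq_zero hx hy
  cen := fun hx h => C.mem_Z2_of_comm hx h

theorem SpC.side_L [Finite K] [CharP K 2] (C : SpC S K) : Side S (C.L 0) C.Z1 C.Z2 C.t C.s C.u where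
  σ_mul := fun hx hy => C.t_mul hx hy
  τ_mul := fun hx hy => C.s_mul hx hy
  w_mul := fun {x y} hx hy => by
    rw [C.mem_L0] at hx hy
    rw [C.u_mul hx.1 hy.1, hy.2]; ring
  memP := C.mem_L0
  memZ2 := fun {x} => by
    rw [C.mem_Z2]; tauto
  memZ1 := fun {x} => by
    rw [C.mem_Z1]; tauto
  σ_conj := fun hg hx => C.t_conj hg hx
  τ_conj := fun hg hx => C.s_conj hg hx
  w_conj := fun {g x} hg hx => by
    rw [C.mem_L0] at hx
    rw [C.u_conj hg hx.1, hx.2]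
    linear_combination (-C.t x * C.s g) * (two_eq_zero : (2 : K) = 0)
  surj := fun a b c => by
    obtain ⟨x, hx, h1, h2, h3, -⟩ := C.surj a b c 0
    exact ⟨x, hx, h1, h2, h3⟩
  comm := fun hx hy => C.Z2_comm two_eq_zero hx hy
  cen := fun hx h => C.mem_Z2_of_comm hx h

section

variable [Finite S] {P Z1 Z2 : Subgroup Ω} {σ τ w : Ω → K} {F : FusionSystem S}

theorem Side.P_le (hs : Side S P Z1 Z2 σ τ w) : P ≤ S := fun _ hx => (hs.memP.1 hx).1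

theorem Side.Z2_le (hs : Side S P Z1 Z2 σ τ w) : Z2 ≤ P := fun _ hx =>
  hs.memP.2 ⟨(hs.memZ2.1 hx).1, (hs.memZ2.1 hx).2.1⟩

theorem Side.Z1_le (hs : Side S P Z1 Z2 σ τ w) : Z1 ≤ Z2 := fun _ hx =>
  hs.memZ2.2 ⟨(hs.memZ1.1 hx).1, (hs.memZ1.1 hx).2.1, (hs.memZ1.1 hx).2.2.1⟩

theorem Side.conj_mem (hs : Side S P Z1 Z2 σ τ w) {g x : Ω} (hg : g ∈ S) (hx : x ∈ P) :
    g * x * g⁻¹ ∈ P := by
  rw [hs.memP] at hx ⊢
  exact ⟨S.mul_mem (S.mul_mem hg hx.1) (S.inv_mem hg), by rw [hs.τ_conj hg hx.1, hx.2]⟩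

theorem Side.normalizer (hs : Side S P Z1 Z2 σ τ w) {g : Ω} (hg : g ∈ S) :
    g ∈ Subgroup.normalizer (P : Set Ω) := by
  rw [Subgroup.mem_normalizer_iff]
  intro x
  refine ⟨fun hx => hs.conj_mem hg hx, fun hx => ?_⟩
  have h1 := hs.conj_mem (S.inv_mem hg) hx
  have h2 : g⁻¹ * (g * x * g⁻¹) * g⁻¹⁻¹ = x := by group
  rwa [h2] at h1

/-- An element of `Aut_F(P)` preserving `Z₂` normalizes `Aut_S(P)`. -/
theorem Side.normalizes (hs : Side S P Z1 Z2 σ τ w) (hS : IsPGroup 2 S)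
    (hPa : F.IsFullyAutomized 2 P) {α : MulAut P} (hα : α ∈ F.autGroup P)
    (h : ∀ x : P, (x : Ω) ∈ Z2 → ((α x : P) : Ω) ∈ Z2) :
    ∀ u ∈ autInducedBy S P, α * u * α⁻¹ ∈ autInducedBy S P := by
  have hfP : Finite P := finite_of_le hs.P_le
  let c : ℕ → Subgroup P := fun i => match i with
    | 0 => ⊤
    | 1 => Z2.subgroupOf P
    | _ => ⊥
  have hanti : ∀ i, c (i + 1) ≤ c i := by
    rintro (_ | _ | i)
    · exact le_top
    · exact bot_le
    · exact le_rfl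
  have hNp : IsPGroup 2 (chainStab (F.autGroup P) 2 c hanti rfl) :=
    chainStab_isPGroup (hS.to_le hs.P_le) _ 2 c hanti rfl rfl
  have hNmem : ∀ κ, κ ∈ chainStab (F.autGroup P) 2 c hanti rfl ↔ κ ∈ F.autGroup P ∧
      (∀ x : P, ((x⁻¹ * κ x : P) : Ω) ∈ Z2) ∧ ∀ x : P, (x : Ω) ∈ Z2 → κ x = x := by
    intro κ
    rw [mem_chainStab]
    constructor
    · rintro ⟨h1, h2⟩
      refine ⟨h1, fun x => h2 0 (by norm_num) x (Subgroup.mem_top x), fun x hx => ?_⟩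
      have h3 : x⁻¹ * κ x ∈ (⊥ : Subgroup P) := h2 1 (by norm_num) x hx
      exact (inv_mul_eq_one.1 (Subgroup.mem_bot.1 h3)).symm
    · rintro ⟨h1, h2, h3⟩
      refine ⟨h1, ?_⟩
      rintro (_ | _ | i) hi x hx
      · exact h2 x
      · have h4 : κ x = x := h3 x hx
        rw [h4, inv_mul_cancel]
        exact Subgroup.one_mem _
      · omega
  have hT : ∀ u ∈ autInducedBy S P, (∀ x : P, ((x⁻¹ * u x : P) : Ω) ∈ Z2) ∧
      ∀ x : P, (x : Ω) ∈ Z2 → u x = x := by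
    intro u hu
    obtain ⟨g, hg, hgu⟩ := (mem_autInducedBy_iff S P u).1 hu
    constructor
    · intro x
      have hxP := hs.memP.1 x.2
      have hy : ((u x : P) : Ω) ∈ S := hs.P_le (u x).2
      have h3 : ((x⁻¹ * u x : P) : Ω) = (x : Ω)⁻¹ * (u x : P) := rfl
      have hσi : σ (x : Ω)⁻¹ + σ x = 0 := by
        rw [← hs.σ_mul (S.inv_mem hxP.1) hxP.1, inv_mul_cancel]
        have h9 := hs.σ_mul S.one_mem S.one_mem
        rw [mul_one] at h9
        simpa using h9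
      rw [h3, hs.memZ2]
      have h4 : (x : Ω)⁻¹ * (u x : P) ∈ P := P.mul_mem (P.inv_mem x.2) (u x).2
      refine ⟨(hs.memP.1 h4).1, (hs.memP.1 h4).2, ?_⟩
      rw [hs.σ_mul (S.inv_mem hxP.1) hy, hgu, hs.σ_conj hg hxP.1]
      exact hσi
    · intro x hx
      apply Subtype.ext
      rw [hgu, ← hs.comm hx hg, mul_inv_cancel_right]
  have hTN : autInducedBy S P ≤ chainStab (F.autGroup P) 2 c hanti rfl := by
    intro u hu
    rw [hNmem]
    exact ⟨autInducedBy_le_autGroup F hs.P_le hu, (hT u hu).1, (hT u hu).2⟩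
  have hNT := le_autInducedBy_of_le hPa (fun κ hκ => ((hNmem κ).1 hκ).1) hNp hTN
  -- `α⁻¹` preserves `Z₂`
  have hinv : ∀ x : P, (x : Ω) ∈ Z2 → ((α⁻¹ x : P) : Ω) ∈ Z2 := by
    have h1 : (Z2.subgroupOf P).map α.toMonoidHom = Z2.subgroupOf P := by
      apply Subgroup.eq_of_le_of_card_ge
      · rintro _ ⟨x, hx, rfl⟩
        exact h x hx
      · rw [Subgroup.card_map_of_injective α.injective]
    intro x hx
    have h2 : x ∈ (Z2.subgroupOf P).map α.toMonoidHom := by rw [h1]; exact hx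
    obtain ⟨y, hy, rfl⟩ := h2
    have h3 : α⁻¹ (α.toMonoidHom y) = y := α.symm_apply_apply y
    rw [h3]
    exact hy
  intro u hu
  apply hNT
  rw [hNmem]
  refine ⟨Subgroup.mul_mem _ (Subgroup.mul_mem _ hα (autInducedBy_le_autGroup F hs.P_le hu))
    (Subgroup.inv_mem _ hα), fun x => ?_, fun x hx => ?_⟩
  · have h1 := h _ ((hT u hu).1 (α⁻¹ x))
    have h2 : α ((α⁻¹ x)⁻¹ * u (α⁻¹ x)) = x⁻¹ * (α * u * α⁻¹) x := by
      rw [map_mul, map_inv]
      have h3 : α (α⁻¹ x) = x := α.apply_symm_apply x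
      rw [h3]
      rfl
    rw [h2] at h1
    exact h1
  · rw [MulAut.mul_apply, MulAut.mul_apply, (hT u hu).2 _ (hinv x hx)]
    exact α.apply_symm_apply x

/-- **The main statement about a side.** -/
theorem Side.main [Finite K] [CharP K 2] (hs : Side S P Z1 Z2 σ τ w) (hS : IsPGroup 2 S)
    (hF : F.IsSaturated 2) (hP : F.IsEssential 2 P)
    (hZ1 : ∀ α ∈ F.autGroup P, ∀ x : P, (x : Ω) ∈ Z1 → ((α x : P) : Ω) ∈ Z1)
    (hother : ∀ β ∈ F.autGroup S, ∀ x : S, σ x = 0 → σ (β x : S) = 0) :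
    ∃ f : K →+ K, ∀ w' : Ω → K, (∀ x ∈ P, w' x = w x + f (σ x)) → SideConc F P Z1 Z2 σ τ w' := by
  have h2 : (2 : K) = 0 := two_eq_zero
  have hPS := hs.P_le
  have hfP : Finite P := finite_of_le hPS
  have hPa := isFullyAutomized_of_isFullyNormalized hS hF hP.2.1
  have hPr := isReceptive_of_isFullyNormalized hS hF hP.2.1
  have hZP : Z1 ≤ P := hs.Z1_le.trans hs.Z2_le
  have hnormP : ∀ g ∈ S, ∀ x ∈ P, g * x * g⁻¹ ∈ P := fun g hg x hx => hs.conj_mem hg hx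
  -- the projection
  let π : P → K × K := fun x => (σ x, w x)
  have hπ : ∀ x y, π (x * y) = π x + π y := by
    intro x y
    ext
    · exact hs.σ_mul (hPS x.2) (hPS y.2)
    · exact hs.w_mul x.2 y.2
  have hπs : Function.Surjective π := by
    rintro ⟨a, b⟩
    obtain ⟨x, hx, h3, h4, h5⟩ := hs.surj a 0 b
    exact ⟨⟨x, hs.memP.2 ⟨hx, h4⟩⟩, Prod.ext h3 h5⟩
  have hπ0 : ∀ x : P, π x = 0 ↔ (x : Ω) ∈ Z1 := by
    intro x
    constructor
    · intro h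
      exact hs.memZ1.2 ⟨hPS x.2, (hs.memP.1 x.2).2, congrArg Prod.fst h, congrArg Prod.snd h⟩
    · intro h
      have h3 := hs.memZ1.1 h
      exact Prod.ext h3.2.2.1 h3.2.2.2
  have hconjπ : ∀ g ∈ S, ∀ (x y : P), (y : Ω) = g * x * g⁻¹ → π y = theta (τ g) (π x) := by
    intro g hg x y hy
    ext
    · show σ y = σ x
      rw [hy, hs.σ_conj hg (hPS x.2)]
    · show w y = w x + τ g * σ x
      rw [hy, hs.w_conj hg x.2]
  -- the group `G`
  let G : Subgroup (MulAut P) :=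
    { carrier := {α | α ∈ F.autGroup P ∧ ∀ x : P, (x : Ω) ∈ Z1 → α x = x}
      one_mem' := ⟨Subgroup.one_mem _, fun x _ => rfl⟩
      mul_mem' := by
        rintro a b ⟨ha, ha1⟩ ⟨hb, hb1⟩
        exact ⟨Subgroup.mul_mem _ ha hb, fun x hx => by rw [MulAut.mul_apply, hb1 x hx, ha1 x hx]⟩
      inv_mem' := by
        rintro a ⟨ha, ha1⟩
        refine ⟨Subgroup.inv_mem _ ha, fun x hx => ?_⟩
        have h3 := ha1 x hx
        calc a⁻¹ x = a⁻¹ (a x) := by rw [h3]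
          _ = x := a.symm_apply_apply x }
  have hG : G ≤ F.autGroup P := fun α hα => hα.1
  have hTG : autInducedBy S P ≤ G := by
    intro u hu
    refine ⟨autInducedBy_le_autGroup F hPS hu, fun x hx => ?_⟩
    obtain ⟨g, hg, hgu⟩ := (mem_autInducedBy_iff S P u).1 hu
    apply Subtype.ext
    rw [hgu, ← hs.comm (hs.Z1_le hx) hg, mul_inv_cancel_right]
  have hconjG : ∀ α ∈ F.autGroup P, ∀ u ∈ autInducedBy S P, α * u * α⁻¹ ∈ G := by
    intro α hα u hu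
    refine ⟨Subgroup.mul_mem _ (Subgroup.mul_mem _ hα (hG (hTG hu))) (Subgroup.inv_mem _ hα),
      fun x hx => ?_⟩
    rw [MulAut.mul_apply, MulAut.mul_apply, (hTG hu).2 _ (hZ1 α⁻¹ (Subgroup.inv_mem _ hα) x hx)]
    exact α.apply_symm_apply x
  have hnn : ¬ ∀ g ∈ G, ∀ u ∈ autInducedBy S P, g * u * g⁻¹ ∈ autInducedBy S P := by
    intro h
    apply not_normal_of_isEssential hS hF hP
    intro α hα
    exact conj_mem_of_normal hS hPa hG hTG h (hconjG α hα)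
  obtain ⟨f, hf1, hf2, hf3⟩ := sl2_situation sl2Prop hS hPa hG hTG π hπ hπs
    (fun α hα x hx => hα.2 x ((hπ0 x).1 hx))
    (fun u hu => by
      obtain ⟨g, hg, hgu⟩ := (mem_autInducedBy_iff S P u).1 hu
      exact ⟨_, fun x => hconjπ g hg x (u x) (hgu x)⟩)
    (fun r => by
      obtain ⟨g, hg, -, h4, -⟩ := hs.surj 0 r 0
      obtain ⟨u, hu⟩ := exists_conjAut (hs.normalizer hg)
      refine ⟨u, (mem_autInducedBy_iff S P u).2 ⟨g, hg, hu⟩, fun x => ?_⟩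
      rw [hconjπ g hg x (u x) (hu x), h4]) hnn
  refine ⟨f, fun w' hw' => ?_⟩
  have hdbl : ∀ a : K, a + a = 0 := fun a => by linear_combination a * h2
  refine ⟨fun c hc => ?_, ?_, ?_, ?_⟩
  · -- the torus
    obtain ⟨h, hh, hh1, hh2⟩ := hf1 c hc
    obtain ⟨β, hβ, hβe⟩ := exists_extension_top hPr hnormP (hG hh) hh2
    have hβP : ∀ (x : P), β ⟨x, hPS x.2⟩ = ⟨h x, hPS (h x).2⟩ := fun x =>
      Subtype.ext (hβe x x.2 (hPS x.2))
    have hσP : ∀ x : P, σ (h x : P) = c⁻¹ * σ x := fun x => congrArg Prod.fst (hh1 x)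
    have hwP : ∀ x : P, w' (h x : P) = c * w' x := by
      intro x
      have h3 : w (h x : P) = c * (w x - f (σ x)) + f (c⁻¹ * σ x) := congrArg Prod.snd (hh1 x)
      rw [hw' _ (h x).2, hw' _ x.2, h3, hσP]
      linear_combination (f (c⁻¹ * σ x) - c * f (σ x)) * h2
    refine ⟨β, hβ, fun x hx => ?_, fun x hx => ?_, fun x => ?_, fun g => ?_⟩
    · have h4 := hβP ⟨x, hZP hx⟩
      have h5 := hh.2 ⟨x, hZP hx⟩ hx
      rw [h5] at h4
      exact h4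
    · have h4 : β x = _ := hβP ⟨x, hx⟩
      rw [h4]
      exact hwP ⟨x, hx⟩
    · obtain ⟨l, hl, h3, h4, -⟩ := hs.surj (σ x) 0 0
      have hlP : l ∈ P := hs.memP.2 ⟨hl, h4⟩
      have hxl : x * (⟨l, hl⟩ : S)⁻¹ * ⟨l, hl⟩ = x := by group
      have h0 : σ ((x * (⟨l, hl⟩ : S)⁻¹ : S) : Ω) = 0 := by
        have h5 := hs.σ_mul (x * (⟨l, hl⟩ : S)⁻¹).2 hl
        have h6 : ((x * (⟨l, hl⟩ : S)⁻¹ : S) : Ω) * l = x := by
          show (x : Ω) * l⁻¹ * l = x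
          group
        rw [h6, h3] at h5
        exact left_eq_add.1 (by rw [add_comm]; exact h5)
      have h5 := hother β hβ _ h0
      have h7 : (β ⟨l, hl⟩ : S) = ⟨h ⟨l, hlP⟩, hPS (h ⟨l, hlP⟩).2⟩ := hβP ⟨l, hlP⟩
      have h8 : (β x : S) = β (x * (⟨l, hl⟩ : S)⁻¹) * β ⟨l, hl⟩ := by rw [← map_mul, hxl]
      rw [h8]
      show σ ((β (x * (⟨l, hl⟩ : S)⁻¹) : S) * (β ⟨l, hl⟩ : S) : Ω) = _
      rw [hs.σ_mul (β _).2 (β _).2, h5, h7, zero_add, ← h3]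
      exact hσP ⟨l, hlP⟩
    · obtain ⟨x, hx, h3, h4, -⟩ := hs.surj 1 0 0
      have hxP : x ∈ P := hs.memP.2 ⟨hx, h4⟩
      have hy : (g : Ω) * x * (g : Ω)⁻¹ ∈ P := hnormP g g.2 x hxP
      have h6 : ((h ⟨_, hy⟩ : P) : Ω) = (β g : S) * (h ⟨x, hxP⟩ : P) * ((β g : S) : Ω)⁻¹ := by
        have h7 : (β (g * ⟨x, hx⟩ * g⁻¹) : S) = β g * β ⟨x, hx⟩ * (β g)⁻¹ := by
          rw [map_mul, map_mul, map_inv]
        have h8 := congrArg Subtype.val h7
        have h9 : β ⟨x, hx⟩ = _ := hβP ⟨x, hxP⟩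
        have h10 : β (g * ⟨x, hx⟩ * g⁻¹) = _ := hβP ⟨_, hy⟩
        rw [h10, h9] at h8
        exact h8
      have h7 : w' ((h ⟨_, hy⟩ : P) : Ω) = w' (h ⟨x, hxP⟩ : P) + τ (β g : S) * σ (h ⟨x, hxP⟩ : P) := by
        rw [hw' _ (h ⟨_, hy⟩).2, h6, hs.w_conj (β g).2 (h ⟨x, hxP⟩).2,
          hs.σ_conj (β g).2 (hPS (h ⟨x, hxP⟩).2), hw' _ (h ⟨x, hxP⟩).2]
        ring
      rw [hwP, hwP, hσP] at h7
      have h8 : w' ((g : Ω) * x * (g : Ω)⁻¹) = w' x + τ g * σ x := by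
        rw [hw' _ hy, hs.w_conj g.2 hxP, hs.σ_conj g.2 hx, hw' _ hxP]
        ring
      have h9 : c * w' ((g : Ω) * x * (g : Ω)⁻¹) = c * w' x + τ (β g : S) * (c⁻¹ * σ x) := h7
      rw [h8, h3] at h9
      have h10 : c * τ g = τ (β g : S) * c⁻¹ := by linear_combination h9
      calc τ (β g : S) = (τ (β g : S) * c⁻¹) * c := by field_simp
        _ = c ^ 2 * τ g := by rw [← h10]; ring
  · -- the reflection
    obtain ⟨n, hn, hn1⟩ := hf2 1 one_ne_zero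
    refine ⟨n, hG hn, hn.2, fun x => ?_⟩
    have h3 : σ (n x : P) = (w x - f (σ x)) / 1 := congrArg Prod.fst (hn1 x)
    have h4 : w (n x : P) = f ((w x - f (σ x)) / 1) - 1 * σ x := congrArg Prod.snd (hn1 x)
    have h5 : σ (n x : P) = w' x := by
      rw [h3, hw' _ x.2, div_one]
      linear_combination (-f (σ x)) * h2
    refine ⟨h5, ?_⟩
    rw [hw' _ (n x).2, h4, ← h3]
    linear_combination (f (σ (n x : P)) - σ x) * h2
  · -- the spread
    intro α hα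
    obtain ⟨R, hR⟩ := exists_sylow_of_le hS hPa hG hTG
    set H : Subgroup (MulAut P) := (autInducedBy S P).map (MulAut.conj α).toMonoidHom with hH
    have hHG : H ≤ G := by
      rintro _ ⟨u, hu, rfl⟩
      exact hconjG α hα u hu
    have hHp : IsPGroup 2 H := (isPGroup_autInducedBy hS P).map _
    obtain ⟨R', hR'⟩ := (hHp.of_equiv (Subgroup.subgroupOfEquivOfLe hHG).symm).exists_le_sylow
    obtain ⟨g, hg⟩ := MulAction.exists_smul_eq G R R'
    set γ : MulAut P := g.1⁻¹ * α with hγdef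
    have hγ : ∀ u ∈ autInducedBy S P, γ * u * γ⁻¹ ∈ autInducedBy S P := by
      intro u hu
      have h3 : (⟨α * u * α⁻¹, hconjG α hα u hu⟩ : G) ∈ (R' : Subgroup G) := hR' ⟨u, hu, rfl⟩
      rw [← hg, Sylow.coe_subgroup_smul] at h3
      obtain ⟨v, hv, hve⟩ := Subgroup.mem_smul_pointwise_iff_exists _ _ _ |>.1 h3
      rw [hR] at hv
      have h4 : ((MulAut.conj g • v : G) : MulAut P) = α * u * α⁻¹ := congrArg Subtype.val hve
      have h5 : g.1 * v.1 * g.1⁻¹ = α * u * α⁻¹ := h4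
      have h6 : γ * u * γ⁻¹ = v.1 := by
        rw [hγdef]
        calc g.1⁻¹ * α * u * (g.1⁻¹ * α)⁻¹ = g.1⁻¹ * (α * u * α⁻¹) * g.1 := by group
          _ = v.1 := by rw [← h5]; group
      rw [h6]
      exact hv
    have hγ' : ∀ u ∈ autInducedBy S P, γ⁻¹ * u * γ ∈ autInducedBy S P := by
      have h1 : (autInducedBy S P).map (MulAut.conj γ).toMonoidHom = autInducedBy S P := by
        apply Subgroup.eq_of_le_of_card_ge
        · rintro _ ⟨x, hx, rfl⟩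
          exact hγ x hx
        · rw [Subgroup.card_map_of_injective (MulAut.conj γ).injective]
      intro u hu
      rw [← h1] at hu
      obtain ⟨v, hv, rfl⟩ := hu
      have h3 : γ⁻¹ * ((MulAut.conj γ).toMonoidHom v) * γ = v := by
        show γ⁻¹ * (γ * v * γ⁻¹) * γ = v
        group
      rw [h3]
      exact hv
    -- `γ` preserves `Z₂`
    have h3 : ∀ x : P, (x : Ω) ∈ Z2 → ((γ x : P) : Ω) ∈ Z2 := by
      intro x hx
      refine hs.cen (hPS (γ x).2) fun y hy => ?_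
      obtain ⟨u, hu⟩ := exists_conjAut (hs.normalizer hy)
      have hu' : u ∈ autInducedBy S P := (mem_autInducedBy_iff S P u).2 ⟨y, hy, hu⟩
      have h5 : u (γ x) = γ x := by
        obtain ⟨z, hz, hzu⟩ := (mem_autInducedBy_iff S P _).1 (hγ' u hu')
        have h6 : (γ⁻¹ * u * γ) x = x := by
          apply Subtype.ext
          rw [hzu, ← hs.comm hx hz, mul_inv_cancel_right]
        have h7 : γ ((γ⁻¹ * u * γ) x) = u (γ x) := by
          rw [MulAut.mul_apply, MulAut.mul_apply]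
          exact γ.apply_symm_apply _
        rw [← h7, h6]
      have h6 := hu (γ x)
      rw [h5] at h6
      calc ((γ x : P) : Ω) * y = (y * (γ x : P) * y⁻¹) * y := by rw [← h6]
        _ = y * (γ x : P) := by group
    have h4 : ∀ x : P, α x = g.1 (γ x) := by
      intro x
      rw [hγdef, MulAut.mul_apply]
      exact (g.1.apply_symm_apply _).symm
    rcases hf3 g.1 g.2 with h5 | ⟨r, h5⟩
    · left
      intro x hx
      rw [h4 x]
      have h6 : σ (γ x : P) = 0 := (hs.memZ2.1 (h3 x hx)).2.2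
      have h7 : σ (g.1 (γ x) : P) = 0 := h5 (γ x) h6
      exact hs.memZ2.2 ⟨hPS (g.1 (γ x)).2, (hs.memP.1 (g.1 (γ x)).2).2, h7⟩
    · right
      refine ⟨r, fun x hx => ?_⟩
      rw [h4 x]
      have h6 : σ (γ x : P) = 0 := (hs.memZ2.1 (h3 x hx)).2.2
      have h7 : w (g.1 (γ x) : P) = f (σ (g.1 (γ x) : P)) + r * σ (g.1 (γ x) : P) := h5 (γ x) h6
      rw [hw' _ (g.1 (γ x)).2, h7]
      linear_combination (f (σ (g.1 (γ x) : P))) * h2
  · -- the extensions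
    intro α hα h
    exact exists_extension_top hPr hnormP hα (hs.normalizes hS hPa hα h)

end

end Cfsg.Agent.H780
end

-- part: H780/SpShift
section
/-!
# `p = 2`: normalized coordinates (helper780)
-/

set_option autoImplicit false
set_option linter.unusedSectionVars false

universe u v

namespace Cfsg.Agent.H780

open Cfsg Cfsg.FusionSystem Cfsg.Agent.H802

variable {Ω : Type u} [Group Ω] {S : Subgroup Ω} {K : Type v} [Field K]

/-- Change of the coordinate `u` by additive maps. -/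
def SpC.shift [CharP K 2] (C : SpC S K) (f g : K →+ K) : SpC S K where
  t := C.t
  s := C.s
  u x := C.u x + f (C.s x) + g (C.t x)
  z := C.z
  t_mul := C.t_mul
  s_mul := C.s_mul
  u_mul := fun {x y} hx hy => by
    rw [C.u_mul hx hy, C.s_mul hx hy, C.t_mul hx hy, map_add, map_add]
    ring
  z_mul := fun {x y} hx hy => by
    rw [C.z_mul hx hy, (two_eq_zero : (2 : K) = 0)]
    ring
  inj := fun {x y} hx hy h1 h2 h3 h4 => by
    rw [h1, h2] at h3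
    exact C.inj hx hy h1 h2 (add_right_cancel (add_right_cancel h3)) h4
  surj := fun a b c d => by
    obtain ⟨x, hx, h1, h2, h3, h4⟩ := C.surj a b (c - f b - g a) d
    exact ⟨x, hx, h1, h2, by rw [h1, h2, h3]; ring, h4⟩

theorem SpC.shift_Z1 [CharP K 2] (C : SpC S K) (f g : K →+ K) : (C.shift f g).Z1 = C.Z1 := by
  ext x
  show x ∈ S ∧ C.t x = 0 ∧ C.s x = 0 ∧ C.u x + f (C.s x) + g (C.t x) = 0 ↔
    x ∈ S ∧ C.t x = 0 ∧ C.s x = 0 ∧ C.u x = 0
  constructor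
  · rintro ⟨h1, h2, h3, h4⟩
    rw [h2, h3, map_zero, map_zero, add_zero, add_zero] at h4
    exact ⟨h1, h2, h3, h4⟩
  · rintro ⟨h1, h2, h3, h4⟩
    refine ⟨h1, h2, h3, ?_⟩
    rw [h2, h3, h4, map_zero, map_zero, add_zero, add_zero]

/-- **Normalized coordinates.** -/
theorem SpC.exists_sides [Finite K] [CharP K 2] [Finite S] (C : SpC S K) (hS : IsPGroup 2 S)
    {F : FusionSystem S} (hF : F.IsSaturated 2) (hcore : F.core ≠ ⊥)
    (hnc : ¬ ∃ Q : Subgroup Ω, F.IsNormal Q ∧ F.IsCentric Q) :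
    ∃ C : SpC S K, F.IsEssential 2 C.M ∧ F.IsEssential 2 (C.L 0) ∧
      (∀ α ∈ F.autGroup C.M, ∀ x : C.M, (x : Ω) ∈ C.Z1 → ((α x : C.M) : Ω) ∈ C.Z1) ∧
      (∀ α ∈ F.autGroup (C.L 0), ∀ x : C.L 0, (x : Ω) ∈ C.Z1 → ((α x : C.L 0) : Ω) ∈ C.Z1) ∧
      SideConc F C.M C.Z1 C.Z2 C.s C.t C.u ∧ SideConc F (C.L 0) C.Z1 C.Z2 C.t C.s C.u := by
  have h2 : (2 : K) = 0 := two_eq_zero
  obtain ⟨C, hM, hL, h3, h4⟩ := C.exists_coords hS hF hcore hnc
  obtain ⟨f, hf⟩ := C.side_M.main hS hF hM h3 (fun β hβ x hx =>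
    ((C.mem_L0).1 ((C.inv_two h2 hS hF hβ).2 x (C.mem_L0.2 ⟨x.2, hx⟩))).2)
  obtain ⟨g, hg⟩ := C.side_L.main hS hF hL h4 (fun β hβ x hx =>
    ((C.inv_two h2 hS hF hβ).1 x ⟨x.2, hx⟩).2)
  refine ⟨C.shift f g, hM, hL, ?_, ?_, ?_, ?_⟩
  · intro α hα x hx
    rw [C.shift_Z1] at hx ⊢
    exact h3 α hα x hx
  · intro α hα x hx
    rw [C.shift_Z1] at hx ⊢
    exact h4 α hα x hx
  · rw [C.shift_Z1]
    refine hf _ fun x hx => ?_
    show C.u x + f (C.s x) + g (C.t x) = _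
    rw [hx.2, map_zero, add_zero]
  · rw [C.shift_Z1]
    refine hg _ fun x hx => ?_
    show C.u x + f (C.s x) + g (C.t x) = _
    rw [(C.mem_L0.1 hx).2, map_zero, add_zero]

end Cfsg.Agent.H780
end

-- part: H780/SpTwoData
section
/-!
# `p = 2`: the data of the system (helper780)
-/

set_option autoImplicit false
set_option linter.unusedSectionVars false

universe u v

namespace Cfsg.Agent.H780

open Cfsg Cfsg.FusionSystem Cfsg.Agent.H802

/-- Factorization of additive functions. -/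
theorem exists_factor {X : Type*} [Group X] {V W : Type*} [AddGroup V] [AddGroup W] (ψ : X → V)
    (hψ : ∀ x y, ψ (x * y) = ψ x + ψ y) (hs : Function.Surjective ψ) (φ : X → W)
    (hφ : ∀ x y, φ (x * y) = φ x + φ y) (h : ∀ x, ψ x = 0 → φ x = 0) :
    ∃ A : V →+ W, ∀ x, φ x = A (ψ x) := by
  have h1 : ψ 1 = 0 := by
    have := hψ 1 1
    rw [mul_one] at this
    simpa using this
  have h1' : φ 1 = 0 := h 1 h1
  have hinv : ∀ x, ψ x⁻¹ = - ψ x := by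
    intro x
    have := hψ x⁻¹ x
    rw [inv_mul_cancel, h1] at this
    exact eq_neg_of_add_eq_zero_left this.symm
  have hinv' : ∀ x, φ x⁻¹ = - φ x := by
    intro x
    have := hφ x⁻¹ x
    rw [inv_mul_cancel, h1'] at this
    exact eq_neg_of_add_eq_zero_left this.symm
  have key : ∀ x y, ψ x = ψ y → φ x = φ y := by
    intro x y hxy
    have h2 : ψ (x⁻¹ * y) = 0 := by rw [hψ, hinv, hxy, neg_add_cancel]
    have h3 := h _ h2
    rw [hφ, hinv'] at h3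
    exact neg_add_eq_zero.1 h3
  let θ := Function.surjInv hs
  have hθ : ∀ v, ψ (θ v) = v := Function.surjInv_eq hs
  refine ⟨{ toFun := fun v => φ (θ v)
            map_zero' := h _ (hθ 0)
            map_add' := fun v w => ?_ }, fun x => key _ _ (hθ _).symm⟩
  rw [← hφ]
  apply key
  rw [hψ, hθ, hθ, hθ]

variable {Ω : Type u} [Group Ω] {S : Subgroup Ω} {K : Type v} [Field K]

/-- Commutators of elements of `S` with elements of `M`. -/
theorem SpC.comm_uz [CharP K 2] (C : SpC S K) {g x : Ω} (hg : g ∈ S) (hx : x ∈ C.M) :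
    C.u (x⁻¹ * (g * x * g⁻¹)) = C.t g * C.s x ∧ C.z (x⁻¹ * (g * x * g⁻¹)) = C.t g ^ 2 * C.s x := by
  have h2 : (2 : K) = 0 := two_eq_zero
  have hxS := hx.1
  have hy : g * x * g⁻¹ ∈ S := S.mul_mem (S.mul_mem hg hxS) (S.inv_mem hg)
  constructor
  · rw [C.u_mul (S.inv_mem hxS) hy, C.u_inv hxS, C.u_conj hg hxS, C.t_inv hxS, hx.2]
    ring
  · rw [C.z_mul (S.inv_mem hxS) hy, C.z_inv hxS, C.z_conj hg hxS, C.t_inv hxS, hx.2, h2]
    ring

/-- The maps induced by an automorphism of `S` preserving `M`, `L₀` and `Z₁`. -/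
theorem SpC.exists_maps [CharP K 2] [Finite S] (C : SpC S K) (α : MulAut S)
    (hM : ∀ x : S, (x : Ω) ∈ C.M → ((α x : S) : Ω) ∈ C.M)
    (hL : ∀ x : S, (x : Ω) ∈ C.L 0 → ((α x : S) : Ω) ∈ C.L 0)
    (hZ : ∀ x : S, (x : Ω) ∈ C.Z1 → ((α x : S) : Ω) ∈ C.Z1) :
    ∃ (A B D : K →+ K) (Φ : K × K →+ K), (∀ x : S, C.t (α x : S) = A (C.t x)) ∧
      (∀ x : S, C.s (α x : S) = B (C.s x)) ∧ (∀ x : S, (x : Ω) ∈ C.Z2 → C.u (α x : S) = D (C.u x)) ∧
      (∀ x : S, (x : Ω) ∈ C.Z2 → C.z (α x : S) = Φ (C.u x, C.z x)) ∧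
      (∀ a b, D (a * b) = A a * B b) ∧ (∀ a b, Φ (a * b, a ^ 2 * b) = A a ^ 2 * B b) := by
  have h2 : (2 : K) = 0 := two_eq_zero
  have hZ2 : ∀ x : S, (x : Ω) ∈ C.Z2 → ((α x : S) : Ω) ∈ C.Z2 := fun x hx =>
    ⟨(α x).2, (hM x ⟨x.2, hx.2.1⟩).2, (C.mem_L0.1 (hL x (C.mem_L0.2 ⟨x.2, hx.2.2⟩))).2⟩
  obtain ⟨A, hA⟩ := exists_factor (fun x : S => C.t x) (fun x y => C.t_mul x.2 y.2)
    (fun a => by
      obtain ⟨x, hx, h, -⟩ := C.surj a 0 0 0
      exact ⟨⟨x, hx⟩, h⟩) (fun x : S => C.t (α x : S))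
    (fun x y => by
      show C.t ((α (x * y) : S) : Ω) = _
      rw [map_mul]
      exact C.t_mul (α x).2 (α y).2)
    (fun x hx => (hM x ⟨x.2, hx⟩).2)
  obtain ⟨B, hB⟩ := exists_factor (fun x : S => C.s x) (fun x y => C.s_mul x.2 y.2)
    (fun a => by
      obtain ⟨x, hx, -, h, -⟩ := C.surj 0 a 0 0
      exact ⟨⟨x, hx⟩, h⟩) (fun x : S => C.s (α x : S))
    (fun x y => by
      show C.s ((α (x * y) : S) : Ω) = _
      rw [map_mul]
      exact C.s_mul (α x).2 (α y).2)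
    (fun x hx => (C.mem_L0.1 (hL x (C.mem_L0.2 ⟨x.2, hx⟩))).2)
  have huZ : ∀ x ∈ C.Z2, ∀ y ∈ C.Z2, C.u (x * y) = C.u x + C.u y := by
    intro x hx y hy
    rw [C.u_mul hx.1 hy.1, hx.2.1]; ring
  have hzZ : ∀ x ∈ C.Z2, ∀ y ∈ C.Z2, C.z (x * y) = C.z x + C.z y := by
    intro x hx y hy
    rw [C.z_mul hx.1 hy.1, hx.2.1]; ring
  obtain ⟨D, hD⟩ := exists_factor (fun x : C.Z2 => C.u x) (fun x y => huZ x x.2 y y.2)
    (fun a => by
      obtain ⟨x, hx, h3, h4, h5, -⟩ := C.surj 0 0 a 0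
      exact ⟨⟨x, hx, h3, h4⟩, h5⟩) (fun x : C.Z2 => C.u (α ⟨x, C.Z2_le x.2⟩ : S))
    (fun x y => by
      show C.u ((α (⟨x, C.Z2_le x.2⟩ * ⟨y, C.Z2_le y.2⟩) : S) : Ω) = _
      rw [map_mul]
      exact huZ _ (hZ2 _ x.2) _ (hZ2 _ y.2))
    (fun x hx => (hZ ⟨x, C.Z2_le x.2⟩ ⟨x.2.1, x.2.2.1, x.2.2.2, hx⟩).2.2.2)
  obtain ⟨Φ, hΦ⟩ := exists_factor (fun x : C.Z2 => (C.u x, C.z x))
    (fun x y => Prod.ext (huZ x x.2 y y.2) (hzZ x x.2 y y.2))
    (fun a => by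
      obtain ⟨x, hx, h3, h4, h5, h6⟩ := C.surj 0 0 a.1 a.2
      exact ⟨⟨x, hx, h3, h4⟩, Prod.ext h5 h6⟩) (fun x : C.Z2 => C.z (α ⟨x, C.Z2_le x.2⟩ : S))
    (fun x y => by
      show C.z ((α (⟨x, C.Z2_le x.2⟩ * ⟨y, C.Z2_le y.2⟩) : S) : Ω) = _
      rw [map_mul]
      exact hzZ _ (hZ2 _ x.2) _ (hZ2 _ y.2))
    (fun x hx => by
      have h3 : (x : Ω) = 1 := by
        apply C.inj x.2.1 S.one_mem
        · rw [x.2.2.1, C.t_one]
        · rw [x.2.2.2, C.s_one]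
        · rw [C.u_one]; exact congrArg Prod.fst hx
        · rw [C.z_one]; exact congrArg Prod.snd hx
      have h4 : (⟨x, C.Z2_le x.2⟩ : S) = 1 := Subtype.ext h3
      show C.z ((α ⟨x, C.Z2_le x.2⟩ : S) : Ω) = 0
      rw [h4, map_one]
      exact C.z_one)
  have hcomm : ∀ a b, D (a * b) = A a * B b ∧ Φ (a * b, a ^ 2 * b) = A a ^ 2 * B b := by
    intro a b
    obtain ⟨g, hg, hg1, -⟩ := C.surj a 0 0 0
    obtain ⟨x, hx, hx1, hx2, -⟩ := C.surj 0 b 0 0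
    have hxM : x ∈ C.M := ⟨hx, hx1⟩
    have h3 := C.comm_uz hg hxM
    have h4 := C.comm_uz (α ⟨g, hg⟩).2 (hM ⟨x, hx⟩ hxM)
    have h5 : ((α ((⟨x, hx⟩ : S)⁻¹ * (⟨g, hg⟩ * ⟨x, hx⟩ * (⟨g, hg⟩ : S)⁻¹)) : S) : Ω) =
      ((α ⟨x, hx⟩ : S) : Ω)⁻¹ * ((α ⟨g, hg⟩ : S) * (α ⟨x, hx⟩ : S) * ((α ⟨g, hg⟩ : S) : Ω)⁻¹) := by
      rw [map_mul, map_mul, map_mul, map_inv, map_inv]
      rfl
    rw [← h5, hA ⟨g, hg⟩, hB ⟨x, hx⟩] at h4
    have h6 : x⁻¹ * (g * x * g⁻¹) ∈ C.Z2 := C.comm_mem_Z2 hg hx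
    have h7 := hD ⟨_, h6⟩
    have h8 := hΦ ⟨_, h6⟩
    have h9 : C.u (x⁻¹ * (g * x * g⁻¹)) = a * b := by rw [h3.1, hg1, hx2]
    have h10 : C.z (x⁻¹ * (g * x * g⁻¹)) = a ^ 2 * b := by rw [h3.2, hg1, hx2]
    have h11 : C.t ((⟨g, hg⟩ : S) : Ω) = a := hg1
    have h12 : C.s ((⟨x, hx⟩ : S) : Ω) = b := hx2
    rw [h11, h12] at h4
    refine ⟨?_, ?_⟩
    · rw [← h9]
      exact h7.symm.trans h4.1
    · rw [← h9, ← h10]
      exact h8.symm.trans h4.2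
  exact ⟨A, B, D, Φ, hA, hB, fun x hx => hD ⟨x, hx⟩, fun x hx => hΦ ⟨x, hx⟩, fun a b => (hcomm a b).1,
    fun a b => (hcomm a b).2⟩

section alg

variable [CharP K 2]

/-- In the presence of the torus, the order of the field is at most four. -/
theorem cube_of_phi {Φ : K × K →+ K} {c : K} (hc : c ≠ 0)
    (h1 : ∀ ζ, Φ (0, ζ) = ζ) (h2 : ∀ a b : K, Φ (a * b, a ^ 2 * b) = (c ^ 2 * a) ^ 2 * (c⁻¹ * b)) :
    c ^ 3 = 1 := by
  have h20 : (2 : K) = 0 := two_eq_zero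
  by_cases hc1 : c = 1
  · rw [hc1, one_pow]
  have h3 := h2 1 1
  have h4 := h2 c c⁻¹
  have h5 : Φ ((1 * 1 : K), (1 ^ 2 * 1 : K)) + Φ (c * c⁻¹, c ^ 2 * c⁻¹) = Φ (0, 1 + c) := by
    rw [← map_add]
    congr 1
    ext
    · show (1 * 1 : K) + c * c⁻¹ = 0
      rw [mul_inv_cancel₀ hc]; linear_combination h20
    · show (1 ^ 2 * 1 : K) + c ^ 2 * c⁻¹ = 1 + c
      field_simp
  rw [h1, h3, h4] at h5
  have h6 : c ^ 3 * (1 + c) = 1 + c := by
    have h7 : (c ^ 2 * 1) ^ 2 * (c⁻¹ * 1) + (c ^ 2 * c) ^ 2 * (c⁻¹ * c⁻¹) = c ^ 3 * (1 + c) := by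
      field_simp
    rw [← h7]; exact h5
  have h8 : (1 + c) ≠ 0 := by
    intro h
    apply hc1
    linear_combination h - h20
  exact mul_right_cancel₀ h8 (by rw [h6, one_mul])

/-- The additive maps are linear. -/
theorem linear_of_maps (hcube : ∀ c : K, c ≠ 0 → c ^ 3 = 1) {A B D : K →+ K} {Φ : K × K →+ K}
    (hAi : ∀ a, A a = 0 → a = 0) (hBi : ∀ a, B a = 0 → a = 0) (hE : ∀ a, Φ (0, a) = 0 → a = 0)
    (hD : ∀ a b, D (a * b) = A a * B b) (hΦ : ∀ a b, Φ (a * b, a ^ 2 * b) = A a ^ 2 * B b)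
    (hodd : ∃ m : ℕ, ¬ 2 ∣ m ∧ ∀ a, A^[m] a = a) :
    A 1 ≠ 0 ∧ B 1 ≠ 0 ∧ (∀ a, A a = A 1 * a) ∧ (∀ b, B b = B 1 * b) ∧ (∀ a, D a = A 1 * B 1 * a) ∧
      ∀ a, Φ (0, a) = A 1 ^ 2 * B 1 * a := by
  have h20 : (2 : K) = 0 := two_eq_zero
  have ha0 : A 1 ≠ 0 := fun h => one_ne_zero (hAi _ h)
  have hb0 : B 1 ≠ 0 := fun h => one_ne_zero (hBi _ h)
  -- the field automorphism
  have hDA : ∀ a, D a = A a * B 1 := fun a => by rw [← hD, mul_one]
  have hDB : ∀ a, D a = A 1 * B a := fun a => by rw [← hD, one_mul]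
  have hB : ∀ a, B a = A a * B 1 / A 1 := fun a => by
    rw [← hDA, hDB, mul_div_cancel_left₀ _ ha0]
  have hmulA : ∀ a b, A (a * b) * A 1 = A a * A b := by
    intro a b
    have h3 := hDA (a * b)
    rw [hD, hB b] at h3
    have h4 : A a * (A b * B 1 / A 1) = A a * A b / A 1 * B 1 := by ring
    rw [h4] at h3
    have h5 := mul_right_cancel₀ hb0 h3
    rw [← h5, div_mul_cancel₀ _ ha0]
  have hφ : ∀ a : K, A a = A 1 * a ∨ A a = A 1 * a ^ 2 := by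
    intro a
    by_cases ha : a = 0
    · left; rw [ha, map_zero, mul_zero]
    by_cases ha1 : a = 1
    · left; rw [ha1, mul_one]
    have h3 : a ^ 2 + a + 1 = 0 := by
      have h4 : (a - 1) * (a ^ 2 + a + 1) = 0 := by linear_combination hcube a ha
      exact (mul_eq_zero.1 h4).resolve_left (sub_ne_zero.2 ha1)
    have h5 : A a ^ 2 + A a * A 1 + A 1 ^ 2 = 0 := by
      have h6 := hmulA a a
      have h7 : A (a * a) + A a + A 1 = 0 := by
        rw [← map_add, ← map_add]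
        have h8 : a * a + a + 1 = 0 := by linear_combination h3
        rw [h8, map_zero]
      have h9 : A (a * a) * A 1 + A a * A 1 + A 1 * A 1 = 0 := by
        rw [← add_mul, ← add_mul, h7, zero_mul]
      rw [h6] at h9
      linear_combination h9
    have h6 : (A a - A 1 * a) * (A a - A 1 * a ^ 2) = 0 := by
      linear_combination h5 + (-A a * A 1) * h3 + A 1 ^ 2 * (hcube a ha)
    rcases mul_eq_zero.1 h6 with h7 | h7
    · exact Or.inl (sub_eq_zero.1 h7)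
    · exact Or.inr (sub_eq_zero.1 h7)
  have hpow4 : ∀ a : K, a ^ 4 = a := by
    intro a
    by_cases ha : a = 0
    · rw [ha]; ring
    · linear_combination a * hcube a ha
  -- the square of `A` is a scalar
  have hA2 : ∀ a, A (A a) = A (A 1) * a := by
    intro a
    have h3 : ∀ b, A b * A 1 = A 1 * A b := fun b => mul_comm _ _
    -- `A (c * b) = A c * A b / A 1`
    have h4 : A (A 1 * a) = A (A 1) * A a / A 1 := by
      rw [eq_div_iff ha0, hmulA]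
    have h5 : A (A 1 * a ^ 2) = A (A 1) * A (a ^ 2) / A 1 := by
      rw [eq_div_iff ha0, hmulA]
    have h6 : A (a ^ 2) = A a * A a / A 1 := by
      rw [eq_div_iff ha0, pow_two, hmulA]
    rcases hφ a with h | h
    · rw [h, h4, h]
      field_simp
    · rw [h, h5, h6, h]
      have h7 := hpow4 a
      have h8 : A (A 1) * (A 1 * a ^ 2 * (A 1 * a ^ 2) / A 1) / A 1 = A (A 1) * a ^ 4 := by
        field_simp
      rw [h8, h7]
  have hA2' : ∀ (k : ℕ) a, A^[2 * k] a = A (A 1) ^ k * a := by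
    intro k
    induction k with
    | zero => intro a; simp
    | succ k ih =>
      intro a
      have h3 : 2 * (k + 1) = 2 * k + 1 + 1 := by ring
      rw [h3, Function.iterate_succ_apply, Function.iterate_succ_apply, ih, hA2 a]
      ring
  have hA : ∀ a, A a = A 1 * a := by
    obtain ⟨m, hm, hmA⟩ := hodd
    obtain ⟨k, hk⟩ := Nat.odd_iff.2 (Nat.two_dvd_ne_zero.1 hm)
    have h3 : ∀ a, A (A 1) ^ k * A a = a := by
      intro a
      have h4 := hmA a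
      rw [hk, Function.iterate_add_apply, Function.iterate_one, hA2'] at h4
      exact h4
    intro a
    have h5 := h3 1
    have h6 := h3 a
    have h7 : A (A 1) ^ k ≠ 0 := by
      intro h
      rw [h, zero_mul] at h5
      exact zero_ne_one h5
    apply mul_left_cancel₀ h7
    rw [h6, ← mul_assoc, h5, one_mul]
  have hBlin : ∀ b, B b = B 1 * b := by
    intro b
    rw [hB, hA]
    field_simp
  refine ⟨ha0, hb0, hA, hBlin, fun a => by rw [hDA, hA]; ring, ?_⟩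
  have hΦ' : ∀ a v, a ≠ 0 → Φ (v, a * v) = A 1 ^ 2 * B 1 * (a * v) := by
    intro a v ha
    have h3 := hΦ a (v / a)
    have h4 : a * (v / a) = v := by field_simp
    have h5 : a ^ 2 * (v / a) = a * v := by field_simp
    rw [h4, h5, hA, hBlin] at h3
    rw [h3]
    field_simp
  by_cases hone : ∀ c : K, c ≠ 0 → c = 1
  · intro a
    rw [hone _ ha0, hone _ hb0]
    by_cases ha : a = 0
    · have h3 : ((0 : K), a) = 0 := by rw [ha]; rfl
      rw [h3, map_zero, ha]; ring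
    · rw [hone _ (fun h => ha (hE a h)), hone a ha]; ring
  · push Not at hone
    obtain ⟨c, hc, hc1⟩ := hone
    have h8 : (1 + c) ≠ 0 := by
      intro h
      apply hc1
      linear_combination h - h20
    intro a
    have h3 := hΦ' 1 (a / (1 + c)) one_ne_zero
    have h4 := hΦ' c (a / (1 + c)) hc
    have h5 : Φ (a / (1 + c), 1 * (a / (1 + c))) + Φ (a / (1 + c), c * (a / (1 + c))) = Φ (0, a) := by
      rw [← map_add]
      congr 1
      ext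
      · show a / (1 + c) + a / (1 + c) = 0
        linear_combination (a / (1 + c)) * h20
      · show 1 * (a / (1 + c)) + c * (a / (1 + c)) = a
        field_simp
    rw [← h5, h3, h4]
    field_simp

end alg

section main

variable [Finite K] [CharP K 2] [Finite S] (C : SpC S K) {F : FusionSystem S}

/-- `Z₁` is invariant under `Aut_F(S)`. -/
theorem SpC.Z1_inv_two (hS : IsPGroup 2 S) (hF : F.IsSaturated 2)
    (hZM : ∀ α ∈ F.autGroup C.M, ∀ x : C.M, (x : Ω) ∈ C.Z1 → ((α x : C.M) : Ω) ∈ C.Z1)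
    {α : MulAut S} (hα : α ∈ F.autGroup S) (x : S) (hx : (x : Ω) ∈ C.Z1) :
    ((α x : S) : Ω) ∈ C.Z1 := by
  obtain ⟨α', hα', h⟩ := exists_restrict C.M_le hα (C.inv_two two_eq_zero hS hF hα).1
  have hxM : (x : Ω) ∈ C.M := C.Z2_le_M (C.Z1_le_Z2 hx)
  have h1 := hZM α' hα' ⟨x, hxM⟩ hx
  rw [h] at h1
  exact h1

/-- The order of `K` is at most four. -/
theorem SpC.cube (hS : IsPGroup 2 S) (hF : F.IsSaturated 2)
    (sM : SideConc F C.M C.Z1 C.Z2 C.s C.t C.u) {c : K} (hc : c ≠ 0) : c ^ 3 = 1 := by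
  obtain ⟨β, hβ, h1, -, h3, h4⟩ := sM.torus c hc
  obtain ⟨A, B, D, Φ, hA, hB, hD, hΦ, h5, h6⟩ := C.exists_maps β (C.inv_two two_eq_zero hS hF hβ).1
    (C.inv_two two_eq_zero hS hF hβ).2 (fun x hx => by rw [h1 x hx]; exact hx)
  have hA' : ∀ a, A a = c ^ 2 * a := by
    intro a
    obtain ⟨x, hx, hx1, -⟩ := C.surj a 0 0 0
    have h7 := hA ⟨x, hx⟩
    rw [h4] at h7
    rw [show C.t ((⟨x, hx⟩ : S) : Ω) = a from hx1] at h7
    exact h7.symm
  have hB' : ∀ a, B a = c⁻¹ * a := by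
    intro a
    obtain ⟨x, hx, -, hx1, -⟩ := C.surj 0 a 0 0
    have h7 := hB ⟨x, hx⟩
    rw [h3] at h7
    rw [show C.s ((⟨x, hx⟩ : S) : Ω) = a from hx1] at h7
    exact h7.symm
  refine cube_of_phi hc (fun ζ => ?_) (fun a b => ?_) (Φ := Φ)
  · obtain ⟨x, hx, hx1, hx2, hx3, hx4⟩ := C.surj 0 0 0 ζ
    have h7 := hΦ ⟨x, hx⟩ ⟨hx, hx1, hx2⟩
    rw [h1 ⟨x, hx⟩ ⟨hx, hx1, hx2, hx3⟩] at h7
    have h8 : C.z x = Φ (C.u x, C.z x) := h7
    rw [hx3, hx4] at h8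
    exact h8.symm
  · rw [h6, hA', hB']

/-- The action of the elements of `Aut_F(S)` on the coordinates. -/
theorem SpC.aut_lin (hS : IsPGroup 2 S) (hF : F.IsSaturated 2)
    (hZM : ∀ α ∈ F.autGroup C.M, ∀ x : C.M, (x : Ω) ∈ C.Z1 → ((α x : C.M) : Ω) ∈ C.Z1)
    (hcube : ∀ c : K, c ≠ 0 → c ^ 3 = 1) {α : MulAut S} (hα : α ∈ F.autGroup S) :
    ∃ a b : Kˣ, (∀ x : S, C.t (α x : S) = a * C.t x) ∧ (∀ x : S, C.s (α x : S) = b * C.s x) ∧
      (∀ x : S, (x : Ω) ∈ C.Z2 → C.u (α x : S) = a * b * C.u x) ∧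
      ∀ x : S, (x : Ω) ∈ C.Z1 → C.z (α x : S) = a ^ 2 * b * C.z x := by
  have hinv := C.inv_two two_eq_zero hS hF hα
  have hinv' := C.inv_two two_eq_zero hS hF (Subgroup.inv_mem _ hα)
  have hZi : ∀ x : S, (x : Ω) ∈ C.Z1 → ((α x : S) : Ω) ∈ C.Z1 := C.Z1_inv_two hS hF hZM hα
  obtain ⟨A, B, D, Φ, hA, hB, hD, hΦ, h5, h6⟩ := C.exists_maps α hinv.1 hinv.2 hZi
  have hback : ∀ x : S, α⁻¹ (α x) = x := fun x => α.symm_apply_apply x
  obtain ⟨ha0, hb0, hAl, hBl, hDl, hΦl⟩ := linear_of_maps hcube (A := A) (B := B) (D := D) (Φ := Φ)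
    (fun a ha => by
      obtain ⟨x, hx, hx1, -⟩ := C.surj a 0 0 0
      have h7 := hA ⟨x, hx⟩
      rw [show C.t ((⟨x, hx⟩ : S) : Ω) = a from hx1, ha] at h7
      have h8 := hinv'.1 _ (⟨(α ⟨x, hx⟩).2, h7⟩ : ((α ⟨x, hx⟩ : S) : Ω) ∈ C.M)
      rw [hback] at h8
      rw [← hx1]; exact h8.2)
    (fun a ha => by
      obtain ⟨x, hx, -, hx1, -⟩ := C.surj 0 a 0 0
      have h7 := hB ⟨x, hx⟩
      rw [show C.s ((⟨x, hx⟩ : S) : Ω) = a from hx1, ha] at h7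
      have h8 := hinv'.2 _ (C.mem_L0.2 ⟨(α ⟨x, hx⟩).2, h7⟩ : ((α ⟨x, hx⟩ : S) : Ω) ∈ C.L 0)
      rw [hback, C.mem_L0] at h8
      rw [← hx1]; exact h8.2)
    (fun a ha => by
      obtain ⟨x, hx, hx1, hx2, hx3, hx4⟩ := C.surj 0 0 0 a
      have h7 := hΦ ⟨x, hx⟩ ⟨hx, hx1, hx2⟩
      rw [show C.u ((⟨x, hx⟩ : S) : Ω) = 0 from hx3, show C.z ((⟨x, hx⟩ : S) : Ω) = a from hx4,
        ha] at h7
      have h8 := hZi ⟨x, hx⟩ ⟨hx, hx1, hx2, hx3⟩
      have h9 : ((α ⟨x, hx⟩ : S) : Ω) = 1 := by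
        apply C.inj h8.1 S.one_mem
        · rw [h8.2.1, C.t_one]
        · rw [h8.2.2.1, C.s_one]
        · rw [h8.2.2.2, C.u_one]
        · rw [h7, C.z_one]
      have h10 : (⟨x, hx⟩ : S) = 1 := by
        apply α.injective
        rw [map_one]
        exact Subtype.ext h9
      have h11 : x = 1 := congrArg Subtype.val h10
      rw [← hx4, h11, C.z_one])
    h5 h6
    (by
      obtain ⟨m, hm, hmα⟩ := exists_pow_mem_autInducedBy hS hF hα
      refine ⟨m, hm, fun a => ?_⟩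
      obtain ⟨x, hx, hx1, -⟩ := C.surj a 0 0 0
      obtain ⟨g, hg, hgα⟩ := (mem_autInducedBy_iff S S _).1 hmα
      have h7 : ∀ (k : ℕ) (y : S), C.t ((α ^ k) y : S) = A^[k] (C.t y) := by
        intro k
        induction k with
        | zero => intro y; rfl
        | succ k ih =>
          intro y
          rw [pow_succ, MulAut.mul_apply, ih, hA, Function.iterate_succ_apply]
      have h8 := h7 m ⟨x, hx⟩
      rw [hgα, C.t_conj hg hx] at h8
      rw [← hx1]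
      exact h8.symm)
  refine ⟨Units.mk0 _ ha0, Units.mk0 _ hb0, fun x => ?_, fun x => ?_, fun x hx => ?_, fun x hx => ?_⟩
  · rw [hA, hAl]; rfl
  · rw [hB, hBl]; rfl
  · rw [hD x hx, hDl]; rfl
  · rw [hΦ x (C.Z1_le_Z2 hx), hx.2.2.2, hΦl]; rfl

/-- The full action of the elements of `Aut_F(S)`. -/
theorem SpC.aut_full (hS : IsPGroup 2 S) (hF : F.IsSaturated 2)
    (hZM : ∀ α ∈ F.autGroup C.M, ∀ x : C.M, (x : Ω) ∈ C.Z1 → ((α x : C.M) : Ω) ∈ C.Z1)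
    (hcube : ∀ c : K, c ≠ 0 → c ^ 3 = 1)
    (sM : SideConc F C.M C.Z1 C.Z2 C.s C.t C.u) (sL : SideConc F (C.L 0) C.Z1 C.Z2 C.t C.s C.u)
    {α : MulAut S} (hα : α ∈ F.autGroup S) :
    ∃ a b : Kˣ, ∃ r₁ r₂ : K,
      (∀ x : S, C.t (α x : S) = a * C.t x ∧ C.s (α x : S) = b * C.s x ∧
        C.u (α x : S) = a * b * C.u x + r₁ * C.t x + r₂ * C.s x) ∧
      ∀ x : S, (x : Ω) ∈ C.Z1 → ((α x : S) : Ω) ∈ C.Z1 ∧ C.z (α x : S) = a ^ 2 * b * C.z x := by
  obtain ⟨a, b, h1, h2, h3, h4⟩ := C.aut_lin hS hF hZM hcube hα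
  have hinv := C.inv_two two_eq_zero hS hF hα
  obtain ⟨Θ, hΘ⟩ := exists_factor (fun x : S => (C.t x, C.s x))
    (fun x y => Prod.ext (C.t_mul x.2 y.2) (C.s_mul x.2 y.2))
    (fun v => by
      obtain ⟨x, hx, hx1, hx2, -⟩ := C.surj v.1 v.2 0 0
      exact ⟨⟨x, hx⟩, Prod.ext hx1 hx2⟩)
    (fun x : S => C.u (α x : S) - a * b * C.u x)
    (fun x y => by
      show C.u ((α (x * y) : S) : Ω) - a * b * C.u ((x : Ω) * y) = _
      rw [map_mul, C.u_mul x.2 y.2]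
      show C.u (((α x : S) : Ω) * (α y : S)) - _ = _
      rw [C.u_mul (α x).2 (α y).2, h1, h2]
      ring)
    (fun x hx => by
      have h5 : C.t (x : Ω) = 0 := congrArg Prod.fst hx
      have h6 : C.s (x : Ω) = 0 := congrArg Prod.snd hx
      show C.u (α x : S) - a * b * C.u x = 0
      rw [h3 x ⟨x.2, h5, h6⟩, sub_self])
  have hu : ∀ x : S, C.u (α x : S) = a * b * C.u x + Θ (C.t x, 0) + Θ (0, C.s x) := by
    intro x
    have h5 : C.u (α x : S) - a * b * C.u x = Θ (C.t x, C.s x) := hΘ x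
    have h6 : ((C.t x, C.s x) : K × K) = (C.t x, 0) + (0, C.s x) := by ext <;> simp
    rw [h6, map_add] at h5
    linear_combination h5
  -- linearity of the two parts
  obtain ⟨r₂, hr₂⟩ : ∃ r₂ : K, ∀ v, Θ (0, v) = r₂ * v := by
    obtain ⟨n, hn, -, hn2⟩ := sM.n
    obtain ⟨α', hα', hα'e⟩ := exists_restrict C.M_le hα hinv.1
    have key : ∀ x : C.M, (x : Ω) ∈ C.Z2 → C.s ((α' * n) x : C.M) = b * C.u x ∧
        C.u ((α' * n) x : C.M) = Θ (0, C.u x) := by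
      intro x hx
      have h5 := hn2 x
      have h6 := (n x).2.2
      rw [MulAut.mul_apply, hα'e]
      refine ⟨?_, ?_⟩
      · rw [h2]
        show b * C.s ((n x : C.M) : Ω) = _
        rw [h5.1]
      · rw [hu]
        show a * b * C.u ((n x : C.M) : Ω) + Θ (C.t ((n x : C.M) : Ω), 0) + Θ (0, C.s ((n x : C.M) : Ω)) = _
        rw [h5.1, h5.2, h6, hx.2.2]
        have h7 : ((0 : K), (0 : K)) = 0 := rfl
        rw [h7, map_zero]
        ring
    have hex : ∀ v : K, ∃ x : C.M, (x : Ω) ∈ C.Z2 ∧ C.u x = v := by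
      intro v
      obtain ⟨x, hx, hx1, hx2, hx3, -⟩ := C.surj 0 0 v 0
      exact ⟨⟨x, hx, hx1⟩, ⟨hx, hx1, hx2⟩, hx3⟩
    rcases sM.spread (α' * n) (Subgroup.mul_mem _ hα' hn) with h | ⟨r, h⟩
    · exfalso
      obtain ⟨x, hx, hx1⟩ := hex 1
      have h5 := (key x hx).1
      rw [(h x hx).2.2, hx1, mul_one] at h5
      exact b.ne_zero h5.symm
    · refine ⟨r * b, fun v => ?_⟩
      obtain ⟨x, hx, hx1⟩ := hex v
      have h5 := h x hx
      rw [(key x hx).1, (key x hx).2, hx1] at h5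
      rw [h5]; ring
  obtain ⟨r₁, hr₁⟩ : ∃ r₁ : K, ∀ v, Θ (v, 0) = r₁ * v := by
    obtain ⟨n, hn, -, hn2⟩ := sL.n
    obtain ⟨α', hα', hα'e⟩ := exists_restrict (C.L_le 0) hα hinv.2
    have key : ∀ x : C.L 0, (x : Ω) ∈ C.Z2 → C.t ((α' * n) x : C.L 0) = a * C.u x ∧
        C.u ((α' * n) x : C.L 0) = Θ (C.u x, 0) := by
      intro x hx
      have h5 := hn2 x
      have h6 := (C.mem_L0.1 (n x).2).2
      rw [MulAut.mul_apply, hα'e]
      refine ⟨?_, ?_⟩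
      · rw [h1]
        show a * C.t ((n x : C.L 0) : Ω) = _
        rw [h5.1]
      · rw [hu]
        show a * b * C.u ((n x : C.L 0) : Ω) + Θ (C.t ((n x : C.L 0) : Ω), 0) +
          Θ (0, C.s ((n x : C.L 0) : Ω)) = _
        rw [h5.1, h5.2, h6, hx.2.1]
        have h7 : ((0 : K), (0 : K)) = 0 := rfl
        rw [h7, map_zero]
        ring
    have hex : ∀ v : K, ∃ x : C.L 0, (x : Ω) ∈ C.Z2 ∧ C.u x = v := by
      intro v
      obtain ⟨x, hx, hx1, hx2, hx3, -⟩ := C.surj 0 0 v 0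
      exact ⟨⟨x, C.mem_L0.2 ⟨hx, hx2⟩⟩, ⟨hx, hx1, hx2⟩, hx3⟩
    rcases sL.spread (α' * n) (Subgroup.mul_mem _ hα' hn) with h | ⟨r, h⟩
    · exfalso
      obtain ⟨x, hx, hx1⟩ := hex 1
      have h5 := (key x hx).1
      rw [(h x hx).2.1, hx1, mul_one] at h5
      exact a.ne_zero h5.symm
    · refine ⟨r * a, fun v => ?_⟩
      obtain ⟨x, hx, hx1⟩ := hex v
      have h5 := h x hx
      rw [(key x hx).1, (key x hx).2, hx1] at h5
      rw [h5]; ring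
  refine ⟨a, b, r₁, r₂, fun x => ⟨h1 x, h2 x, ?_⟩, fun x hx => ⟨C.Z1_inv_two hS hF hZM hα x hx, h4 x hx⟩⟩
  rw [hu, hr₁, hr₂]

include C in
/-- **The data of the system.** -/
theorem SpC.exists_twoData (hS : IsPGroup 2 S) (hF : F.IsSaturated 2) (hcore : F.core ≠ ⊥)
    (hnc : ¬ ∃ Q : Subgroup Ω, F.IsNormal Q ∧ F.IsCentric Q) :
    ∃ (C : SpC S K) (Δ : Subgroup Kˣ), (∀ c : K, c ≠ 0 → c ^ 3 = 1) ∧ F.IsEssential 2 C.M ∧
      F.IsEssential 2 (C.L 0) ∧ TwoData F C Δ := by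
  have h20 : (2 : K) = 0 := two_eq_zero
  obtain ⟨C, hM, hL, hZM, hZL, sM, sL⟩ := C.exists_sides hS hF hcore hnc
  have hcube : ∀ c : K, c ≠ 0 → c ^ 3 = 1 := fun c hc => C.cube hS hF sM hc
  have hZS : ∀ α ∈ F.autGroup S, ∀ x : S, (x : Ω) ∈ C.Z1 → ((α x : S) : Ω) ∈ C.Z1 :=
    fun α hα x hx => C.Z1_inv_two hS hF hZM hα x hx
  -- an element of `Z₁` with `z = 1`
  obtain ⟨x₀, hx₀, hx₁, hx₂, hx₃, hx₄⟩ := C.surj 0 0 0 1
  have hxZ : x₀ ∈ C.Z1 := ⟨hx₀, hx₁, hx₂, hx₃⟩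
  let Δ : Subgroup Kˣ :=
    { carrier := {δ | ∃ α ∈ F.autGroup S, ∀ x : S, (x : Ω) ∈ C.Z1 → C.z (α x : S) = δ * C.z x}
      one_mem' := ⟨1, Subgroup.one_mem _, fun x _ => by rw [MulAut.one_apply, Units.val_one, one_mul]⟩
      mul_mem' := by
        rintro δ ε ⟨α, hα, h1⟩ ⟨β, hβ, h2⟩
        refine ⟨α * β, Subgroup.mul_mem _ hα hβ, fun x hx => ?_⟩
        rw [MulAut.mul_apply, h1 _ (hZS β hβ x hx), h2 x hx, Units.val_mul]
        ring
      inv_mem' := by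
        rintro δ ⟨α, hα, h1⟩
        refine ⟨α⁻¹, Subgroup.inv_mem _ hα, fun x hx => ?_⟩
        have h2 := h1 _ (hZS α⁻¹ (Subgroup.inv_mem _ hα) x hx)
        have h3 : α (α⁻¹ x) = x := α.apply_symm_apply x
        rw [h3] at h2
        rw [h2, Units.inv_mul_cancel_left] }
  have hautS : ∀ α ∈ F.autGroup S, ∃ a b : Kˣ, a ^ 2 * b ∈ Δ ∧ ∃ r₁ r₂ : K,
      (∀ x : S, C.t (α x : S) = a * C.t x ∧ C.s (α x : S) = b * C.s x ∧
        C.u (α x : S) = a * b * C.u x + r₁ * C.t x + r₂ * C.s x) ∧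
      ∀ x : S, (x : Ω) ∈ C.Z1 → ((α x : S) : Ω) ∈ C.Z1 ∧ C.z (α x : S) = a ^ 2 * b * C.z x := by
    intro α hα
    obtain ⟨a, b, r₁, r₂, h1, h2⟩ := C.aut_full hS hF hZM hcube sM sL hα
    exact ⟨a, b, ⟨α, hα, fun x hx => by rw [(h2 x hx).2]; push_cast; rfl⟩, r₁, r₂, h1, h2⟩
  refine ⟨C, Δ, hcube, hM, hL, hautS, ?_, hZM, hZL, sM.n, sL.n, sM.spread, sL.spread, sM.ext, sL.ext⟩
  rintro a b ⟨α₀, hα₀, h1⟩
  obtain ⟨a₀, b₀, -, r₁, r₂, h2, h3⟩ := hautS α₀ hα₀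
  have h4 : (a₀ : K) ^ 2 * b₀ = a ^ 2 * b := by
    have h5 := h1 ⟨x₀, hx₀⟩ hxZ
    rw [(h3 ⟨x₀, hx₀⟩ hxZ).2] at h5
    have h6 : C.z ((⟨x₀, hx₀⟩ : S) : Ω) = 1 := hx₄
    rw [h6, mul_one, mul_one] at h5
    rw [h5]
    push_cast
    rfl
  -- composition with the torus of `M`
  have he : ((a / a₀ : Kˣ) : K)⁻¹ ≠ 0 := inv_ne_zero (Units.ne_zero _)
  obtain ⟨β, hβ, h5, -, h6, h7⟩ := sM.torus _ he
  set e : K := ((a / a₀ : Kˣ) : K) with hedef
  have he0 : e ≠ 0 := Units.ne_zero _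
  have hea : e * a₀ = a := by
    rw [hedef, ← Units.val_mul, div_mul_cancel]
  have he3 : e ^ 3 = 1 := hcube e he0
  have heb : e * b₀ = b := by
    have h8 : (b : K) = e⁻¹ ^ 2 * b₀ := by
      have h9 : (a : K) ^ 2 * b = a ^ 2 * (e⁻¹ ^ 2 * b₀) := by
        rw [← h4, ← hea]
        field_simp
      exact mul_left_cancel₀ (pow_ne_zero 2 a.ne_zero) h9
    rw [h8]
    field_simp
    linear_combination he3
  obtain ⟨a', b', -, ρ₁, ρ₂, h8, h9⟩ := hautS (β * α₀) (Subgroup.mul_mem _ hβ hα₀)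
  have ht : ∀ x : S, C.t ((β * α₀) x : S) = a * C.t x := by
    intro x
    rw [MulAut.mul_apply, h7, (h2 x).1, ← hea]
    have h10 : (e⁻¹) ^ 2 = e := by
      field_simp
      linear_combination -he3
    rw [h10]; ring
  have hs : ∀ x : S, C.s ((β * α₀) x : S) = b * C.s x := by
    intro x
    rw [MulAut.mul_apply, h6, (h2 x).2.1, ← heb, inv_inv]
    ring
  have haa : (a' : K) = a := by
    obtain ⟨x, hx, hx1, -⟩ := C.surj 1 0 0 0
    have h10 := (h8 ⟨x, hx⟩).1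
    rw [ht] at h10
    have h11 : C.t ((⟨x, hx⟩ : S) : Ω) = 1 := hx1
    rw [h11, mul_one, mul_one] at h10
    exact h10.symm
  have hbb : (b' : K) = b := by
    obtain ⟨x, hx, -, hx1, -⟩ := C.surj 0 1 0 0
    have h10 := (h8 ⟨x, hx⟩).2.1
    rw [hs] at h10
    have h11 : C.s ((⟨x, hx⟩ : S) : Ω) = 1 := hx1
    rw [h11, mul_one, mul_one] at h10
    exact h10.symm
  -- correction by an inner automorphism
  obtain ⟨g, hg, hg1, hg2, -⟩ := C.surj (ρ₂ / b) (ρ₁ / a) 0 0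
  obtain ⟨τ, hτ⟩ := exists_conjAut (P := S) (g := g) (Subgroup.le_normalizer hg)
  have hτF : τ ∈ F.autGroup S :=
    autInducedBy_le_autGroup F le_rfl ((mem_autInducedBy_iff S S τ).2 ⟨g, hg, hτ⟩)
  refine ⟨τ * (β * α₀), Subgroup.mul_mem _ hτF (Subgroup.mul_mem _ hβ hα₀), fun x => ?_, fun x hx => ?_⟩
  · rw [MulAut.mul_apply, hτ, C.t_conj hg ((β * α₀) x).2, C.s_conj hg ((β * α₀) x).2,
      C.u_conj hg ((β * α₀) x).2, ht, hs, (h8 x).2.2, haa, hbb, hg1, hg2]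
    refine ⟨rfl, rfl, ?_⟩
    have hane : (a : K) ≠ 0 := a.ne_zero
    have hbne : (b : K) ≠ 0 := b.ne_zero
    field_simp
    linear_combination (ρ₂ * C.s x) * h20
  · have h11 := h9 x hx
    rw [haa, hbb] at h11
    have h12 : (((τ * (β * α₀)) x : S) : Ω) = ((β * α₀) x : S) := by
      rw [MulAut.mul_apply, hτ, ← C.Z1_comm h11.1 hg, mul_inv_cancel_right]
    rw [h12]
    exact h11

end main

end Cfsg.Agent.H780
end
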