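import Cfsg.Agent.H780.SpTwo_mg
import Cfsg.Agent.H781.Realized
import Cfsg.Agent.GH.C2SevenBase
import Cfsg.Agent.H783.ChainStab
import Cfsg.Agent.H780.SpTwoData
import Cfsg.Agent.H781.Transport
import Cfsg.Agent.S5082
set_option linter.all false

-- part: H131/TwoDataExt
section
/-!
# The system of an extension satisfies the data (helper131, task S5260-R2)
-/

set_option autoImplicit false
set_option linter.unusedSimpArgs false
set_option linter.unusedVariables false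

universe u v w

namespace Cfsg.Agent.H131.TwoDataExt

open Cfsg Cfsg.FusionSystem Cfsg.Agent.H780 Cfsg.Agent.H454.AlperinGL3 Cfsg.Agent.H802 Cfsg.Agent.H781
open Matrix
open scoped MatrixGroups

section gl

variable {K : Type v} [Field K] {Δ : Subgroup Kˣ}

theorem card_T [Finite K] : Nat.card (T Δ) = Nat.card K ^ 3 := by
  have h : Nat.card (K × K × K) = Nat.card (T Δ) := by
    refine Nat.card_congr (Equiv.ofBijective (fun x : K × K × K => (⟨xx Δ x.1 x.2.1 x.2.2, xx_mem _ _ _⟩ : T Δ)) ⟨?_, ?_⟩)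
    · rintro ⟨a, b, c⟩ ⟨a', b', c'⟩ h
      have h1 : xx Δ a b c = xx Δ a' b' c' := congrArg Subtype.val h
      obtain ⟨e1, e2, e3⟩ := xx_coord (Δ := Δ) a b c
      obtain ⟨f1, f2, f3⟩ := xx_coord (Δ := Δ) a' b' c'
      rw [h1] at e1 e2 e3
      rw [← e1, ← e2, ← e3, f1, f2, f3]
    · rintro ⟨x, hx⟩
      exact ⟨(x.1.1 0 1, x.1.1 1 2, x.1.1 0 2), Subtype.ext (eq_xx hx).symm⟩
  rw [← h, Nat.card_prod, Nat.card_prod]
  ring

/-- `T` has odd index. -/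
theorem index_T [Finite K] [CharP K 2] : ¬ 2 ∣ (T Δ).index := by
  classical
  have : Fintype K := Fintype.ofFinite K
  have hpos : 0 < Nat.card K := Nat.card_pos
  have heven : 2 ∣ Nat.card K := by
    have h : ((Fintype.card K : ℕ) : K) = 0 := Nat.cast_card_eq_zero K
    rw [Nat.card_eq_fintype_card]
    exact (CharP.cast_eq_zero_iff K 2 _).1 h
  have h1 : Nat.card (GD Δ) ∣ Nat.card (GL (Fin 3) K) := Subgroup.card_subgroup_dvd_card _
  have h2 := Matrix.card_GL_field (𝔽 := K) 3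
  rw [Fin.prod_univ_three] at h2
  have h3 : Nat.card (T Δ) * (T Δ).index = Nat.card (GD Δ) := Subgroup.card_mul_index _
  obtain ⟨q, hq⟩ : ∃ q, q = Nat.card K := ⟨_, rfl⟩
  have hF : Fintype.card K = q := by rw [hq, Nat.card_eq_fintype_card]
  rw [card_T, ← hq] at h3
  rw [← h3, h2, hF] at h1
  rw [← hq] at hpos heven
  have h4 : (q ^ 3 - q ^ ((0 : Fin 3) : ℕ)) * (q ^ 3 - q ^ ((1 : Fin 3) : ℕ)) * (q ^ 3 - q ^ ((2 : Fin 3) : ℕ)) =
      q ^ 3 * ((q ^ 3 - 1) * (q ^ 2 - 1) * (q - 1)) := by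
    have e0 : q ^ ((0 : Fin 3) : ℕ) = 1 := by simp
    have e1 : q ^ 3 - q ^ ((1 : Fin 3) : ℕ) = q * (q ^ 2 - 1) := by
      rw [Nat.mul_sub]
      simp only [Fin.val_one, pow_one, mul_one]
      ring_nf
    have e2 : q ^ 3 - q ^ ((2 : Fin 3) : ℕ) = q ^ 2 * (q - 1) := by
      rw [Nat.mul_sub]
      simp only [Fin.val_two, mul_one]
      ring_nf
    rw [e0, e1, e2]
    ring
  rw [h4] at h1
  have h5 : (T Δ).index ∣ (q ^ 3 - 1) * (q ^ 2 - 1) * (q - 1) := Nat.dvd_of_mul_dvd_mul_left (pow_pos hpos 3) h1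
  intro h6
  have h7 := h6.trans h5
  have h8 : ∀ k, 1 ≤ k → ¬ 2 ∣ q ^ k - 1 := by
    intro k hk hd
    have h9 : 2 ∣ q ^ k := heven.trans (dvd_pow_self q (by omega))
    have h10 : 1 ≤ q ^ k := Nat.one_le_pow _ _ hpos
    omega
  rcases Nat.prime_two.dvd_mul.1 h7 with h | h
  · rcases Nat.prime_two.dvd_mul.1 h with h | h
    · exact h8 3 (by norm_num) h
    · exact h8 2 (by norm_num) h
  · have := h8 1 le_rfl
    rw [pow_one] at this
    exact this h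

/-- an element normalising `T` is upper triangular -/
theorem up_of_T {g : GD Δ} (hg : ∀ y ∈ T Δ, g * y * g⁻¹ ∈ T Δ) : Up g.1.1 := by
  have key : ∀ a b c : K, ∀ i j, (g * xx Δ a b c * g⁻¹ : GD Δ).1.1 i j = (if i = j then 1 else 0) +
      (g.1.1 i 0 * a * (g.1⁻¹).1 1 j + g.1.1 i 0 * c * (g.1⁻¹).1 2 j + g.1.1 i 1 * b * (g.1⁻¹).1 2 j) := by
    intro a b c i j
    have e := mul_entry g.1 g.1⁻¹ i j
    rw [mul_inv_cancel, one_entry] at e
    have h1 : (g * xx Δ a b c * g⁻¹ : GD Δ).1.1 i j = (g.1 * (xx Δ a b c).1 * g.1⁻¹).1 i j := rfl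
    rw [h1, mul_entry, mul_entry, mul_entry, mul_entry, e, xx_val]
    simp
    ring
  have h1 := hg _ (xx_mem 0 0 1)
  have h2 := hg _ (xx_mem 0 1 0)
  have h3 := hg _ (xx_mem 1 0 0)
  have k1 := key 0 0 1
  have k2 := key 0 1 0
  have k3 := key 1 0 0
  obtain ⟨⟨a10, a20, a21⟩, ad⟩ := h1
  obtain ⟨⟨b10, b20, b21⟩, bd⟩ := h2
  obtain ⟨⟨c10, c20, c21⟩, cd⟩ := h3
  rw [k1, if_neg (by decide)] at a10 a20 a21
  rw [k2, if_neg (by decide)] at b10 b20 b21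
  rw [k3, if_neg (by decide)] at c10 c20 c21
  have ad' := fun i => (k1 i i).symm.trans (ad i)
  have bd' := fun i => (k2 i i).symm.trans (bd i)
  have cd' := fun i => (k3 i i).symm.trans (cd i)
  simp only [if_true, mul_zero, zero_mul, mul_one, add_zero, zero_add] at a10 a20 a21 b10 b20 b21 c10 c20 c21 ad' bd' cd'
  have r22 := mul_entry g.1⁻¹ g.1 2 2
  have r00 := mul_entry g.1⁻¹ g.1 0 0
  rw [inv_mul_cancel, one_entry, if_pos rfl] at r22 r00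
  have ad2 := ad' 2
  have ad1 := ad' 1
  have ad0 := ad' 0
  have m20 : g.1.1 2 0 = 0 := by
    have h : g.1.1 2 0 * (g.1⁻¹).1 2 2 = 0 := by linear_combination ad2
    linear_combination g.1.1 2 0 * r22 + g.1.1 0 2 * a20 + g.1.1 1 2 * a21 + g.1.1 2 2 * h
  have n20 : (g.1⁻¹).1 2 0 = 0 := by
    have h : g.1.1 0 0 * (g.1⁻¹).1 2 0 = 0 := by linear_combination ad0
    linear_combination (g.1⁻¹).1 2 0 * r00 + (g.1⁻¹).1 0 0 * h + (g.1⁻¹).1 0 1 * a10 + (g.1⁻¹).1 0 2 * a20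
  have hor : g.1.1 1 0 * (g.1⁻¹).1 2 1 = 0 := by linear_combination ad1
  rcases mul_eq_zero.1 hor with h | h
  · -- first column
    have m21 : g.1.1 2 1 = 0 := by
      have h' : g.1.1 2 1 * (g.1⁻¹).1 2 2 = 0 := by linear_combination bd' 2
      linear_combination g.1.1 2 1 * r22 + g.1.1 0 2 * b20 + g.1.1 1 2 * b21 + g.1.1 2 2 * h'
    exact ⟨h, m20, m21⟩
  · have hr := row_inv (g := g.1⁻¹) n20 h
    rw [inv_inv] at hr
    obtain ⟨-, m21, -⟩ := hr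
    have m10 : g.1.1 1 0 = 0 := by
      have h' : g.1.1 1 0 * (g.1⁻¹).1 1 1 = 0 := by linear_combination cd' 1
      have r11 := mul_entry g.1⁻¹ g.1 1 1
      have s00 := mul_entry g.1 g.1⁻¹ 0 0
      have r10 := mul_entry g.1⁻¹ g.1 1 0
      rw [inv_mul_cancel, one_entry, if_pos rfl] at r11
      rw [mul_inv_cancel, one_entry, if_pos rfl] at s00
      rw [inv_mul_cancel, one_entry, if_neg (by decide)] at r10
      rw [m21] at r11
      linear_combination g.1.1 1 0 * r11 + g.1.1 0 1 * c10 + g.1.1 1 1 * h'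
    exact ⟨m10, m20, m21⟩

end gl

section fus

variable {Ω : Type u} [Group Ω] {S : Subgroup Ω} {E : Type w} [Group E]

/-- automorphisms of the pulled back system come from elements -/
theorem aut_elt {ι : S →* E} (hι : Function.Injective ι) {P : Subgroup Ω} (hP : P ≤ S) {α : MulAut P}
    (hα : α ∈ (pullback ι hι).autGroup P) :
    ∃ e : E, ∀ x : P, ι ⟨(α x : P), hP (α x).2⟩ = e * ι ⟨x, hP x.2⟩ * e⁻¹ := by
  obtain ⟨_, _, g, hg⟩ := (mem_autGroup_iff _ hP α).1 hα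
  exact ⟨g, hg⟩

/-- conversely -/
theorem elt_aut [Finite S] {ι : S →* E} (hι : Function.Injective ι) {P : Subgroup Ω} (hP : P ≤ S) (e : E)
    (he : ∀ x : P, ∃ y : P, e * ι ⟨x, hP x.2⟩ * e⁻¹ = ι ⟨y, hP y.2⟩) :
    ∃ α ∈ (pullback ι hι).autGroup P, ∀ x : P, ι ⟨(α x : P), hP (α x).2⟩ = e * ι ⟨x, hP x.2⟩ * e⁻¹ := by
  have : Finite P := finite_of_le hP
  choose f hf using he
  have hinj : ∀ {a b : P}, ι ⟨a, hP a.2⟩ = ι ⟨b, hP b.2⟩ → a = b := by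
    intro a b hab
    exact Subtype.ext (congrArg (fun x : S => (x : Ω)) (hι hab))
  have hmul : ∀ x y : P, f (x * y) = f x * f y := by
    intro x y
    apply hinj
    rw [← hf]
    have h1 : ι ⟨((f x * f y : P) : Ω), hP (f x * f y).2⟩ = ι ⟨f x, hP (f x).2⟩ * ι ⟨f y, hP (f y).2⟩ := by
      rw [← map_mul]
      rfl
    have h2 : ι ⟨((x * y : P) : Ω), hP (x * y).2⟩ = ι ⟨x, hP x.2⟩ * ι ⟨y, hP y.2⟩ := by
      rw [← map_mul]
      rfl
    rw [h1, h2, ← hf, ← hf]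
    group
  let φ : P →* Ω := MonoidHom.mk' (fun x => (f x : Ω)) (fun x y => by rw [hmul]; rfl)
  have hφ : φ ∈ (pullback ι hι).Hom P := ⟨hP, fun x => hP (f x).2, e, fun x => (hf x).symm⟩
  obtain ⟨α, hα, hα'⟩ := exists_aut hφ (range_eq_of_mapsTo hφ fun x => (f x).2)
  refine ⟨α, hα, fun x => ?_⟩
  rw [hf x]
  congr 1
  exact Subtype.ext (hα' x)

end fus

section main

variable {Ω : Type u} [Group Ω] {S : Subgroup Ω} {K : Type v} [Field K] {C : SpC S K} {Δ : Subgroup Kˣ}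
  {E : Type w} [Group E] {ι : S →* E} {ρ : E →* GD Δ}

/-- elements over `T` -/
theorem exists_of_T (h : ExtData C Δ ι ρ) {e : E} (he : ρ e ∈ T Δ) : ∃ x : S, e = ι x := by
  obtain ⟨x, hx, h1, h2, h3, -⟩ := C.surj ((ρ e).1.1 0 1) ((ρ e).1.1 1 2) ((ρ e).1.1 0 2) 0
  have h4 : ρ (e * (ι ⟨x, hx⟩)⁻¹) = 1 := by
    rw [map_mul, map_inv, h.comp]
    show ρ e * (xx Δ (C.t x) (C.s x) (C.u x))⁻¹ = 1
    rw [h1, h2, h3, ← eq_xx he, mul_inv_cancel]
  obtain ⟨y, -, hy⟩ := h.ker _ h4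
  exact ⟨y * ⟨x, hx⟩, by rw [map_mul, ← hy, inv_mul_cancel_right]⟩

theorem rho_mem (h : ExtData C Δ ι ρ) (x : S) : ρ (ι x) ∈ T Δ := by
  rw [h.comp]
  exact xx_mem _ _ _

theorem range_eq (h : ExtData C Δ ι ρ) : ι.range = (T Δ).comap ρ := by
  ext e
  constructor
  · rintro ⟨x, rfl⟩
    exact rho_mem h x
  · intro he
    obtain ⟨x, hx⟩ := exists_of_T h he
    exact ⟨x, hx.symm⟩

/-- the basic relations for the coordinates, when `g` is upper triangular -/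
theorem rel_up {g : GD Δ} (hg : Up g.1.1) {t s u t' s' u' : K}
    (h : xx Δ t' s' u' * g = g * xx Δ t s u) :
    g.1.1 0 0 * t = t' * g.1.1 1 1 ∧ g.1.1 1 1 * s = s' * g.1.1 2 2 ∧
      g.1.1 0 0 * u + g.1.1 0 1 * s = t' * g.1.1 1 2 + u' * g.1.1 2 2 := by
  obtain ⟨h1, h2, h3⟩ := hg
  have e : ∀ i j, ((xx Δ t' s' u').1 * g.1).1 i j = (g.1 * (xx Δ t s u).1).1 i j := fun i j =>
    congrArg (fun y : GD Δ => y.1.1 i j) h
  have e01 := e 0 1
  have e12 := e 1 2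
  have e02 := e 0 2
  rw [mul_entry, mul_entry, xx_val, xx_val] at e01 e12 e02
  simp [h1, h2, h3] at e01 e12 e02
  refine ⟨?_, ?_, ?_⟩
  · linear_combination (-1 : K) * e01
  · linear_combination (-1 : K) * e12
  · linear_combination (-1 : K) * e02

theorem rel_M {g : GD Δ} (h0 : g.1.1 2 0 = 0) (h1 : g.1.1 2 1 = 0) {s u s' u' : K}
    (h : xx Δ 0 s' u' * g = g * xx Δ 0 s u) :
    g.1.1 0 0 * u + g.1.1 0 1 * s = u' * g.1.1 2 2 ∧ g.1.1 1 0 * u + g.1.1 1 1 * s = s' * g.1.1 2 2 := by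
  have e : ∀ i j, ((xx Δ 0 s' u').1 * g.1).1 i j = (g.1 * (xx Δ 0 s u).1).1 i j := fun i j =>
    congrArg (fun y : GD Δ => y.1.1 i j) h
  have e12 := e 1 2
  have e02 := e 0 2
  rw [mul_entry, mul_entry, xx_val, xx_val] at e12 e02
  simp [h0, h1] at e12 e02
  refine ⟨?_, ?_⟩
  · linear_combination (-1 : K) * e02
  · linear_combination (-1 : K) * e12

theorem rel_M' {g : GD Δ} (h0 : g.1.1 1 0 = 0) (h1 : g.1.1 2 0 = 0) {t u t' u' : K}
    (h : xx Δ t' 0 u' * g = g * xx Δ t 0 u) :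
    g.1.1 0 0 * t = t' * g.1.1 1 1 + u' * g.1.1 2 1 ∧ g.1.1 0 0 * u = t' * g.1.1 1 2 + u' * g.1.1 2 2 := by
  have e : ∀ i j, ((xx Δ t' 0 u').1 * g.1).1 i j = (g.1 * (xx Δ t 0 u).1).1 i j := fun i j =>
    congrArg (fun y : GD Δ => y.1.1 i j) h
  have e01 := e 0 1
  have e02 := e 0 2
  rw [mul_entry, mul_entry, xx_val, xx_val] at e01 e02
  simp [h0, h1] at e01 e02
  refine ⟨?_, ?_⟩
  · linear_combination (-1 : K) * e01
  · linear_combination (-1 : K) * e02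

/-- from conjugation in `E` to the matrix relation -/
theorem rel_of (h : ExtData C Δ ι ρ) {e : E} {x y : S} (hxy : ι y = e * ι x * e⁻¹) :
    xx Δ (C.t y) (C.s y) (C.u y) * ρ e = ρ e * xx Δ (C.t x) (C.s x) (C.u x) := by
  rw [← h.comp, ← h.comp, ← map_mul, ← map_mul, hxy, inv_mul_cancel_right]

/-- the action on `Z₁` -/
theorem z_of (h : ExtData C Δ ι ρ) {e : E} {x y : S} (hxy : ι y = e * ι x * e⁻¹) (hx : (x : Ω) ∈ C.Z1) :
    (y : Ω) ∈ C.Z1 ∧ C.z y * ((Matrix.GeneralLinearGroup.det (ρ e).1 : Kˣ) : K) = C.z x := by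
  have hd : ((Matrix.GeneralLinearGroup.det (ρ e).1 : Kˣ) : K) ≠ 0 := Units.ne_zero _
  obtain ⟨w, hw, h1, h2, h3, h4⟩ := C.surj 0 0 0 (C.z x / ((Matrix.GeneralLinearGroup.det (ρ e).1 : Kˣ) : K))
  have hwZ : w ∈ C.Z1 := ⟨hw, h1, h2, h3⟩
  have h5 := h.conj e x ⟨w, hw⟩ hx hwZ (by
    show C.z w * _ = _
    rw [h4, div_mul_cancel₀ _ hd])
  have h6 : y = ⟨w, hw⟩ := h.inj (hxy.trans h5)
  rw [h6]
  refine ⟨hwZ, ?_⟩
  show C.z w * _ = _
  rw [h4, div_mul_cancel₀ _ hd]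

/-- `ρ e` normalises `T` if `e` normalises the image of `S` -/
theorem up_of (h : ExtData C Δ ι ρ) {e : E} (he : ∀ x : S, ∃ y : S, ι y = e * ι x * e⁻¹) : Up (ρ e).1.1 := by
  apply up_of_T
  intro y hy
  rw [eq_xx hy]
  obtain ⟨x, hx, h1, h2, h3, -⟩ := C.surj (y.1.1 0 1) (y.1.1 1 2) (y.1.1 0 2) 0
  obtain ⟨w, hw⟩ := he ⟨x, hx⟩
  have h4 := h.comp ⟨x, hx⟩
  have h5 : ρ (ι w) = ρ e * ρ (ι ⟨x, hx⟩) * (ρ e)⁻¹ := by
    rw [hw, map_mul, map_mul, map_inv]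
  rw [h4] at h5
  have h6 : xx Δ (C.t x) (C.s x) (C.u x) = xx Δ (y.1.1 0 1) (y.1.1 1 2) (y.1.1 0 2) := by rw [h1, h2, h3]
  have h7 : ρ e * xx Δ (y.1.1 0 1) (y.1.1 1 2) (y.1.1 0 2) * (ρ e)⁻¹ = ρ (ι w) := by
    rw [h5, ← h6]
  rw [h7]
  exact rho_mem h w

/-- conversely -/
theorem norm_of (h : ExtData C Δ ι ρ) {e : E} (he : Up (ρ e).1.1) (x : S) : ∃ y : S, e * ι x * e⁻¹ = ι y := by
  apply exists_of_T h
  rw [map_mul, map_mul, map_inv]
  exact (Subgroup.mem_normalizer_iff.1 (up_mem_normalizer he) _).1 (rho_mem h x)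

theorem mem_M_iff' (h : ExtData C Δ ι ρ) {e : E} (he : ρ e ∈ M Δ) : ∃ x : S, (x : Ω) ∈ C.M ∧ e = ι x := by
  obtain ⟨x, rfl⟩ := exists_of_T h (M_le_T he)
  refine ⟨x, ⟨x.2, ?_⟩, rfl⟩
  have h1 := he.2
  rw [h.comp, (xx_coord _ _ _).1] at h1
  exact h1

theorem mem_M'_iff' (h : ExtData C Δ ι ρ) {e : E} (he : ρ e ∈ M' Δ) : ∃ x : S, (x : Ω) ∈ C.L 0 ∧ e = ι x := by
  obtain ⟨x, rfl⟩ := exists_of_T h (M'_le_T he)
  refine ⟨x, ⟨x.2, ?_⟩, rfl⟩
  have h1 := he.2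
  rw [h.comp, (xx_coord _ _ _).2.1] at h1
  rw [h1, zero_mul]

theorem rho_mem_M (h : ExtData C Δ ι ρ) {x : S} (hx : (x : Ω) ∈ C.M) : ρ (ι x) ∈ M Δ := by
  refine ⟨rho_mem h x, ?_⟩
  rw [h.comp, (xx_coord _ _ _).1]
  exact hx.2

theorem rho_mem_M' (h : ExtData C Δ ι ρ) {x : S} (hx : (x : Ω) ∈ C.L 0) : ρ (ι x) ∈ M' Δ := by
  refine ⟨rho_mem h x, ?_⟩
  rw [h.comp, (xx_coord _ _ _).2.1]
  rw [hx.2, zero_mul]

/-- `e` normalising `ι(M)` -/
theorem norm_M (h : ExtData C Δ ι ρ) {e : E} {N : Subgroup Ω} {NΔ : Subgroup (GD Δ)} [Finite NΔ]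
    (hN : N ≤ S) (h1 : ∀ y ∈ NΔ, ∃ x : S, (x : Ω) ∈ N ∧ ρ (ι x) = y) (h2 : ∀ x : S, (x : Ω) ∈ N → ρ (ι x) ∈ NΔ)
    (he : ∀ x : N, ∃ y : N, ι ⟨y, hN y.2⟩ = e * ι ⟨x, hN x.2⟩ * e⁻¹) :
    ρ e ∈ Subgroup.normalizer (NΔ : Set (GD Δ)) := by
  apply Subgroup.mem_normalizer_fintype
  intro y hy
  obtain ⟨x, hx, rfl⟩ := h1 y hy
  obtain ⟨w, hw⟩ := he ⟨x, hx⟩
  have h3 : ρ e * ρ (ι x) * (ρ e)⁻¹ = ρ (ι ⟨w, hN w.2⟩) := by
    rw [hw, map_mul, map_mul, map_inv]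
  rw [h3]
  exact h2 _ w.2

end main

section final

variable {Ω : Type u} [Group Ω] {S : Subgroup Ω} {K : Type v} [Field K]

theorem ext_M {C : SpC S K} {Δ : Subgroup Kˣ} {E : Type w} [Group E] {ι : S →* E} {ρ : E →* GD Δ}
    [Finite K] (h : ExtData C Δ ι ρ) {e : E} {N : Subgroup Ω} (hN : N ≤ S) {α : MulAut N}
    (he : ∀ x : N, ι ⟨(α x : N), hN (α x).2⟩ = e * ι ⟨x, hN x.2⟩ * e⁻¹) [Finite S] (hup : Up (ρ e).1.1) :
    ∃ β ∈ (pullback ι h.inj).autGroup S, ∀ (x : Ω) (hx : x ∈ N) (hx' : x ∈ S),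
      ((β ⟨x, hx'⟩ : S) : Ω) = (α ⟨x, hx⟩ : N) := by
  obtain ⟨β, hβ, hβe⟩ := elt_aut h.inj (le_refl S) e (fun x => norm_of h hup x)
  refine ⟨β, hβ, fun x hx hx' => ?_⟩
  have h1 := he ⟨x, hx⟩
  have h2 := hβe ⟨x, hx'⟩
  exact congrArg (fun y : S => (y : Ω)) (h.inj (h2.trans h1.symm))

/-- **task S5260-R2: `twoData_of_extData`** -/
theorem twoData_of_extData {Ω : Type u} [Group Ω] {S : Subgroup Ω} {K : Type v} [Field K] [Finite K] [CharP K 2]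
    [Finite S] (hS : IsPGroup 2 S) {C : SpC S K} {Δ : Subgroup Kˣ} (hK : ∀ c : K, c ≠ 0 → c ^ 3 = 1)
    {E : Type w} [Group E] [Finite E] {ι : S →* E} {ρ : E →* GD Δ} (h : ExtData C Δ ι ρ) :
    ∃ F₁ : FusionSystem S, F₁.IsRealizedBy ι ∧ F₁.IsSaturated 2 ∧ (∃ T : Sylow 2 E, (T : Subgroup E) = ι.range) ∧
      TwoData F₁ C Δ := by
  have : Fact (Nat.Prime 2) := ⟨Nat.prime_two⟩
  have hindex : ¬ 2 ∣ ι.range.index := by
    rw [range_eq h, Subgroup.index_comap_of_surjective _ h.surj]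
    exact index_T
  have hrange : IsPGroup 2 ι.range := hS.of_surjective ι.rangeRestrict ι.rangeRestrict_surjective
  have hreal := pullback_isRealizedBy ι h.inj
  have hM : C.M ≤ S := C.M_le
  have hL : C.L 0 ≤ S := C.L_le 0
  have h2K : (2 : K) = 0 := CharTwo.two_eq_zero
  have hneg : ∀ x : K, -x = x := fun x => CharTwo.neg_eq x
  have hnM : ∀ {e : E}, (∀ x : C.M, ∃ y : C.M, ι ⟨y, hM y.2⟩ = e * ι ⟨x, hM x.2⟩ * e⁻¹) →
      (ρ e).1.1 2 0 = 0 ∧ (ρ e).1.1 2 1 = 0 := by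
    intro e he
    apply mem_normalizer_M_iff.1
    refine norm_M h hM ?_ (fun x hx => rho_mem_M h hx) he
    intro y hy
    obtain ⟨e', rfl⟩ := h.surj y
    obtain ⟨x, hx, rfl⟩ := mem_M_iff' h hy
    exact ⟨x, hx, rfl⟩
  have hnL : ∀ {e : E}, (∀ x : C.L 0, ∃ y : C.L 0, ι ⟨y, hL y.2⟩ = e * ι ⟨x, hL x.2⟩ * e⁻¹) →
      (ρ e).1.1 1 0 = 0 ∧ (ρ e).1.1 2 0 = 0 := by
    intro e he
    apply mem_normalizer_M'_iff.1
    refine norm_M h hL ?_ (fun x hx => rho_mem_M' h hx) he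
    intro y hy
    obtain ⟨e', rfl⟩ := h.surj y
    obtain ⟨x, hx, rfl⟩ := mem_M'_iff' h hy
    exact ⟨x, hx, rfl⟩
  -- relations on `M` and `L`
  have relM : ∀ {e : E}, (ρ e).1.1 2 0 = 0 → (ρ e).1.1 2 1 = 0 → ∀ {x y : S}, (x : Ω) ∈ C.M → (y : Ω) ∈ C.M →
      ι y = e * ι x * e⁻¹ →
      (ρ e).1.1 0 0 * C.u x + (ρ e).1.1 0 1 * C.s x = C.u y * (ρ e).1.1 2 2 ∧
        (ρ e).1.1 1 0 * C.u x + (ρ e).1.1 1 1 * C.s x = C.s y * (ρ e).1.1 2 2 := by
    intro e h0 h1 x y hx hy hxy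
    have h2 := rel_of h hxy
    rw [hx.2, hy.2] at h2
    exact rel_M h0 h1 h2
  have relL : ∀ {e : E}, (ρ e).1.1 1 0 = 0 → (ρ e).1.1 2 0 = 0 → ∀ {x y : S}, (x : Ω) ∈ C.L 0 → (y : Ω) ∈ C.L 0 →
      ι y = e * ι x * e⁻¹ →
      (ρ e).1.1 0 0 * C.t x = C.t y * (ρ e).1.1 1 1 + C.u y * (ρ e).1.1 2 1 ∧
        (ρ e).1.1 0 0 * C.u x = C.t y * (ρ e).1.1 1 2 + C.u y * (ρ e).1.1 2 2 := by
    intro e h0 h1 x y hx hy hxy
    have h2 := rel_of h hxy
    rw [hx.2, hy.2, zero_mul, zero_mul] at h2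
    exact rel_M' h0 h1 h2
  refine ⟨pullback ι h.inj, hreal, isSaturated_of_isRealizedBy hreal (hrange.toSylow hindex)
    (IsPGroup.toSylow_coe _ _), ⟨hrange.toSylow hindex, IsPGroup.toSylow_coe _ _⟩, ?_⟩
  constructor
  · -- autS
    intro α hα
    obtain ⟨e, he⟩ := aut_elt h.inj le_rfl hα
    have he' : ∀ x : S, ι (α x) = e * ι x * e⁻¹ := he
    have hup := up_of h (fun x => ⟨α x, he' x⟩)
    have d0 := hup.diag_mul_inv 0
    have d1 := hup.diag_mul_inv 1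
    have d2 := hup.diag_mul_inv 2
    have n0 : (ρ e).1.1 0 0 ≠ 0 := left_ne_zero_of_mul_eq_one d0
    have n1 : (ρ e).1.1 1 1 ≠ 0 := left_ne_zero_of_mul_eq_one d1
    have n2 : (ρ e).1.1 2 2 ≠ 0 := left_ne_zero_of_mul_eq_one d2
    have hdet := det_entries (ρ e).1
    rw [hup.1, hup.2.1, hup.2.2] at hdet
    obtain ⟨x1, hx1⟩ : ∃ x1, x1 = (ρ e).1.1 0 0 := ⟨_, rfl⟩
    obtain ⟨x2, hx2⟩ : ∃ x2, x2 = (ρ e).1.1 1 1 := ⟨_, rfl⟩
    obtain ⟨x3, hx3⟩ : ∃ x3, x3 = (ρ e).1.1 2 2 := ⟨_, rfl⟩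
    have hrel : ∀ x : S, _ := fun x => rel_up hup (rel_of h (he' x))
    rw [← hx1] at n0
    rw [← hx2] at n1
    rw [← hx3] at n2
    rw [← hx1, ← hx2, ← hx3] at hdet
    simp only [← hx1, ← hx2, ← hx3] at hrel
    have c1 := hK x1 n0
    let a : Kˣ := Units.mk0 (x1 / x2) (div_ne_zero n0 n1)
    let b : Kˣ := Units.mk0 (x2 / x3) (div_ne_zero n1 n2)
    have hab : a ^ 2 * b = (Matrix.GeneralLinearGroup.det (ρ e).1)⁻¹ := by
      apply Units.ext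
      rw [Units.val_inv_eq_inv_val, hdet]
      show (x1 / x2) ^ 2 * (x2 / x3) = _
      have : x1 * x2 * x3 - x1 * (ρ e).1.1 1 2 * 0 - (ρ e).1.1 0 1 * 0 * x3 + (ρ e).1.1 0 1 * (ρ e).1.1 1 2 * 0 +
        (ρ e).1.1 0 2 * 0 * 0 - (ρ e).1.1 0 2 * x2 * 0 = x1 * x2 * x3 := by ring
      rw [this]
      field_simp
      linear_combination c1
    refine ⟨a, b, ?_, -((ρ e).1.1 1 2 / x3) * (x1 / x2), (ρ e).1.1 0 1 / x3, ?_, ?_⟩
    · rw [hab]
      exact inv_mem (ρ e).2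
    · intro x
      obtain ⟨e1, e2, e3⟩ := hrel x
      have f1 : C.t (α x : S) = x1 / x2 * C.t x := by
        field_simp
        linear_combination -e1
      have f2 : C.s (α x : S) = x2 / x3 * C.s x := by
        field_simp
        linear_combination -e2
      refine ⟨f1, f2, ?_⟩
      show C.u (α x : S) = x1 / x2 * (x2 / x3) * C.u x + -((ρ e).1.1 1 2 / x3) * (x1 / x2) * C.t x + (ρ e).1.1 0 1 / x3 * C.s x
      rw [f1] at e3
      field_simp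
      field_simp at e3
      linear_combination -e3
    · intro x hx
      obtain ⟨z1, z2⟩ := z_of h (he' x) hx
      refine ⟨z1, ?_⟩
      have h3 : ((a ^ 2 * b : Kˣ) : K) * ((Matrix.GeneralLinearGroup.det (ρ e).1 : Kˣ) : K) = 1 := by
        rw [hab, Units.inv_mul]
      have h4 : ((a : K)) ^ 2 * (b : K) = ((a ^ 2 * b : Kˣ) : K) := by push_cast; ring
      rw [h4, ← z2]
      linear_combination (-C.z (α x : S)) * h3
  · -- exS
    intro a b hab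
    have ca := hK a a.ne_zero
    have cb := hK b b.ne_zero
    obtain ⟨g, hg⟩ : ∃ g : GD Δ, g.1.1 = !![(a : K) * b, 0, 0; 0, (b : K), 0; 0, 0, 1] :=
      ⟨mk _ (a ^ 2 * b)⁻¹ (by
        rw [Units.val_inv_eq_inv_val]
        apply eq_inv_of_mul_eq_one_left
        rw [Matrix.det_fin_three]
        push_cast
        simp
        linear_combination (b : K) ^ 3 * ca + cb) (inv_mem hab), rfl⟩
    obtain ⟨e, rfl⟩ := h.surj g
    have g00 : (ρ e).1.1 0 0 = a * b := by rw [hg]; rfl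
    have g01 : (ρ e).1.1 0 1 = 0 := by rw [hg]; rfl
    have g11 : (ρ e).1.1 1 1 = b := by rw [hg]; rfl
    have g12 : (ρ e).1.1 1 2 = 0 := by rw [hg]; rfl
    have g22 : (ρ e).1.1 2 2 = 1 := by rw [hg]; rfl
    have g02 : (ρ e).1.1 0 2 = 0 := by rw [hg]; rfl
    have hup : Up (ρ e).1.1 := by
      refine ⟨?_, ?_, ?_⟩ <;> rw [hg] <;> rfl
    have hdet := det_entries (ρ e).1
    rw [hup.1, hup.2.1, hup.2.2, g00, g11, g22] at hdet
    obtain ⟨α, hα, hαe⟩ := elt_aut h.inj (le_refl S) e (fun x => norm_of h hup x)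
    have hαe' : ∀ x : S, ι (α x) = e * ι x * e⁻¹ := hαe
    refine ⟨α, hα, fun x => ?_, fun x hx => ?_⟩
    · obtain ⟨e1, e2, e3⟩ := rel_up hup (rel_of h (hαe' x))
      rw [g00, g11] at e1
      rw [g11, g22] at e2
      rw [g00, g01, g12, g22] at e3
      refine ⟨?_, ?_, ?_⟩
      · apply mul_right_cancel₀ b.ne_zero
        linear_combination -e1
      · linear_combination -e2
      · linear_combination -e3
    · obtain ⟨z1, z2⟩ := z_of h (hαe' x) hx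
      refine ⟨z1, ?_⟩
      rw [hdet] at z2
      rw [← z2]
      linear_combination (-C.z (α x : S)) * ((b : K) ^ 3 * ca + cb)
  · -- Z1M
    intro α hα x hx
    obtain ⟨e, he⟩ := aut_elt h.inj hM hα
    exact (z_of h (he x) hx).1
  · -- Z1L
    intro α hα x hx
    obtain ⟨e, he⟩ := aut_elt h.inj hL hα
    exact (z_of h (he x) hx).1
  · -- nM
    obtain ⟨e, he⟩ := h.surj (s1 Δ)
    obtain ⟨n, hn, hne⟩ := elt_aut h.inj hM e (fun x => by
      have h1 : ρ (e * ι ⟨x, hM x.2⟩ * e⁻¹) ∈ M Δ := by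
        rw [map_mul, map_mul, map_inv, he]
        exact (Subgroup.mem_normalizer_iff.1 s1_mem _).1 (rho_mem_M h x.2)
      obtain ⟨y, hy, hye⟩ := mem_M_iff' h h1
      exact ⟨⟨y, hy⟩, hye⟩)
    have g00 : (ρ e).1.1 0 0 = 0 := by rw [he, s1_val]; rfl
    have g01 : (ρ e).1.1 0 1 = 1 := by rw [he, s1_val]; rfl
    have g10 : (ρ e).1.1 1 0 = -1 := by rw [he, s1_val]; rfl
    have g11 : (ρ e).1.1 1 1 = 0 := by rw [he, s1_val]; rfl
    have g20 : (ρ e).1.1 2 0 = 0 := by rw [he, s1_val]; rfl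
    have g21 : (ρ e).1.1 2 1 = 0 := by rw [he, s1_val]; rfl
    have g22 : (ρ e).1.1 2 2 = 1 := by rw [he, s1_val]; rfl
    have hdet := det_entries (ρ e).1
    rw [g00, g01, g10, g11, g20, g21, g22] at hdet
    refine ⟨n, hn, fun x hx => ?_, fun x => ?_⟩
    · obtain ⟨z1, z2⟩ := z_of h (hne x) hx
      apply Subtype.ext
      rw [hdet] at z2
      apply C.inj (hM (n x).2) (hM x.2)
      · rw [z1.2.1, hx.2.1]
      · rw [z1.2.2.1, hx.2.2.1]
      · rw [z1.2.2.2, hx.2.2.2]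
      · linear_combination z2
    · obtain ⟨e1, e2⟩ := relM g20 g21 (x := ⟨x, hM x.2⟩) (y := ⟨n x, hM (n x).2⟩) x.2 (n x).2 (hne x)
      rw [g00, g01, g22] at e1
      rw [g10, g11, g22] at e2
      have e3 := hneg (C.u x)
      refine ⟨?_, ?_⟩
      · linear_combination e3 - e2
      · linear_combination -e1
  · -- nL
    obtain ⟨e, he⟩ := h.surj (s2 Δ)
    obtain ⟨n, hn, hne⟩ := elt_aut h.inj hL e (fun x => by
      have h1 : ρ (e * ι ⟨x, hL x.2⟩ * e⁻¹) ∈ M' Δ := by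
        rw [map_mul, map_mul, map_inv, he]
        exact (Subgroup.mem_normalizer_iff.1 s2_mem _).1 (rho_mem_M' h x.2)
      obtain ⟨y, hy, hye⟩ := mem_M'_iff' h h1
      exact ⟨⟨y, hy⟩, hye⟩)
    have g00 : (ρ e).1.1 0 0 = 1 := by rw [he, s2_val]; rfl
    have g01 : (ρ e).1.1 0 1 = 0 := by rw [he, s2_val]; rfl
    have g10 : (ρ e).1.1 1 0 = 0 := by rw [he, s2_val]; rfl
    have g11 : (ρ e).1.1 1 1 = 0 := by rw [he, s2_val]; rfl
    have g12 : (ρ e).1.1 1 2 = 1 := by rw [he, s2_val]; rfl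
    have g20 : (ρ e).1.1 2 0 = 0 := by rw [he, s2_val]; rfl
    have g21 : (ρ e).1.1 2 1 = -1 := by rw [he, s2_val]; rfl
    have g22 : (ρ e).1.1 2 2 = 0 := by rw [he, s2_val]; rfl
    have hdet := det_entries (ρ e).1
    rw [g00, g01, g10, g11, g12, g20, g21, g22] at hdet
    refine ⟨n, hn, fun x hx => ?_, fun x => ?_⟩
    · obtain ⟨z1, z2⟩ := z_of h (hne x) hx
      apply Subtype.ext
      rw [hdet] at z2
      apply C.inj (hL (n x).2) (hL x.2)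
      · rw [z1.2.1, hx.2.1]
      · rw [z1.2.2.1, hx.2.2.1]
      · rw [z1.2.2.2, hx.2.2.2]
      · linear_combination z2
    · obtain ⟨e1, e2⟩ := relL g10 g20 (x := ⟨x, hL x.2⟩) (y := ⟨n x, hL (n x).2⟩) x.2 (n x).2 (hne x)
      rw [g00, g11, g21] at e1
      rw [g00, g12, g22] at e2
      have e3 := hneg (C.t x)
      refine ⟨?_, ?_⟩
      · linear_combination -e2
      · linear_combination e3 + e1
  · -- spreadM
    intro α hα
    obtain ⟨e, he⟩ := aut_elt h.inj hM hα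
    obtain ⟨g20, g21⟩ := hnM (fun x => ⟨α x, he x⟩)
    have g22 : (ρ e).1.1 2 2 ≠ 0 := left_ne_zero_of_mul_eq_one (row_inv g20 g21).2.2
    by_cases g10 : (ρ e).1.1 1 0 = 0
    · left
      intro x hx
      obtain ⟨e1, e2⟩ := relM g20 g21 (x := ⟨x, hM x.2⟩) (y := ⟨α x, hM (α x).2⟩) x.2 (α x).2 (he x)
      refine ⟨hM (α x).2, (α x).2.2, ?_⟩
      rw [g10, hx.2.2] at e2
      apply mul_right_cancel₀ g22
      linear_combination -e2
    · right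
      refine ⟨(ρ e).1.1 0 0 / (ρ e).1.1 1 0, fun x hx => ?_⟩
      obtain ⟨e1, e2⟩ := relM g20 g21 (x := ⟨x, hM x.2⟩) (y := ⟨α x, hM (α x).2⟩) x.2 (α x).2 (he x)
      rw [hx.2.2] at e1 e2
      apply mul_right_cancel₀ g22
      rw [div_mul_eq_mul_div, div_mul_eq_mul_div, eq_div_iff g10]
      linear_combination (ρ e).1.1 0 0 * e2 - (ρ e).1.1 1 0 * e1
  · -- spreadL
    intro α hα
    obtain ⟨e, he⟩ := aut_elt h.inj hL hα
    obtain ⟨g10, g20⟩ := hnL (fun x => ⟨α x, he x⟩)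
    by_cases g21 : (ρ e).1.1 2 1 = 0
    · left
      have hup : Up (ρ e).1.1 := ⟨g10, g20, g21⟩
      have g11 : (ρ e).1.1 1 1 ≠ 0 := left_ne_zero_of_mul_eq_one (hup.diag_mul_inv 1)
      intro x hx
      obtain ⟨e1, e2⟩ := relL g10 g20 (x := ⟨x, hL x.2⟩) (y := ⟨α x, hL (α x).2⟩) x.2 (α x).2 (he x)
      rw [g21, hx.2.1] at e1
      have ht : C.t (α x : C.L 0) = 0 := by
        apply mul_right_cancel₀ g11
        linear_combination -e1
      refine ⟨hL (α x).2, ht, ?_⟩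
      rw [(α x).2.2, zero_mul]
    · right
      refine ⟨-((ρ e).1.1 1 1 / (ρ e).1.1 2 1), fun x hx => ?_⟩
      obtain ⟨e1, e2⟩ := relL g10 g20 (x := ⟨x, hL x.2⟩) (y := ⟨α x, hL (α x).2⟩) x.2 (α x).2 (he x)
      rw [hx.2.1] at e1
      field_simp
      linear_combination -e1
  · -- extM
    intro α hα hZ
    obtain ⟨e, he⟩ := aut_elt h.inj hM hα
    obtain ⟨g20, g21⟩ := hnM (fun x => ⟨α x, he x⟩)
    obtain ⟨x, hx, h1, h2, h3, -⟩ := C.surj 0 0 1 0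
    have hxM : x ∈ C.M := ⟨hx, h1⟩
    have hxZ : x ∈ C.Z2 := ⟨hx, h1, h2⟩
    obtain ⟨e1, e2⟩ := relM g20 g21 (x := ⟨x, hx⟩) (y := ⟨α ⟨x, hxM⟩, hM (α ⟨x, hxM⟩).2⟩) hxM (α ⟨x, hxM⟩).2 (he ⟨x, hxM⟩)
    have h4 := (hZ ⟨x, hxM⟩ hxZ).2.2
    have g10 : (ρ e).1.1 1 0 = 0 := by
      have e2' : (ρ e).1.1 1 0 * C.u x + (ρ e).1.1 1 1 * C.s x = C.s (α ⟨x, hxM⟩ : C.M) * (ρ e).1.1 2 2 := e2
      rw [h2, h3, h4] at e2'
      linear_combination e2'
    exact ext_M h hM he ⟨g10, g20, g21⟩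
  · -- extL
    intro α hα hZ
    obtain ⟨e, he⟩ := aut_elt h.inj hL hα
    obtain ⟨g10, g20⟩ := hnL (fun x => ⟨α x, he x⟩)
    obtain ⟨x, hx, h1, h2, h3, -⟩ := C.surj 0 0 1 0
    have hxL : x ∈ C.L 0 := ⟨hx, by rw [h2, zero_mul]⟩
    have hxZ : x ∈ C.Z2 := ⟨hx, h1, h2⟩
    obtain ⟨e1, e2⟩ := relL g10 g20 (x := ⟨x, hx⟩) (y := ⟨α ⟨x, hxL⟩, hL (α ⟨x, hxL⟩).2⟩) hxL (α ⟨x, hxL⟩).2 (he ⟨x, hxL⟩)
    have h4 := (hZ ⟨x, hxL⟩ hxZ).2.1
    have e1' : (ρ e).1.1 0 0 * C.t x = C.t (α ⟨x, hxL⟩ : C.L 0) * (ρ e).1.1 1 1 + C.u (α ⟨x, hxL⟩ : C.L 0) * (ρ e).1.1 2 1 := e1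
    have e2' : (ρ e).1.1 0 0 * C.u x = C.t (α ⟨x, hxL⟩ : C.L 0) * (ρ e).1.1 1 2 + C.u (α ⟨x, hxL⟩ : C.L 0) * (ρ e).1.1 2 2 := e2
    rw [h4, h1] at e1'
    rw [h4, h3] at e2'
    have g00 : (ρ e).1.1 0 0 ≠ 0 := by
      have := (col_inv g10 g20).2.2
      exact right_ne_zero_of_mul_eq_one this
    have hu : C.u (α ⟨x, hxL⟩ : C.L 0) ≠ 0 := by
      intro h0
      rw [h0] at e2'
      apply g00
      linear_combination e2'
    have g21 : (ρ e).1.1 2 1 = 0 := by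
      have : C.u (α ⟨x, hxL⟩ : C.L 0) * (ρ e).1.1 2 1 = 0 := by linear_combination -e1'
      exact (mul_eq_zero.1 this).resolve_left hu
    exact ext_M h hL he ⟨g10, g20, g21⟩

end final

end Cfsg.Agent.H131.TwoDataExt
end

-- part: H541/ConjAlign
section
/-!
# Aligning two complements by conjugation (task S5260-G, helper541)
-/

set_option autoImplicit false

namespace Cfsg.Agent.H541.ConjAlign

theorem card_of_relIndex {Y : Type*} [Group Y] [Finite Y] {I A : Subgroup Y} (h : I ≤ A) :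
    Nat.card A = Nat.card I * I.relIndex A := by
  have h1 := Subgroup.relIndex_mul_relIndex ⊥ I A bot_le h
  rw [Subgroup.relIndex_bot_left, Subgroup.relIndex_bot_left] at h1
  exact h1.symm

theorem fact_eq {p r m b e k : ℕ} (hp : p.Prime) (hr : r.Prime) (hpr : p ≠ r) (hm : m ≠ 0)
    (h : m * p ^ b = p ^ e * r ^ k) : m.factorization r = k := by
  have h1 : (m * p ^ b).factorization r = (p ^ e * r ^ k).factorization r := by rw [h]
  have hp0 : ∀ t, p ^ t ≠ 0 := fun t => pow_ne_zero t hp.ne_zero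
  rw [Nat.factorization_mul hm (hp0 b), Nat.factorization_mul (hp0 e) (pow_ne_zero k hr.ne_zero)] at h1
  simp only [Finsupp.coe_add, Pi.add_apply, Nat.factorization_pow, Finsupp.coe_smul, Pi.smul_apply,
    hp.factorization, hr.factorization, Finsupp.single_eq_same,
    Finsupp.single_eq_of_ne hpr.symm, smul_eq_mul, mul_zero, mul_one, zero_add, add_zero] at h1
  exact h1

/-- a Sylow `r`-subgroup of `A`, as a subgroup of `Y`, when `|A| = |I| r ^ k` with a `p`-group `I ≤ A` -/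
theorem exists_syl {Y : Type*} [Group Y] [Finite Y] {p r : ℕ} [hp : Fact p.Prime] [hr : Fact r.Prime] (hpr : p ≠ r)
    {I A : Subgroup Y} (hI : IsPGroup p I) (hIA : I ≤ A) {k : ℕ} (hA : I.relIndex A = r ^ k) :
    ∃ R : Subgroup Y, R ≤ A ∧ Nat.card R = r ^ k ∧ A = I ⊔ R := by
  obtain ⟨c, hc⟩ := hI.exists_card_eq
  have hcA : Nat.card A = p ^ c * r ^ k := by rw [card_of_relIndex hIA, hc, hA]
  obtain ⟨R⟩ : Nonempty (Sylow r A) := inferInstance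
  have hR : Nat.card R = r ^ k := by
    rw [R.card_eq_multiplicity, hcA]
    congr 1
    exact fact_eq (b := 0) (e := c) hp.out hr.out hpr
      (mul_ne_zero (pow_ne_zero _ hp.out.ne_zero) (pow_ne_zero _ hr.out.ne_zero)) (by rw [pow_zero, mul_one])
  have hR' : Nat.card ((R : Subgroup A).map A.subtype) = r ^ k := by
    rw [Subgroup.card_map_of_injective A.subtype_injective]
    exact hR
  refine ⟨(R : Subgroup A).map A.subtype, Subgroup.map_subtype_le _, hR', ?_⟩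
  have hle : I ⊔ (R : Subgroup A).map A.subtype ≤ A := sup_le hIA (Subgroup.map_subtype_le _)
  refine (Subgroup.eq_of_le_of_card_ge hle ?_).symm
  refine Nat.le_of_dvd Nat.card_pos ?_
  rw [hcA]
  refine Nat.Coprime.mul_dvd_of_dvd_of_dvd ?_ ?_ ?_
  · exact Nat.Coprime.pow _ _ ((Nat.coprime_primes hp.out hr.out).2 hpr)
  · rw [← hc]; exact Subgroup.card_dvd_of_le le_sup_left
  · rw [← hR']; exact Subgroup.card_dvd_of_le le_sup_right

theorem card_sup_fact {Y : Type*} [Group Y] [Finite Y] {p r : ℕ} [hp : Fact p.Prime] [hr : Fact r.Prime]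
    (hpr : p ≠ r) {N I A : Subgroup Y} (hN : IsPGroup p N) (hI : IsPGroup p I)
    (hNA : ∀ a ∈ A, ∀ n ∈ N, a * n * a⁻¹ ∈ N) (hIA : I ≤ A) {k : ℕ} (hA : I.relIndex A = r ^ k) :
    (Nat.card (N ⊔ A : Subgroup Y)).factorization r = k := by
  have h1 := Cfsg.Agent.GH.C2SevenBase.card_sup_mul (Q := N) (P := A) hNA
  obtain ⟨a, ha⟩ := hN.exists_card_eq
  obtain ⟨c, hc⟩ := hI.exists_card_eq
  obtain ⟨b, hb⟩ : ∃ b, Nat.card (N ⊓ A : Subgroup Y) = p ^ b := (hN.to_le inf_le_left).exists_card_eq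
  have hcA : Nat.card A = p ^ c * r ^ k := by rw [card_of_relIndex hIA, hc, hA]
  rw [ha, hb, hcA, ← mul_assoc, ← pow_add] at h1
  exact fact_eq hp.out hr.out hpr Nat.card_pos.ne' h1

theorem mem_sup {Y : Type*} [Group Y] {N A : Subgroup Y} (hNA : ∀ a ∈ A, ∀ n ∈ N, a * n * a⁻¹ ∈ N) {y : Y}
    (hy : y ∈ N ⊔ A) : ∃ n ∈ N, ∃ a ∈ A, y = n * a := by
  let K : Subgroup Y :=
    { carrier := {y | ∃ n ∈ N, ∃ a ∈ A, y = n * a}
      one_mem' := ⟨1, one_mem _, 1, one_mem _, by simp⟩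
      mul_mem' := by
        rintro _ _ ⟨n, hn, a, ha, rfl⟩ ⟨m, hm, b, hb, rfl⟩
        exact ⟨n * (a * m * a⁻¹), mul_mem hn (hNA a ha m hm), a * b, mul_mem ha hb, by group⟩
      inv_mem' := by
        rintro _ ⟨n, hn, a, ha, rfl⟩
        refine ⟨a⁻¹ * n⁻¹ * a, ?_, a⁻¹, inv_mem ha, by group⟩
        have h := hNA a⁻¹ (inv_mem ha) n⁻¹ (inv_mem hn)
        rwa [inv_inv] at h }
  have hle : N ⊔ A ≤ K := sup_le (fun n hn => ⟨n, hn, 1, one_mem _, by simp⟩)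
    (fun a ha => ⟨1, one_mem _, a, ha, by simp⟩)
  exact hle hy

theorem exists_conj_align {Y : Type*} [Group Y] [Finite Y] {p r : ℕ} [Fact p.Prime] [Fact r.Prime] (hpr : p ≠ r)
    (N I A A₁ : Subgroup Y)
    (hN : IsPGroup p N) (hI : IsPGroup p I) (hNA : ∀ a ∈ A, ∀ n ∈ N, a * n * a⁻¹ ∈ N)
    (hNA₁ : ∀ a ∈ A₁, ∀ n ∈ N, a * n * a⁻¹ ∈ N)
    (hIN : ∀ n ∈ N, ∀ i ∈ I, n * i * n⁻¹ ∈ I) (hIA : I ≤ A) (hIA₁ : I ≤ A₁)
    (hA : ∃ k, I.relIndex A = r ^ k) (hA₁ : ∃ k, I.relIndex A₁ = r ^ k)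
    (h1 : ∀ a ∈ A, ∃ n ∈ N, n * a ∈ A₁) (h2 : ∀ a ∈ A₁, ∃ n ∈ N, n * a ∈ A) :
    ∃ n ∈ N, A.map (MulAut.conj n).toMonoidHom = A₁ := by
  obtain ⟨k, hk⟩ := hA
  obtain ⟨l, hl⟩ := hA₁
  have hY : N ⊔ A₁ = N ⊔ A := by
    apply le_antisymm
    · refine sup_le le_sup_left fun a ha => ?_
      obtain ⟨n, hn, hna⟩ := h2 a ha
      have : a = n⁻¹ * (n * a) := by group
      rw [this]
      exact mul_mem ((le_sup_left : N ≤ N ⊔ A) (inv_mem hn)) ((le_sup_right : A ≤ N ⊔ A) hna)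
    · refine sup_le le_sup_left fun a ha => ?_
      obtain ⟨n, hn, hna⟩ := h1 a ha
      have : a = n⁻¹ * (n * a) := by group
      rw [this]
      exact mul_mem ((le_sup_left : N ≤ N ⊔ A₁) (inv_mem hn)) ((le_sup_right : A₁ ≤ N ⊔ A₁) hna)
  have hfk := card_sup_fact hpr hN hI hNA hIA hk
  have hfl := card_sup_fact hpr hN hI hNA₁ hIA₁ hl
  rw [hY, hfk] at hfl
  subst hfl
  obtain ⟨R, hRA, hR, hAR⟩ := exists_syl hpr hI hIA hk
  obtain ⟨R₁, hRA₁, hR₁, hAR₁⟩ := exists_syl hpr hI hIA₁ hl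
  have hRY : R ≤ N ⊔ A := hRA.trans le_sup_right
  have hRY₁ : R₁ ≤ N ⊔ A := by rw [← hY]; exact hRA₁.trans le_sup_right
  have hcR : Nat.card (R.subgroupOf (N ⊔ A)) = r ^ (Nat.card (N ⊔ A : Subgroup Y)).factorization r := by
    rw [hfk, ← hR]
    exact Nat.card_congr (Subgroup.subgroupOfEquivOfLe hRY).toEquiv
  have hcR₁ : Nat.card (R₁.subgroupOf (N ⊔ A)) = r ^ (Nat.card (N ⊔ A : Subgroup Y)).factorization r := by
    rw [hfk, ← hR₁]
    exact Nat.card_congr (Subgroup.subgroupOfEquivOfLe hRY₁).toEquiv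
  let S : Sylow r (N ⊔ A : Subgroup Y) := Sylow.ofCard _ hcR
  let S₁ : Sylow r (N ⊔ A : Subgroup Y) := Sylow.ofCard _ hcR₁
  obtain ⟨y, hy⟩ := MulAction.exists_smul_eq (N ⊔ A : Subgroup Y) S S₁
  obtain ⟨n, hn, a, ha, hyna⟩ := mem_sup hNA y.2
  refine ⟨n, hn, ?_⟩
  have hle : A₁ ≤ A.map (MulAut.conj n).toMonoidHom := by
    rw [hAR₁]
    refine sup_le (fun i hi => ?_) (fun x hx => ?_)
    · have h3 := hIN n⁻¹ (inv_mem hn) i hi
      rw [inv_inv] at h3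
      exact ⟨n⁻¹ * i * n, hIA h3, by show n * (n⁻¹ * i * n) * n⁻¹ = i; group⟩
    · have hx' : (⟨x, hRY₁ hx⟩ : (N ⊔ A : Subgroup Y)) ∈ (S₁ : Subgroup (N ⊔ A : Subgroup Y)) :=
        Subgroup.mem_subgroupOf.2 hx
      rw [← hy, Sylow.coe_subgroup_smul, Subgroup.mem_smul_pointwise_iff_exists] at hx'
      obtain ⟨s, hs, hsx⟩ := hx'
      have hs' : (s : Y) ∈ R := Subgroup.mem_subgroupOf.1 hs
      refine ⟨a * s * a⁻¹, mul_mem (mul_mem ha (hRA hs')) (inv_mem ha), ?_⟩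
      have h4 : (y : Y) * s * (y : Y)⁻¹ = x := congrArg Subtype.val hsx
      show n * (a * s * a⁻¹) * n⁻¹ = x
      rw [← h4, hyna]
      group
  have hcard : Nat.card (A.map (MulAut.conj n).toMonoidHom) = Nat.card A₁ := by
    rw [Subgroup.card_map_of_injective (MulAut.conj n).injective, card_of_relIndex hIA, card_of_relIndex hIA₁, hk, hl]
  exact (Subgroup.eq_of_le_of_card_ge hle hcard.le).symm

end Cfsg.Agent.H541.ConjAlign
end

-- part: H18/KappaA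
section
/-!
# S5260-R3, first part: the automizer of `S` up to a central automorphism (helper18)
-/

set_option autoImplicit false

universe u v

namespace Cfsg.Agent.H18.Kappa

open Cfsg Cfsg.FusionSystem Cfsg.Agent.H802 Cfsg.Agent.H780

variable {Ω : Type u} [Group Ω] {S : Subgroup Ω} {K : Type v} [Field K]

theorem inv_mul_mem_Z1 (C : SpC S K) {x y : Ω} (hx : x ∈ S) (hy : y ∈ S) (ht : C.t x = C.t y)
    (hs : C.s x = C.s y) (hu : C.u x = C.u y) : x⁻¹ * y ∈ C.Z1 := by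
  refine ⟨S.mul_mem (S.inv_mem hx) hy, ?_, ?_, ?_⟩
  · rw [C.t_mul (S.inv_mem hx) hy, C.t_inv hx, ht]; ring
  · rw [C.s_mul (S.inv_mem hx) hy, C.s_inv hx, hs]; ring
  · rw [C.u_mul (S.inv_mem hx) hy, C.u_inv hx, C.t_inv hx, hu, hs]; ring

theorem inv_mul_mem_Z2 (C : SpC S K) {x y : Ω} (hx : x ∈ S) (hy : y ∈ S) (ht : C.t x = C.t y)
    (hs : C.s x = C.s y) : x⁻¹ * y ∈ C.Z2 := by
  refine ⟨S.mul_mem (S.inv_mem hx) hy, ?_, ?_⟩
  · rw [C.t_mul (S.inv_mem hx) hy, C.t_inv hx, ht]; ring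
  · rw [C.s_mul (S.inv_mem hx) hy, C.s_inv hx, hs]; ring

theorem eq_of_mem_Z1 (C : SpC S K) {x y : Ω} (hx : x ∈ C.Z1) (hy : y ∈ C.Z1) (hz : C.z x = C.z y) :
    x = y :=
  C.inj hx.1 hy.1 (hx.2.1.trans hy.2.1.symm) (hx.2.2.1.trans hy.2.2.1.symm)
    (hx.2.2.2.trans hy.2.2.2.symm) hz

/-- `α` acts on the coordinates `t, s, u` by a triangular matrix and on `Z₁` by a scalar. -/
structure Lin (C : SpC S K) (α : MulAut S) (a b e r₁ r₂ c : K) : Prop where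
  t : ∀ x : S, C.t (α x : S) = a * C.t x
  s : ∀ x : S, C.s (α x : S) = b * C.s x
  u : ∀ x : S, C.u (α x : S) = e * C.u x + r₁ * C.t x + r₂ * C.s x
  mem : ∀ x : S, (x : Ω) ∈ C.Z1 → ((α x : S) : Ω) ∈ C.Z1
  z : ∀ x : S, (x : Ω) ∈ C.Z1 → C.z (α x : S) = c * C.z x

theorem Lin.mul {C : SpC S K} {α β : MulAut S} {a b e r₁ r₂ c a' b' e' r₁' r₂' c' : K}
    (h : Lin C α a b e r₁ r₂ c) (h' : Lin C β a' b' e' r₁' r₂' c') :
    Lin C (α * β) (a * a') (b * b') (e * e') (e * r₁' + r₁ * a') (e * r₂' + r₂ * b') (c * c') where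
  t x := by rw [MulAut.mul_apply, h.t, h'.t]; ring
  s x := by rw [MulAut.mul_apply, h.s, h'.s]; ring
  u x := by rw [MulAut.mul_apply, h.u, h'.t, h'.s, h'.u]; ring
  mem x hx := by rw [MulAut.mul_apply]; exact h.mem _ (h'.mem _ hx)
  z x hx := by rw [MulAut.mul_apply, h.z _ (h'.mem _ hx), h'.z _ hx]; ring

/-- Conjugation by an element of `S`. -/
theorem lin_conj (C : SpC S K) {β : MulAut S} {g : Ω} (hg : g ∈ S)
    (hβ : ∀ x : S, ((β x : S) : Ω) = g * x * g⁻¹) :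
    Lin C β 1 1 1 (- C.s g) (C.t g) 1 where
  t x := by rw [hβ, C.t_conj hg x.2]; ring
  s x := by rw [hβ, C.s_conj hg x.2]; ring
  u x := by rw [hβ, C.u_conj hg x.2]; ring
  mem x hx := by
    rw [hβ, ← C.Z1_comm hx hg, mul_inv_cancel_right]
    exact hx
  z x hx := by
    rw [hβ, ← C.Z1_comm hx hg, mul_inv_cancel_right, one_mul]

/-- The chain `S > Z₂ > Z₁ > 1`. -/
def chn (C : SpC S K) : ℕ → Subgroup S
  | 0 => ⊤
  | 1 => C.Z2.subgroupOf S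
  | 2 => C.Z1.subgroupOf S
  | _ => ⊥

theorem chn_anti (C : SpC S K) : ∀ i, chn C (i + 1) ≤ chn C i
  | 0 => le_top
  | 1 => fun _ hx => C.Z1_le_Z2 hx
  | 2 => bot_le
  | _ + 3 => le_rfl

theorem mem_inn_of_lin [Finite S] (hS : IsPGroup 2 S) {F : FusionSystem S} (hF : F.IsSaturated 2)
    (C : SpC S K) (h2 : (2 : K) = 0) {α : MulAut S} (hα : α ∈ F.autGroup S) {r₁ r₂ : K}
    (h : Lin C α 1 1 1 r₁ r₂ 1) : α ∈ autInducedBy S S := by
  have h3 : chn C 3 = ⊥ := rfl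
  have key : ∀ (β : MulAut S) (r₁ r₂ : K), Lin C β 1 1 1 r₁ r₂ 1 →
      ∀ i < 3, ∀ x ∈ chn C i, x⁻¹ * β x ∈ chn C (i + 1) := by
    intro β r₁ r₂ hβ i hi x hx
    interval_cases i
    · show (x : Ω)⁻¹ * (β x : S) ∈ C.Z2
      exact inv_mul_mem_Z2 C x.2 (β x).2 (by rw [hβ.t, one_mul]) (by rw [hβ.s, one_mul])
    · show (x : Ω)⁻¹ * (β x : S) ∈ C.Z1
      have hx' : (x : Ω) ∈ C.Z2 := hx
      exact inv_mul_mem_Z1 C x.2 (β x).2 (by rw [hβ.t, one_mul]) (by rw [hβ.s, one_mul])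
        (by rw [hβ.u, hx'.2.1, hx'.2.2]; ring)
    · show x⁻¹ * β x ∈ (⊥ : Subgroup S)
      have hx' : (x : Ω) ∈ C.Z1 := hx
      have h4 : β x = x := Subtype.ext (eq_of_mem_Z1 C (hβ.mem x hx') hx' (by rw [hβ.z x hx', one_mul]))
      rw [h4, inv_mul_cancel]
      exact Subgroup.one_mem _
  have hSa := isFullyAutomized_of_isFullyNormalized hS hF (isFullyNormalized_top F)
  have h4 := le_autInducedBy_of_le (K := H780.chainStab (F.autGroup S) 3 (chn C) (chn_anti C) h3) hSa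
    (fun x hx => hx.1) (chainStab_isPGroup hS _ 3 _ _ rfl h3) (by
      intro β hβ
      obtain ⟨g, hg, hgβ⟩ := (mem_autInducedBy_iff S S β).1 hβ
      exact H780.mem_chainStab.2 ⟨autInducedBy_le_autGroup F le_rfl hβ,
        key β _ _ (lin_conj C hg hgβ)⟩)
  exact h4 (H780.mem_chainStab.2 ⟨hα, key α _ _ h⟩)

theorem inn_conj (γ : MulAut S) {β : MulAut S} (hβ : β ∈ autInducedBy S S) :
    γ * β * γ⁻¹ ∈ autInducedBy S S := by
  obtain ⟨a, ha, hau⟩ := (mem_autInducedBy_iff S S _).1 hβ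
  refine (mem_autInducedBy_iff S S _).2 ⟨(γ ⟨a, ha⟩ : S), (γ ⟨a, ha⟩).2, fun x => ?_⟩
  have h1 : β (γ⁻¹ x) = ⟨a, ha⟩ * (γ⁻¹ x) * ⟨a, ha⟩⁻¹ := Subtype.ext (hau _)
  show ((γ (β (γ⁻¹ x)) : S) : Ω) = _
  rw [h1, map_mul, map_mul, map_inv]
  have h2 : γ (γ⁻¹ x) = x := γ.apply_symm_apply x
  rw [h2]
  rfl

section data

variable {F F₁ : FusionSystem S} {C : SpC S K} {Δ : Subgroup Kˣ}

theorem exists_lin (D : TwoData F C Δ) {α : MulAut S} (hα : α ∈ F.autGroup S) :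
    ∃ a b : Kˣ, a ^ 2 * b ∈ Δ ∧ ∃ r₁ r₂ : K, Lin C α a b (a * b) r₁ r₂ (a ^ 2 * b) := by
  obtain ⟨a, b, hab, r₁, r₂, h1, h2⟩ := D.autS α hα
  exact ⟨a, b, hab, r₁, r₂, fun x => (h1 x).1, fun x => (h1 x).2.1, fun x => (h1 x).2.2,
    fun x hx => (h2 x hx).1, fun x hx => (h2 x hx).2⟩

theorem pow_three_mem [Finite S] (hS : IsPGroup 2 S) (hF : F.IsSaturated 2)
    (h2 : (2 : K) = 0) (hK : ∀ c : K, c ≠ 0 → c ^ 3 = 1) (D : TwoData F C Δ) {α : MulAut S}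
    (hα : α ∈ F.autGroup S) : α ^ 3 ∈ autInducedBy S S := by
  obtain ⟨a, b, -, r₁, r₂, h⟩ := exists_lin D hα
  have ha : (a : K) ^ 3 = 1 := hK _ a.ne_zero
  have hb : (b : K) ^ 3 = 1 := hK _ b.ne_zero
  have h1 := (h.mul h).mul h
  have e1 : α * α * α = α ^ 3 := by rw [pow_succ, pow_two]
  rw [e1] at h1
  have e2 : (a : K) * a * a = 1 := by rw [← ha]; ring
  have e3 : (b : K) * b * b = 1 := by rw [← hb]; ring
  have e4 : (a : K) * b * (a * b) * (a * b) = 1 := by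
    calc (a : K) * b * (a * b) * (a * b) = (a * a * a) * (b * b * b) := by ring
      _ = 1 := by rw [e2, e3, one_mul]
  have e5 : (a : K) ^ 2 * b * (a ^ 2 * b) * (a ^ 2 * b) = 1 := by
    calc (a : K) ^ 2 * b * (a ^ 2 * b) * (a ^ 2 * b) = (a * a * a) * (a * a * a) * (b * b * b) := by ring
      _ = 1 := by rw [e2, e3]; ring
  rw [e2, e3, e4, e5] at h1
  exact mem_inn_of_lin hS hF C h2 ((F.autGroup S).pow_mem hα 3) h1

theorem exists_relIndex [Finite S] (hS : IsPGroup 2 S) (hF : F.IsSaturated 2)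
    (h2 : (2 : K) = 0) (hK : ∀ c : K, c ≠ 0 → c ^ 3 = 1) (D : TwoData F C Δ) :
    ∃ k, (autInducedBy S S).relIndex (F.autGroup S) = 3 ^ k := by
  have hn : ((autInducedBy S S).subgroupOf (F.autGroup S)).Normal :=
    ⟨fun n hn g => inn_conj (g : MulAut S) hn⟩
  have h3 : IsPGroup 3 (F.autGroup S ⧸ (autInducedBy S S).subgroupOf (F.autGroup S)) := by
    intro x
    obtain ⟨α, rfl⟩ := QuotientGroup.mk_surjective x
    refine ⟨1, ?_⟩
    rw [pow_one, ← QuotientGroup.mk_pow, QuotientGroup.eq_one_iff]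
    exact pow_three_mem hS hF h2 hK D α.2
  have : Fact (Nat.Prime 3) := ⟨Nat.prime_three⟩
  obtain ⟨k, hk⟩ := IsPGroup.iff_card.1 h3
  exact ⟨k, hk⟩

/-- The group of automorphisms trivial on `Z₁` and on `S / Z₁`. -/
abbrev NN (C : SpC S K) : Subgroup (MulAut S) := H783.chainStab (C.Z1.subgroupOf S)

theorem conj_NN (D : TwoData F C Δ) {α n : MulAut S} (hα : α ∈ F.autGroup S) (hn : n ∈ NN C) :
    α * n * α⁻¹ ∈ NN C := by
  refine H783.conj_mem_chainStab (fun x => ?_) hn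
  obtain ⟨a, b, -, r₁, r₂, h⟩ := exists_lin D hα
  obtain ⟨a', b', -, r₁', r₂', h'⟩ := exists_lin D ((F.autGroup S).inv_mem hα)
  constructor
  · intro hx
    exact h.mem x hx
  · intro hx
    have := h'.mem _ hx
    rwa [MulAut.inv_apply_self] at this

theorem exists_align (h2 : (2 : K) = 0) (D : TwoData F C Δ) (D₁ : TwoData F₁ C Δ) {α : MulAut S}
    (hα : α ∈ F.autGroup S) : ∃ n ∈ NN C, n * α ∈ F₁.autGroup S := by
  obtain ⟨a, b, hab, r₁, r₂, h⟩ := exists_lin D hα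
  obtain ⟨β, hβ, h3, h4⟩ := D₁.exS a b hab
  obtain ⟨g, hg, htg, hsg, -, -⟩ := C.surj (r₂ / b) (- (r₁ / a)) 0 0
  obtain ⟨γ, hγ⟩ := exists_conjAut (P := S) (g := g) (Subgroup.le_normalizer hg)
  have h5 := lin_conj C hg hγ
  have h6 : γ ∈ F₁.autGroup S :=
    autInducedBy_le_autGroup F₁ le_rfl ((mem_autInducedBy_iff S S γ).2 ⟨g, hg, hγ⟩)
  have hl : Lin C β a b (a * b) 0 0 (a ^ 2 * b) :=
    ⟨fun x => (h3 x).1, fun x => (h3 x).2.1, fun x => by rw [(h3 x).2.2]; ring,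
      fun x hx => (h4 x hx).1, fun x hx => (h4 x hx).2⟩
  have hl' := h5.mul hl
  have ha : (a : K) ≠ 0 := a.ne_zero
  have hb : (b : K) ≠ 0 := b.ne_zero
  have hagree : ∀ x : S, ((α x : S) : Ω)⁻¹ * ((γ * β) x : S) ∈ C.Z1 := by
    intro x
    refine inv_mul_mem_Z1 C (α x).2 ((γ * β) x).2 ?_ ?_ ?_
    · rw [h.t, hl'.t]; ring
    · rw [h.s, hl'.s]; ring
    · rw [h.u, hl'.u, htg, hsg]
      field_simp
      ring
  refine ⟨γ * β * α⁻¹, ?_, ?_⟩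
  · rw [H783.mem_chainStab]
    constructor
    · intro x hx
      obtain ⟨a', b', -, r₁', r₂', h'⟩ := exists_lin D ((F.autGroup S).inv_mem hα)
      have h7 := h'.mem x hx
      have h8 := h.z _ h7
      have h9 := hl'.z _ h7
      have h10 := hl'.mem _ h7
      rw [MulAut.apply_inv_self] at h8
      show (γ * β) (α⁻¹ x) = x
      apply Subtype.ext
      refine eq_of_mem_Z1 C h10 hx ?_
      rw [h9, h8]; ring
    · intro x
      have := hagree (α⁻¹ x)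
      rw [MulAut.apply_inv_self] at this
      exact this
  · rw [inv_mul_cancel_right]
    exact (F₁.autGroup S).mul_mem h6 hβ

/-- The automizers of `S` are conjugate under an automorphism trivial on `Z₁` and `S / Z₁`. -/
theorem exists_kappa₀ [Finite S] (hS : IsPGroup 2 S) (hF : F.IsSaturated 2) (hF₁ : F₁.IsSaturated 2)
    (h2 : (2 : K) = 0) (hK : ∀ c : K, c ≠ 0 → c ^ 3 = 1) (D : TwoData F C Δ) (D₁ : TwoData F₁ C Δ) :
    ∃ κ ∈ NN C, ∀ α : MulAut S, α ∈ F.autGroup S ↔ κ * α * κ⁻¹ ∈ F₁.autGroup S := by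
  have : Fact (Nat.Prime 2) := ⟨Nat.prime_two⟩
  have : Fact (Nat.Prime 3) := ⟨Nat.prime_three⟩
  obtain ⟨κ, hκ, h⟩ := H541.ConjAlign.exists_conj_align (p := 2) (r := 3) (by norm_num) (NN C)
    (autInducedBy S S) (F.autGroup S) (F₁.autGroup S)
    (H783.isPGroup_chainStab hS _) (isPGroup_autInducedBy hS S)
    (fun a ha n hn => conj_NN D ha hn) (fun a ha n hn => conj_NN D₁ ha hn)
    (fun n _ i hi => inn_conj n hi) (autInducedBy_le_autGroup F le_rfl)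
    (autInducedBy_le_autGroup F₁ le_rfl) (exists_relIndex hS hF h2 hK D)
    (exists_relIndex hS hF₁ h2 hK D₁) (fun a ha => exists_align h2 D D₁ ha)
    (fun a ha => exists_align h2 D₁ D ha)
  refine ⟨κ, hκ, fun α => ?_⟩
  rw [← h]
  constructor
  · intro hα
    exact ⟨α, hα, rfl⟩
  · rintro ⟨β, hβ, h3⟩
    have h4 : κ * β * κ⁻¹ = κ * α * κ⁻¹ := h3
    have h5 : β = α := mul_left_cancel (mul_right_cancel h4)
    rw [← h5]
    exact hβ

end data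

end Cfsg.Agent.H18.Kappa
end

-- part: H18/KappaB
section
/-!
# S5260-R3, second part: the automizers of `M` and `L₀` (helper18)
-/

set_option autoImplicit false

universe u v

namespace Cfsg.Agent.H18.Kappa

open Cfsg Cfsg.FusionSystem Cfsg.Agent.H802 Cfsg.Agent.H780

variable {Ω : Type u} [Group Ω] {S : Subgroup Ω} {K : Type v} [Field K]

/-- `P` is `M` (with `v = s`) or `L₀` (with `v = t`). -/
structure Side (C : SpC S K) (P : Subgroup Ω) (v : Ω → K) : Prop where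
  le : P ≤ S
  Z2_le : C.Z2 ≤ P
  v_mul : ∀ {x y}, x ∈ P → y ∈ P → v (x * y) = v x + v y
  u_mul : ∀ {x y}, x ∈ P → y ∈ P → C.u (x * y) = C.u x + C.u y
  z_mul : ∀ {x y}, x ∈ P → y ∈ P → C.z (x * y) = C.z x + C.z y
  inj : ∀ {x y}, x ∈ P → y ∈ P → v x = v y → C.u x = C.u y → C.z x = C.z y → x = y
  surj : ∀ a b c : K, ∃ x ∈ P, v x = a ∧ C.u x = b ∧ C.z x = c
  mem_Z1 : ∀ {x}, x ∈ P → (x ∈ C.Z1 ↔ v x = 0 ∧ C.u x = 0)
  mem_Z2 : ∀ {x}, x ∈ P → (x ∈ C.Z2 ↔ v x = 0)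
  exg : ∀ r : K, ∃ g ∈ S, ∀ x ∈ P, v (g * x * g⁻¹) = v x ∧ C.u (g * x * g⁻¹) = C.u x + r * v x
  con : ∀ g ∈ S, ∃ r : K, (∀ x ∈ P, v (g * x * g⁻¹) = v x ∧ C.u (g * x * g⁻¹) = C.u x + r * v x) ∧
    (r = 0 → ∀ x ∈ P, g * x * g⁻¹ = x)

theorem side_M (C : SpC S K) : Side C C.M C.s where
  le := C.M_le
  Z2_le := C.Z2_le_M
  v_mul hx hy := C.s_mul hx.1 hy.1
  u_mul hx hy := by rw [C.u_mul hx.1 hy.1, hx.2]; ring
  z_mul hx hy := by rw [C.z_mul hx.1 hy.1, hx.2]; ring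
  inj hx hy h1 h2 h3 := C.inj hx.1 hy.1 (hx.2.trans hy.2.symm) h1 h2 h3
  surj a b c := by
    obtain ⟨x, hx, h1, h2, h3, h4⟩ := C.surj 0 a b c
    exact ⟨x, ⟨hx, h1⟩, h2, h3, h4⟩
  mem_Z1 hx := ⟨fun h => ⟨h.2.2.1, h.2.2.2⟩, fun h => ⟨hx.1, hx.2, h.1, h.2⟩⟩
  mem_Z2 hx := ⟨fun h => h.2.2, fun h => ⟨hx.1, hx.2, h⟩⟩
  exg r := by
    obtain ⟨g, hg, h1, h2, -, -⟩ := C.surj r 0 0 0
    refine ⟨g, hg, fun x hx => ⟨C.s_conj hg hx.1, ?_⟩⟩
    rw [C.u_conj hg hx.1, h1, hx.2]; ring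
  con g hg := by
    refine ⟨C.t g, fun x hx => ⟨C.s_conj hg hx.1, ?_⟩, fun h x hx => ?_⟩
    · rw [C.u_conj hg hx.1, hx.2]; ring
    · apply C.inj (S.mul_mem (S.mul_mem hg hx.1) (S.inv_mem hg)) hx.1 (C.t_conj hg hx.1)
        (C.s_conj hg hx.1)
      · rw [C.u_conj hg hx.1, hx.2, h]; ring
      · rw [C.z_conj hg hx.1, hx.2, h]; ring

theorem side_L (C : SpC S K) (h2 : (2 : K) = 0) : Side C (C.L 0) C.t where
  le := C.L_le 0
  Z2_le := C.Z2_le_L 0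
  v_mul hx hy := C.t_mul hx.1 hy.1
  u_mul {x y} hx hy := by
    have h3 : C.s y = 0 := by rw [hy.2, zero_mul]
    rw [C.u_mul hx.1 hy.1, h3]; ring
  z_mul {x y} hx hy := by
    have h3 : C.s y = 0 := by rw [hy.2, zero_mul]
    rw [C.z_mul hx.1 hy.1, h3, h2]; ring
  inj {x y} hx hy h1 h3 h4 := by
    have h5 : C.s x = 0 := by rw [hx.2, zero_mul]
    have h6 : C.s y = 0 := by rw [hy.2, zero_mul]
    exact C.inj hx.1 hy.1 h1 (h5.trans h6.symm) h3 h4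
  surj a b c := by
    obtain ⟨x, hx, h1, h2, h3, h4⟩ := C.surj a 0 b c
    exact ⟨x, ⟨hx, by rw [h2, zero_mul]⟩, h1, h3, h4⟩
  mem_Z1 {x} hx := ⟨fun h => ⟨h.2.1, h.2.2.2⟩, fun h => ⟨hx.1, h.1, by rw [hx.2, zero_mul], h.2⟩⟩
  mem_Z2 {x} hx := ⟨fun h => h.2.1, fun h => ⟨hx.1, h, by rw [hx.2, zero_mul]⟩⟩
  exg r := by
    obtain ⟨g, hg, h1, h3, -, -⟩ := C.surj 0 (-r) 0 0
    refine ⟨g, hg, fun x hx => ⟨C.t_conj hg hx.1, ?_⟩⟩
    rw [C.u_conj hg hx.1, h1, h3]; ring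
  con g hg := by
    refine ⟨- C.s g, fun x hx => ⟨C.t_conj hg hx.1, ?_⟩, fun h x hx => ?_⟩
    · have h3 : C.s x = 0 := by rw [hx.2, zero_mul]
      rw [C.u_conj hg hx.1, h3]; ring
    · have h3 : C.s x = 0 := by rw [hx.2, zero_mul]
      have h4 : C.s g = 0 := neg_eq_zero.1 h
      apply C.inj (S.mul_mem (S.mul_mem hg hx.1) (S.inv_mem hg)) hx.1 (C.t_conj hg hx.1)
        (C.s_conj hg hx.1)
      · rw [C.u_conj hg hx.1, h3, h4]; ring
      · rw [C.z_conj hg hx.1, h3, h4, h2]; ring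

/-- The part of `TwoData` concerning `P = M` or `L₀`. -/
structure SideData (F : FusionSystem S) (C : SpC S K) (P : Subgroup Ω) (v : Ω → K) : Prop where
  Z1 : ∀ α ∈ F.autGroup P, ∀ x : P, (x : Ω) ∈ C.Z1 → ((α x : P) : Ω) ∈ C.Z1
  spread : ∀ α ∈ F.autGroup P, (∀ x : P, (x : Ω) ∈ C.Z2 → ((α x : P) : Ω) ∈ C.Z2) ∨
    ∃ r : K, ∀ x : P, (x : Ω) ∈ C.Z2 → C.u (α x : P) = r * v (α x : P)
  ext : ∀ α ∈ F.autGroup P, (∀ x : P, (x : Ω) ∈ C.Z2 → ((α x : P) : Ω) ∈ C.Z2) →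
    ∃ β ∈ F.autGroup S, ∀ (x : Ω) (hx : x ∈ P) (hx' : x ∈ S), ((β ⟨x, hx'⟩ : S) : Ω) = (α ⟨x, hx⟩ : P)

/-- The swapping automorphism. -/
structure IsSwap (C : SpC S K) (P : Subgroup Ω) (v : Ω → K) (n : MulAut P) : Prop where
  triv : ∀ x : P, (x : Ω) ∈ C.Z1 → n x = x
  vv : ∀ x : P, v (n x : P) = C.u x
  uu : ∀ x : P, C.u (n x : P) = v x

theorem sideData_M {F : FusionSystem S} {C : SpC S K} {Δ : Subgroup Kˣ} (D : TwoData F C Δ) :
    SideData F C C.M C.s := ⟨D.Z1M, D.spreadM, D.extM⟩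

theorem sideData_L {F : FusionSystem S} {C : SpC S K} {Δ : Subgroup Kˣ} (D : TwoData F C Δ) :
    SideData F C (C.L 0) C.t := ⟨D.Z1L, D.spreadL, D.extL⟩

theorem exists_swap_M {F : FusionSystem S} {C : SpC S K} {Δ : Subgroup Kˣ} (D : TwoData F C Δ) :
    ∃ n ∈ F.autGroup C.M, IsSwap C C.M C.s n := by
  obtain ⟨n, hn, h1, h2⟩ := D.nM
  exact ⟨n, hn, h1, fun x => (h2 x).1, fun x => (h2 x).2⟩

theorem exists_swap_L {F : FusionSystem S} {C : SpC S K} {Δ : Subgroup Kˣ} (D : TwoData F C Δ) :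
    ∃ n ∈ F.autGroup (C.L 0), IsSwap C (C.L 0) C.t n := by
  obtain ⟨n, hn, h1, h2⟩ := D.nL
  exact ⟨n, hn, h1, fun x => (h2 x).1, fun x => (h2 x).2⟩

section side

variable {F F₁ : FusionSystem S} {C : SpC S K} {P : Subgroup Ω} {v : Ω → K}

theorem Side.norm (hP : Side C P v) {g : Ω} (hg : g ∈ S) : g ∈ Subgroup.normalizer (P : Set Ω) := by
  rw [Subgroup.mem_normalizer_iff]
  intro x
  constructor
  · exact fun hx => C.conj_mem_of_Z2_le hP.le hP.Z2_le hg hx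
  · intro hx
    have := C.conj_mem_of_Z2_le hP.le hP.Z2_le (S.inv_mem hg) hx
    have h1 : g⁻¹ * (g * x * g⁻¹) * g⁻¹⁻¹ = x := by group
    rwa [h1] at this

theorem Side.fully [Finite S] (hP : Side C P v) (F : FusionSystem S) : F.IsFullyNormalized P := by
  refine ⟨hP.le, fun Q hQ => ?_⟩
  have h1 : normalizerIn S Q ≤ S := inf_le_left
  have h2 : normalizerIn S P = S := le_antisymm inf_le_left (le_inf le_rfl fun g hg => hP.norm hg)
  rw [h2]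
  exact Subgroup.card_le_of_le h1

/-- An element of `Aut_F(P)` trivial on `Z₁` and `P / Z₁` is trivial. -/
theorem eq_one_of_chain [Finite S] (hS : IsPGroup 2 S) (hF : F.IsSaturated 2) (hP : Side C P v)
    {ω : MulAut P} (hω : ω ∈ F.autGroup P) (h1 : ∀ x : P, (x : Ω) ∈ C.Z1 → ω x = x)
    (hv : ∀ x : P, v (ω x : P) = v x) (hu : ∀ x : P, C.u (ω x : P) = C.u x) : ω = 1 := by
  have : Fact (Nat.Prime 2) := ⟨Nat.prime_two⟩
  have h3 : ω ∈ autInducedBy S P := by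
    refine H783.chainStab_inf_le hS hF (hP.fully F) (R := C.Z1.subgroupOf P) ?_ ⟨⟨?_, ?_⟩, hω⟩
    · intro β hβ x hx
      obtain ⟨g, hg, hgβ⟩ := (mem_autInducedBy_iff S P β).1 hβ
      show ((β x : P) : Ω) ∈ C.Z1
      have hx' : (x : Ω) ∈ C.Z1 := hx
      rw [hgβ, ← C.Z1_comm hx' hg, mul_inv_cancel_right]
      exact hx'
    · intro x hx
      exact h1 x hx
    · intro x
      show (x : Ω)⁻¹ * (ω x : P) ∈ C.Z1
      have h4 : (x : Ω)⁻¹ * (ω x : P) ∈ P := P.mul_mem (P.inv_mem x.2) (ω x).2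
      rw [hP.mem_Z1 h4]
      have h5 : (x : Ω) * ((x : Ω)⁻¹ * (ω x : P)) = (ω x : P) := mul_inv_cancel_left _ _
      constructor
      · have := hP.v_mul x.2 h4
        rw [h5, hv] at this
        linear_combination -this
      · have := hP.u_mul x.2 h4
        rw [h5, hu] at this
        linear_combination -this
  obtain ⟨g, hg, hgω⟩ := (mem_autInducedBy_iff S P ω).1 h3
  obtain ⟨r, hr, hr0⟩ := hP.con g hg
  have h6 : r = 0 := by
    obtain ⟨x, hx, hx1, -, -⟩ := hP.surj 1 0 0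
    have h7 := (hr x hx).2
    have h8 := hu ⟨x, hx⟩
    rw [hgω] at h8
    rw [h8, hx1] at h7
    linear_combination -h7
  ext x
  rw [hgω, hr0 h6 x x.2]
  rfl

/-- One inclusion. -/
theorem side_le [Finite S] (h2 : (2 : K) = 0) (hP : Side C P v) (hD : SideData F C P v) {n : MulAut P}
    (hn : n ∈ F.autGroup P) (hsw : IsSwap C P v n) {κ : MulAut S} {k : MulAut P}
    (hk : ∀ x : P, ((k x : P) : Ω) = (κ ⟨x, hP.le x.2⟩ : S))
    (hκ : ∀ α : MulAut S, α ∈ F.autGroup S → κ * α * κ⁻¹ ∈ F₁.autGroup S)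
    (hkn : k * n * k⁻¹ ∈ F₁.autGroup P) {α : MulAut P} (hα : α ∈ F.autGroup P) :
    k * α * k⁻¹ ∈ F₁.autGroup P := by
  have hk' : ∀ x : P, ((k⁻¹ x : P) : Ω) = (κ⁻¹ ⟨x, hP.le x.2⟩ : S) := by
    intro x
    have h3 := hk (k⁻¹ x)
    rw [MulAut.apply_inv_self] at h3
    have h4 : (⟨x, hP.le x.2⟩ : S) = κ ⟨(k⁻¹ x : P), hP.le (k⁻¹ x).2⟩ := Subtype.ext h3
    rw [h4, MulAut.inv_apply_self]
  -- automorphisms which preserve `Z₂`
  have key : ∀ α ∈ F.autGroup P, (∀ x : P, (x : Ω) ∈ C.Z2 → ((α x : P) : Ω) ∈ C.Z2) →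
      k * α * k⁻¹ ∈ F₁.autGroup P := by
    intro α hα hz
    obtain ⟨β, hβ, hβα⟩ := hD.ext α hα hz
    rw [mem_autGroup_iff F₁ hP.le]
    refine aut_restrict_mem le_rfl (hκ β hβ) hP.le ?_
    intro x hx
    show ((k (α (k⁻¹ ⟨x, hx⟩)) : P) : Ω) = (κ (β (κ⁻¹ ⟨x, hP.le hx⟩)) : S)
    rw [hk]
    congr 2
    apply Subtype.ext
    show ((α (k⁻¹ ⟨x, hx⟩) : P) : Ω) = (β (κ⁻¹ ⟨x, hP.le hx⟩) : S)
    rw [← hβα ((k⁻¹ ⟨x, hx⟩ : P) : Ω) (k⁻¹ ⟨x, hx⟩).2 (hP.le (k⁻¹ ⟨x, hx⟩).2)]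
    congr 2
    apply Subtype.ext
    exact hk' ⟨x, hx⟩
  rcases hD.spread α hα with h3 | ⟨r, hr⟩
  · exact key α hα h3
  obtain ⟨g, hg, hgr⟩ := hP.exg r
  obtain ⟨θ, hθ⟩ := exists_conjAut (hP.norm hg)
  have hθF : θ ∈ F.autGroup P :=
    autInducedBy_le_autGroup F hP.le ((mem_autInducedBy_iff S P θ).2 ⟨g, hg, hθ⟩)
  have h4 : n * θ * α ∈ F.autGroup P := mul_mem (mul_mem hn hθF) hα
  have h5 := key _ h4 (by
    intro x hx
    show ((n (θ (α x)) : P) : Ω) ∈ C.Z2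
    rw [hP.mem_Z2 (n (θ (α x))).2, hsw.vv, hθ, (hgr _ (α x).2).2, hr x hx]
    linear_combination (r * v (α x : P)) * h2)
  have h6 : k * θ * k⁻¹ ∈ F₁.autGroup P := by
    refine autInducedBy_le_autGroup F₁ hP.le ((mem_autInducedBy_iff S P _).2
      ⟨(κ ⟨g, hg⟩ : S), (κ ⟨g, hg⟩).2, fun x => ?_⟩)
    show ((k (θ (k⁻¹ x)) : P) : Ω) = _
    rw [hk]
    have h7 : (⟨(θ (k⁻¹ x) : P), hP.le (θ (k⁻¹ x)).2⟩ : S) = ⟨g, hg⟩ * (κ⁻¹ ⟨x, hP.le x.2⟩) * ⟨g, hg⟩⁻¹ := by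
      apply Subtype.ext
      show ((θ (k⁻¹ x) : P) : Ω) = g * (κ⁻¹ ⟨x, hP.le x.2⟩ : S) * g⁻¹
      rw [hθ, hk']
    rw [h7, map_mul, map_mul, map_inv, MulAut.apply_inv_self]
    rfl
  have h8 : k * α * k⁻¹ = (k * θ * k⁻¹)⁻¹ * (k * n * k⁻¹)⁻¹ * (k * (n * θ * α) * k⁻¹) := by group
  rw [h8]
  exact mul_mem (mul_mem (inv_mem h6) (inv_mem hkn)) h5

/-- The automizers of `P` correspond once the swaps do. -/
theorem side_iff [Finite S] (h2 : (2 : K) = 0) (hP : Side C P v) (hD : SideData F C P v)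
    (hD₁ : SideData F₁ C P v) {n n₁ : MulAut P}
    (hn : n ∈ F.autGroup P) (hsw : IsSwap C P v n) (hn₁ : n₁ ∈ F₁.autGroup P) (hsw₁ : IsSwap C P v n₁)
    {κ : MulAut S} {k : MulAut P} (hk : ∀ x : P, ((k x : P) : Ω) = (κ ⟨x, hP.le x.2⟩ : S))
    (hκ : ∀ α : MulAut S, α ∈ F.autGroup S ↔ κ * α * κ⁻¹ ∈ F₁.autGroup S)
    (hkn : k * n * k⁻¹ = n₁) (α : MulAut P) : α ∈ F.autGroup P ↔ k * α * k⁻¹ ∈ F₁.autGroup P := by
  constructor
  · intro hα
    exact side_le h2 hP hD hn hsw hk (fun α hα => (hκ α).1 hα) (hkn ▸ hn₁) hα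
  · intro hα
    have hk' : ∀ x : P, ((k⁻¹ x : P) : Ω) = (κ⁻¹ ⟨x, hP.le x.2⟩ : S) := by
      intro x
      have h3 := hk (k⁻¹ x)
      rw [MulAut.apply_inv_self] at h3
      have h4 : (⟨x, hP.le x.2⟩ : S) = κ ⟨(k⁻¹ x : P), hP.le (k⁻¹ x).2⟩ := Subtype.ext h3
      rw [h4, MulAut.inv_apply_self]
    have h3 := side_le (F := F₁) (F₁ := F) (κ := κ⁻¹) (k := k⁻¹) h2 hP hD₁ hn₁ hsw₁ hk'
      (fun α hα => by
        rw [hκ]
        have h4 : κ * (κ⁻¹ * α * κ⁻¹⁻¹) * κ⁻¹ = α := by group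
        rw [h4]
        exact hα)
      (by
        have h4 : k⁻¹ * n₁ * k⁻¹⁻¹ = n := by rw [← hkn]; group
        rw [h4]
        exact hn) hα
    have h4 : k⁻¹ * (k * α * k⁻¹) * k⁻¹⁻¹ = α := by group
    rwa [h4] at h3

/-- Swaps correspond, `|K| = 4`. -/
theorem swap_eq_of_four [Finite S] (hS : IsPGroup 2 S) (h2 : (2 : K) = 0) (hF : F.IsSaturated 2)
    (hF₁ : F₁.IsSaturated 2) (hP : Side C P v) {n n₁ : MulAut P}
    (hn : n ∈ F.autGroup P) (hsw : IsSwap C P v n) (hn₁ : n₁ ∈ F₁.autGroup P) (hsw₁ : IsSwap C P v n₁)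
    {κ : MulAut S} (hκN : κ ∈ NN C) {k : MulAut P}
    (hk : ∀ x : P, ((k x : P) : Ω) = (κ ⟨x, hP.le x.2⟩ : S))
    (hκ : ∀ α : MulAut S, α ∈ F.autGroup S ↔ κ * α * κ⁻¹ ∈ F₁.autGroup S)
    {c : K} (hc : 1 + c + c ^ 2 = 0) {h : MulAut S} (hh : h ∈ F.autGroup S)
    (hhv : ∀ x : S, (x : Ω) ∈ P → ((h x : S) : Ω) ∈ P ∧ v (h x : S) = c * v x ∧
      C.u (h x : S) = c ^ 2 * C.u x) (hhz : ∀ x : S, (x : Ω) ∈ C.Z1 → h x = x) :
    k * n * k⁻¹ = n₁ := by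
  have hc3 : c * c ^ 2 = 1 := by linear_combination (c - 1) * hc
  have hc4 : c ^ 2 * c ^ 2 = c := by linear_combination c * (c - 1) * hc
  have hfin : Finite P := finite_of_le hP.le
  -- restriction of `h`
  have hinj : Function.Injective (fun x : P => (⟨(h ⟨x, hP.le x.2⟩ : S), (hhv ⟨x, hP.le x.2⟩ x.2).1⟩ : P)) := by
    intro x y hxy
    have h3 := congrArg Subtype.val hxy
    have h4 : h ⟨x, hP.le x.2⟩ = h ⟨y, hP.le y.2⟩ := Subtype.ext h3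
    have h5 := h.injective h4
    exact Subtype.ext (congrArg (fun w : S => (w : Ω)) h5)
  let hp : MulAut P := MulEquiv.ofBijective
    (MonoidHom.mk' (fun x : P => (⟨(h ⟨x, hP.le x.2⟩ : S), (hhv ⟨x, hP.le x.2⟩ x.2).1⟩ : P)) (by
      intro x y
      apply Subtype.ext
      show ((h (⟨x, hP.le x.2⟩ * ⟨y, hP.le y.2⟩) : S) : Ω) = _
      rw [map_mul]
      rfl))
    ⟨hinj, Finite.surjective_of_injective hinj⟩
  have hpa : ∀ x : P, ((hp x : P) : Ω) = (h ⟨x, hP.le x.2⟩ : S) := fun x => rfl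
  have hpv : ∀ x : P, v (hp x : P) = c * v x := fun x => (hhv ⟨x, hP.le x.2⟩ x.2).2.1
  have hpu : ∀ x : P, C.u (hp x : P) = c ^ 2 * C.u x := fun x => (hhv ⟨x, hP.le x.2⟩ x.2).2.2
  have hpz : ∀ x : P, (x : Ω) ∈ C.Z1 → hp x = x := by
    intro x hx
    apply Subtype.ext
    rw [hpa, hhz _ hx]
  have hpF : hp ∈ F.autGroup P := by
    rw [mem_autGroup_iff F hP.le]
    exact aut_restrict_mem le_rfl hh hP.le (fun x hx => rfl)
  -- `k`
  have hkz : ∀ x : P, (x : Ω) ∈ C.Z1 → k x = x := by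
    intro x hx
    apply Subtype.ext
    rw [hk, hκN.1 ⟨x, hP.le x.2⟩ hx]
  have hkz1 : ∀ x : P, (x : Ω)⁻¹ * (k x : P) ∈ C.Z1 := by
    intro x
    rw [hk]
    exact hκN.2 ⟨x, hP.le x.2⟩
  have hcoord : ∀ x y : P, (x : Ω)⁻¹ * (y : P) ∈ C.Z1 → v y = v x ∧ C.u y = C.u x := by
    intro x y hxy
    have h4 : (x : Ω)⁻¹ * (y : P) ∈ P := P.mul_mem (P.inv_mem x.2) y.2
    have h5 : (x : Ω) * ((x : Ω)⁻¹ * (y : P)) = y := mul_inv_cancel_left _ _
    have h6 := (hP.mem_Z1 h4).1 hxy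
    have h7 := hP.v_mul x.2 h4
    have h8 := hP.u_mul x.2 h4
    rw [h5, h6.1, add_zero] at h7
    rw [h5, h6.2, add_zero] at h8
    exact ⟨h7, h8⟩
  have hkv : ∀ x : P, v (k x : P) = v x := fun x => (hcoord x (k x) (hkz1 x)).1
  have hku : ∀ x : P, C.u (k x : P) = C.u x := fun x => (hcoord x (k x) (hkz1 x)).2
  have hinvz : ∀ {γ : MulAut P}, (∀ x : P, (x : Ω) ∈ C.Z1 → γ x = x) →
      ∀ x : P, (x : Ω) ∈ C.Z1 → γ⁻¹ x = x := by
    intro γ hγ x hx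
    have h3 := hγ x hx
    rw [MulAut.inv_apply]
    exact (MulEquiv.symm_apply_eq γ).2 h3.symm
  have hkv' : ∀ x : P, v (k⁻¹ x : P) = v x := by
    intro x
    rw [← hkv (k⁻¹ x), MulAut.apply_inv_self]
  have hku' : ∀ x : P, C.u (k⁻¹ x : P) = C.u x := by
    intro x
    rw [← hku (k⁻¹ x), MulAut.apply_inv_self]
  have hnv' : ∀ {m : MulAut P}, IsSwap C P v m → ∀ x : P, v (m⁻¹ x : P) = C.u x := by
    intro m hm x
    rw [← hm.uu (m⁻¹ x), MulAut.apply_inv_self]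
  have hnu' : ∀ {m : MulAut P}, IsSwap C P v m → ∀ x : P, C.u (m⁻¹ x : P) = v x := by
    intro m hm x
    rw [← hm.vv (m⁻¹ x), MulAut.apply_inv_self]
  have h1n : n * hp * n⁻¹ * hp = 1 := by
    refine eq_one_of_chain hS hF hP (mul_mem (mul_mem (mul_mem hn hpF) (inv_mem hn)) hpF) ?_ ?_ ?_
    · intro x hx
      show n (hp (n⁻¹ (hp x))) = x
      rw [hpz x hx, hinvz hsw.triv x hx, hpz x hx, hsw.triv x hx]
    · intro x
      show v (n (hp (n⁻¹ (hp x))) : P) = v x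
      rw [hsw.vv, hpu, hnu' hsw, hpv]
      linear_combination (v x) * hc3
    · intro x
      show C.u (n (hp (n⁻¹ (hp x))) : P) = C.u x
      rw [hsw.uu, hpv, hnv' hsw, hpu]
      linear_combination (C.u x) * hc3
  -- the same for `n₁`
  set hp₁ : MulAut P := k * hp * k⁻¹ with hhp₁
  have hk' : ∀ x : P, ((k⁻¹ x : P) : Ω) = (κ⁻¹ ⟨x, hP.le x.2⟩ : S) := by
    intro x
    have h3 := hk (k⁻¹ x)
    rw [MulAut.apply_inv_self] at h3
    have h4 : (⟨x, hP.le x.2⟩ : S) = κ ⟨(k⁻¹ x : P), hP.le (k⁻¹ x).2⟩ := Subtype.ext h3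
    rw [h4, MulAut.inv_apply_self]
  have hp₁F : hp₁ ∈ F₁.autGroup P := by
    rw [mem_autGroup_iff F₁ hP.le]
    refine aut_restrict_mem le_rfl ((hκ h).1 hh) hP.le ?_
    intro x hx
    show ((k (hp (k⁻¹ ⟨x, hx⟩)) : P) : Ω) = (κ (h (κ⁻¹ ⟨x, hP.le hx⟩)) : S)
    rw [hk]
    congr 2
    apply Subtype.ext
    show ((hp (k⁻¹ ⟨x, hx⟩) : P) : Ω) = (h (κ⁻¹ ⟨x, hP.le hx⟩) : S)
    rw [hpa]
    congr 2
    apply Subtype.ext
    exact hk' ⟨x, hx⟩
  have hp₁v : ∀ x : P, v (hp₁ x : P) = c * v x := by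
    intro x
    show v (k (hp (k⁻¹ x)) : P) = _
    rw [hkv, hpv, hkv']
  have hp₁u : ∀ x : P, C.u (hp₁ x : P) = c ^ 2 * C.u x := by
    intro x
    show C.u (k (hp (k⁻¹ x)) : P) = _
    rw [hku, hpu, hku']
  have hp₁z : ∀ x : P, (x : Ω) ∈ C.Z1 → hp₁ x = x := by
    intro x hx
    show k (hp (k⁻¹ x)) = x
    rw [hinvz hkz x hx, hpz x hx, hkz x hx]
  have h1n₁ : n₁ * hp₁ * n₁⁻¹ * hp₁ = 1 := by
    refine eq_one_of_chain hS hF₁ hP (mul_mem (mul_mem (mul_mem hn₁ hp₁F) (inv_mem hn₁)) hp₁F) ?_ ?_ ?_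
    · intro x hx
      show n₁ (hp₁ (n₁⁻¹ (hp₁ x))) = x
      rw [hp₁z x hx, hinvz hsw₁.triv x hx, hp₁z x hx, hsw₁.triv x hx]
    · intro x
      show v (n₁ (hp₁ (n₁⁻¹ (hp₁ x))) : P) = v x
      rw [hsw₁.vv, hp₁u, hnu' hsw₁, hp₁v]
      linear_combination (v x) * hc3
    · intro x
      show C.u (n₁ (hp₁ (n₁⁻¹ (hp₁ x))) : P) = C.u x
      rw [hsw₁.uu, hp₁v, hnv' hsw₁, hp₁u]
      linear_combination (C.u x) * hc3
  -- `μ = n⁻¹ k⁻¹ n₁ k` commutes with `hp`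
  set μ : MulAut P := n⁻¹ * (k⁻¹ * n₁ * k) with hμ
  have hcomm : μ * hp = hp * μ := by
    have h5 : k⁻¹ * n₁ * k * hp * (k⁻¹ * n₁ * k)⁻¹ = hp⁻¹ := by
      have h6 : k⁻¹ * (n₁ * hp₁ * n₁⁻¹ * hp₁) * k = 1 := by rw [h1n₁]; group
      rw [hhp₁] at h6
      have h7 : k⁻¹ * n₁ * k * hp * (k⁻¹ * n₁ * k)⁻¹ * hp = 1 := by
        rw [← h6]; group
      exact eq_inv_of_mul_eq_one_left h7
    have h8 : n * hp * n⁻¹ = hp⁻¹ := eq_inv_of_mul_eq_one_left h1n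
    have h9 : n⁻¹ * hp⁻¹ * n = hp := by rw [← h8]; group
    have h10 : μ * hp * μ⁻¹ = hp := by
      have h11 : μ * hp * μ⁻¹ = n⁻¹ * (k⁻¹ * n₁ * k * hp * (k⁻¹ * n₁ * k)⁻¹) * n := by
        rw [hμ]; group
      rw [h11, h5, h9]
    calc μ * hp = μ * hp * μ⁻¹ * μ := by group
      _ = hp * μ := by rw [h10]
  have hμz : ∀ x : P, (x : Ω) ∈ C.Z1 → μ x = x := by
    intro x hx
    show n⁻¹ (k⁻¹ (n₁ (k x))) = x
    rw [hkz x hx, hsw₁.triv x hx, hinvz hkz x hx, hinvz hsw.triv x hx]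
  have hμv : ∀ x : P, v (μ x : P) = v x := by
    intro x
    show v (n⁻¹ (k⁻¹ (n₁ (k x))) : P) = _
    rw [hnv' hsw, hku', hsw₁.uu, hkv]
  have hμu : ∀ x : P, C.u (μ x : P) = C.u x := by
    intro x
    show C.u (n⁻¹ (k⁻¹ (n₁ (k x))) : P) = _
    rw [hnu' hsw, hkv', hsw₁.vv, hku]
  -- `δ x = z (μ x) - z x`
  have hδ : ∀ x y : P, C.z (μ (x * y) : P) - C.z ((x * y : P) : Ω) =
      (C.z (μ x : P) - C.z x) + (C.z (μ y : P) - C.z y) := by
    intro x y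
    rw [map_mul]
    have e1 : C.z (((μ x * μ y : P) : P) : Ω) = C.z (μ x : P) + C.z (μ y : P) :=
      hP.z_mul (μ x).2 (μ y).2
    have e2 : C.z ((x * y : P) : Ω) = C.z x + C.z y := hP.z_mul x.2 y.2
    rw [e1, e2]; ring
  have hδh : ∀ x : P, C.z (μ (hp x) : P) - C.z (hp x : P) = C.z (μ x : P) - C.z x := by
    intro x
    have h5 : μ (hp x) = hp (μ x) := by
      have := congrArg (fun γ : MulAut P => γ x) hcomm
      exact this
    rw [h5]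
    -- `μ x = x * w` with `w ∈ Z₁`
    have h6 : (x : Ω)⁻¹ * (μ x : P) ∈ P := P.mul_mem (P.inv_mem x.2) (μ x).2
    set w : P := ⟨_, h6⟩ with hw
    have h7 : x * w = μ x := Subtype.ext (mul_inv_cancel_left _ _)
    have h8 : (w : Ω) ∈ C.Z1 := by
      rw [hP.mem_Z1 w.2]
      have h9 := hP.v_mul x.2 w.2
      have h10 := hP.u_mul x.2 w.2
      have h11 : (x : Ω) * (w : P) = (μ x : P) := congrArg Subtype.val h7
      rw [h11, hμv] at h9
      rw [h11, hμu] at h10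
      exact ⟨by linear_combination -h9, by linear_combination -h10⟩
    rw [← h7, map_mul, hpz w h8]
    have e1 : C.z ((hp x * w : P) : Ω) = C.z (hp x : P) + C.z w := hP.z_mul (hp x).2 w.2
    have e2 : C.z ((x * w : P) : Ω) = C.z x + C.z w := hP.z_mul x.2 w.2
    rw [e1, e2]; ring
  have hδ0 : ∀ x : P, C.z (μ x : P) = C.z x := by
    intro x
    have h5 : ((x * hp x * hp (hp x) : P) : Ω) ∈ C.Z1 := by
      rw [hP.mem_Z1 (x * hp x * hp (hp x)).2]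
      have e1 := hP.v_mul (x * hp x).2 (hp (hp x)).2
      have e2 := hP.v_mul x.2 (hp x).2
      have e3 := hP.u_mul (x * hp x).2 (hp (hp x)).2
      have e4 := hP.u_mul x.2 (hp x).2
      constructor
      · show v (((x * hp x : P) : Ω) * (hp (hp x) : P)) = 0
        rw [e1]
        show v ((x : Ω) * (hp x : P)) + _ = 0
        rw [e2, hpv, hpv, hpv]
        linear_combination (v x) * hc
      · show C.u (((x * hp x : P) : Ω) * (hp (hp x) : P)) = 0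
        rw [e3]
        show C.u ((x : Ω) * (hp x : P)) + _ = 0
        rw [e4, hpu, hpu, hpu]
        linear_combination (C.u x) * hc + (C.u x) * hc4
    have h6 := hμz _ h5
    have h7 := hδ (x * hp x) (hp (hp x))
    have h8 := hδ x (hp x)
    rw [h6, sub_self, h8, hδh (hp x), hδh x] at h7
    have h9 : C.z (μ x : P) - C.z x = 0 := by
      linear_combination -h7 - (C.z (μ x : P) - C.z x) * h2
    exact sub_eq_zero.1 h9
  have hμ1 : μ = 1 := by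
    ext x
    exact hP.inj (μ x).2 x.2 (hμv x) (hμu x) (hδ0 x)
  have h12 : k⁻¹ * n₁ * k = n := by
    rw [hμ] at hμ1
    exact (inv_mul_eq_one.1 hμ1).symm
  rw [← h12]
  group

end side

end Cfsg.Agent.H18.Kappa
end

-- part: H18/Kappa
section
/-!
# S5260-R3 : uniqueness of the data up to an automorphism of `S` (helper18)
-/

set_option autoImplicit false

universe u v

namespace Cfsg.Agent.H18.Kappa

open Cfsg Cfsg.FusionSystem Cfsg.Agent.H802 Cfsg.Agent.H780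

variable {Ω : Type u} [Group Ω] {S : Subgroup Ω} {K : Type v} [Field K]

/-- The central automorphism `z ↦ z + e s + e' t`. -/
theorem exists_central (C : SpC S K) [Finite S] (e e' : K) :
    ∃ κ ∈ NN C, ∀ x : S, C.t (κ x : S) = C.t x ∧ C.s (κ x : S) = C.s x ∧ C.u (κ x : S) = C.u x ∧
      C.z (κ x : S) = C.z x + e * C.s x + e' * C.t x := by
  choose ζ hζS hζt hζs hζu hζz using fun c : K => C.surj 0 0 0 c
  let f : S → S := fun x => ⟨(x : Ω) * ζ (e * C.s x + e' * C.t x), S.mul_mem x.2 (hζS _)⟩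
  have hf : ∀ x : S, ((f x : S) : Ω) = (x : Ω) * ζ (e * C.s x + e' * C.t x) := fun _ => rfl
  have ht : ∀ x : S, C.t (f x : S) = C.t x := by
    intro x
    rw [hf, C.t_mul x.2 (hζS _), hζt, add_zero]
  have hs : ∀ x : S, C.s (f x : S) = C.s x := by
    intro x
    rw [hf, C.s_mul x.2 (hζS _), hζs, add_zero]
  have hu : ∀ x : S, C.u (f x : S) = C.u x := by
    intro x
    rw [hf, C.u_mul x.2 (hζS _), hζu, hζs]; ring
  have hz : ∀ x : S, C.z (f x : S) = C.z x + e * C.s x + e' * C.t x := by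
    intro x
    rw [hf, C.z_mul x.2 (hζS _), hζu, hζs, hζz]; ring
  have hinj : Function.Injective f := by
    intro x y hxy
    apply Subtype.ext
    have h1 := ht x
    rw [hxy, ht] at h1
    have h2 := hs x
    rw [hxy, hs] at h2
    have h3 := hu x
    rw [hxy, hu] at h3
    have h4 := hz x
    rw [hxy, hz, h1, h2] at h4
    exact C.inj x.2 y.2 h1.symm h2.symm h3.symm (by linear_combination -h4)
  have hmul : ∀ x y : S, f (x * y) = f x * f y := by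
    intro x y
    apply Subtype.ext
    have hx := (f x).2
    have hy := (f y).2
    have e1 : C.t ((x * y : S) : Ω) = C.t x + C.t y := C.t_mul x.2 y.2
    have e2 : C.s ((x * y : S) : Ω) = C.s x + C.s y := C.s_mul x.2 y.2
    have e3 : C.u ((x * y : S) : Ω) = C.u x + C.u y + C.t x * C.s y := C.u_mul x.2 y.2
    have e4 : C.z ((x * y : S) : Ω) = C.z x + C.z y + 2 * C.t x * C.u y + C.t x ^ 2 * C.s y :=
      C.z_mul x.2 y.2
    apply C.inj (f (x * y)).2 (S.mul_mem hx hy)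
    · rw [ht, C.t_mul hx hy, ht, ht, e1]
    · rw [hs, C.s_mul hx hy, hs, hs, e2]
    · rw [hu, C.u_mul hx hy, hu, hu, ht, hs, e3]
    · rw [hz, C.z_mul hx hy, hz, hz, ht, hs, hu, e1, e2, e4]
      ring
  let κ : MulAut S := MulEquiv.ofBijective (MonoidHom.mk' f hmul)
    ⟨hinj, Finite.surjective_of_injective hinj⟩
  have hκ : ∀ x, κ x = f x := fun _ => rfl
  refine ⟨κ, ⟨?_, ?_⟩, fun x => ⟨ht x, hs x, hu x, hz x⟩⟩
  · intro x hx
    have hx' : (x : Ω) ∈ C.Z1 := hx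
    rw [hκ]
    apply Subtype.ext
    apply C.inj (f x).2 x.2 (ht x) (hs x) (hu x)
    rw [hz, hx'.2.1, hx'.2.2.1]; ring
  · intro x
    rw [hκ]
    exact inv_mul_mem_Z1 C x.2 (f x).2 (ht x).symm (hs x).symm (hu x).symm

section side

variable {F F₁ : FusionSystem S} {C : SpC S K} {P : Subgroup Ω} {v : Ω → K}

/-- The shape of the swap over `F₂`. -/
theorem swap_form [Finite S] (hS : IsPGroup 2 S) (h2 : (2 : K) = 0) (h01 : ∀ c : K, c = 0 ∨ c = 1)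
    (hF : F.IsSaturated 2) (hP : Side C P v) {n : MulAut P} (hn : n ∈ F.autGroup P)
    (hsw : IsSwap C P v n) : ∃ a : K, ∀ x : P, C.z (n x : P) = C.z x + a * (v x + C.u x) := by
  have hn2 : n * n = 1 := by
    refine eq_one_of_chain hS hF hP (mul_mem hn hn) ?_ ?_ ?_
    · intro x hx
      show n (n x) = x
      rw [hsw.triv x hx, hsw.triv x hx]
    · intro x
      show v (n (n x) : P) = v x
      rw [hsw.vv, hsw.uu]
    · intro x
      show C.u (n (n x) : P) = C.u x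
      rw [hsw.uu, hsw.vv]
  have hnn : ∀ x : P, n (n x) = x := fun x => congrArg (fun γ : MulAut P => γ x) hn2
  have hδ : ∀ x y : P, C.z (n (x * y) : P) - C.z ((x * y : P) : Ω) =
      (C.z (n x : P) - C.z x) + (C.z (n y : P) - C.z y) := by
    intro x y
    rw [map_mul]
    have e1 : C.z (((n x * n y : P) : P) : Ω) = C.z (n x : P) + C.z (n y : P) :=
      hP.z_mul (n x).2 (n y).2
    have e2 : C.z ((x * y : P) : Ω) = C.z x + C.z y := hP.z_mul x.2 y.2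
    rw [e1, e2]; ring
  obtain ⟨x₁, hx₁, h1, h3, -⟩ := hP.surj 1 0 0
  set w : P := ⟨x₁, hx₁⟩ with hw
  have hwv : v (w : P) = 1 := h1
  have hwu : C.u (w : P) = 0 := h3
  -- `δ` depends only on `(v, u)`
  have hdep : ∀ x y : P, v (x : Ω) = v y → C.u (x : Ω) = C.u y →
      C.z (n x : P) - C.z x = C.z (n y : P) - C.z y := by
    intro x y hv hu
    have h4 : ((x⁻¹ * y : P) : Ω) ∈ C.Z1 := by
      rw [hP.mem_Z1 (x⁻¹ * y).2]
      have e0 : (x : Ω) * ((x⁻¹ * y : P) : Ω) = y := by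
        show (x : Ω) * ((x : Ω)⁻¹ * y) = y
        exact mul_inv_cancel_left _ _
      have e1 := hP.v_mul x.2 (x⁻¹ * y).2
      have e2 := hP.u_mul x.2 (x⁻¹ * y).2
      rw [e0] at e1 e2
      exact ⟨by linear_combination -e1 - hv, by linear_combination -e2 - hu⟩
    have h5 := hδ x (x⁻¹ * y)
    rw [mul_inv_cancel_left, hsw.triv _ h4, sub_self, add_zero] at h5
    exact h5.symm
  refine ⟨C.z (n w : P) - C.z w, fun x => ?_⟩
  have hwn : C.z (n (n w) : P) - C.z (n w : P) = C.z (n w : P) - C.z w := by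
    rw [hnn]
    linear_combination (C.z w - C.z (n w : P)) * h2
  rcases h01 (v x) with hv | hv <;> rcases h01 (C.u x) with hu | hu
  · have h4 : (x : Ω) ∈ C.Z1 := (hP.mem_Z1 x.2).2 ⟨hv, hu⟩
    rw [hsw.triv x h4, hv, hu]; ring
  · have h5 := hdep x (n w) (by rw [hsw.vv, hv, hwu]) (by rw [hsw.uu, hu, hwv])
    rw [hwn] at h5
    rw [hv, hu]
    linear_combination h5
  · have h5 := hdep x w (by rw [hv, hwv]) (by rw [hu, hwu])
    rw [hv, hu]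
    linear_combination h5
  · have e1 := hP.v_mul w.2 (n w).2
    have e2 := hP.u_mul w.2 (n w).2
    have h5 := hdep x (w * n w)
      (by
        show v (x : Ω) = v ((w : Ω) * (n w : P))
        rw [e1, hsw.vv, hwv, hwu, hv]; ring)
      (by
        show C.u (x : Ω) = C.u ((w : Ω) * (n w : P))
        rw [e2, hsw.uu, hwv, hwu, hu]; ring)
    rw [hδ, hwn] at h5
    rw [hv, hu]
    linear_combination h5

theorem swap_eq_of_two [Finite S] (hS : IsPGroup 2 S) (h2 : (2 : K) = 0) (h01 : ∀ c : K, c = 0 ∨ c = 1)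
    (hF : F.IsSaturated 2) (hF₁ : F₁.IsSaturated 2) (hP : Side C P v) {n n₁ : MulAut P}
    (hn : n ∈ F.autGroup P) (hsw : IsSwap C P v n) (hn₁ : n₁ ∈ F₁.autGroup P) (hsw₁ : IsSwap C P v n₁) :
    ∃ e : K, ∀ k : MulAut P, (∀ x : P, v (k x : P) = v x ∧ C.u (k x : P) = C.u x ∧
      C.z (k x : P) = C.z x + e * v x) → k * n * k⁻¹ = n₁ := by
  obtain ⟨a, ha⟩ := swap_form hS h2 h01 hF hP hn hsw
  obtain ⟨a₁, ha₁⟩ := swap_form hS h2 h01 hF₁ hP hn₁ hsw₁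
  refine ⟨a + a₁, fun k hk => ?_⟩
  have h3 : k * n = n₁ * k := by
    ext x
    show ((k (n x) : P) : Ω) = (n₁ (k x) : P)
    apply hP.inj (k (n x)).2 (n₁ (k x)).2
    · rw [(hk (n x)).1, hsw.vv, hsw₁.vv, (hk x).2.1]
    · rw [(hk (n x)).2.1, hsw.uu, hsw₁.uu, (hk x).1]
    · rw [(hk (n x)).2.2, ha, ha₁, (hk x).2.2, (hk x).1, (hk x).2.1, hsw.vv]
      linear_combination (a * C.u x - a₁ * v x) * h2
  rw [h3, mul_inv_cancel_right]

end side

/-- **S5260-R3.** -/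
theorem exists_kappa [Finite K] [CharP K 2] [Finite S] (hS : IsPGroup 2 S) {F F₁ : FusionSystem S}
    (hF : F.IsSaturated 2) (hF₁ : F₁.IsSaturated 2) {C : SpC S K} {Δ : Subgroup Kˣ}
    (hK : ∀ c : K, c ≠ 0 → c ^ 3 = 1) (D : TwoData F C Δ) (D₁ : TwoData F₁ C Δ) :
    ∃ κ : MulAut S, (∀ x : S, (x : Ω) ∈ C.Z1 → κ x = x) ∧ (∀ x : S, ((x⁻¹ * κ x : S) : Ω) ∈ C.Z1) ∧
      (∀ α : MulAut S, α ∈ F.autGroup S ↔ κ * α * κ⁻¹ ∈ F₁.autGroup S) ∧
      (∀ (k : MulAut C.M), (∀ x : C.M, ((k x : C.M) : Ω) = (κ ⟨x, C.M_le x.2⟩ : S)) →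
        ∀ α : MulAut C.M, α ∈ F.autGroup C.M ↔ k * α * k⁻¹ ∈ F₁.autGroup C.M) ∧
      (∀ (k : MulAut (C.L 0)), (∀ x : C.L 0, ((k x : C.L 0) : Ω) = (κ ⟨x, C.L_le 0 x.2⟩ : S)) →
        ∀ α : MulAut (C.L 0), α ∈ F.autGroup (C.L 0) ↔ k * α * k⁻¹ ∈ F₁.autGroup (C.L 0)) := by
  have h2 : (2 : K) = 0 := by
    have := CharP.cast_eq_zero K 2
    exact_mod_cast this
  obtain ⟨n, hn, hsw⟩ := exists_swap_M D
  obtain ⟨n₁, hn₁, hsw₁⟩ := exists_swap_M D₁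
  obtain ⟨m, hm, hmw⟩ := exists_swap_L D
  obtain ⟨m₁, hm₁, hmw₁⟩ := exists_swap_L D₁
  by_cases h01 : ∀ c : K, c = 0 ∨ c = 1
  · -- `|K| = 2`
    have hunit : ∀ a : Kˣ, (a : K) = 1 := fun a => (h01 a).resolve_left a.ne_zero
    have hAI : ∀ {F : FusionSystem S}, F.IsSaturated 2 → TwoData F C Δ →
        ∀ α : MulAut S, α ∈ F.autGroup S ↔ α ∈ autInducedBy S S := by
      intro F hF D α
      constructor
      · intro hα
        obtain ⟨a, b, -, r₁, r₂, h⟩ := exists_lin D hα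
        rw [hunit a, hunit b] at h
        have e1 : (1 : K) * 1 = 1 := one_mul 1
        have e2 : (1 : K) ^ 2 * 1 = 1 := by ring
        rw [e1, e2] at h
        exact mem_inn_of_lin hS hF C h2 hα h
      · exact fun hα => autInducedBy_le_autGroup F le_rfl hα
    obtain ⟨e, he⟩ := swap_eq_of_two hS h2 h01 hF hF₁ (side_M C) hn hsw hn₁ hsw₁
    obtain ⟨e', he'⟩ := swap_eq_of_two hS h2 h01 hF hF₁ (side_L C h2) hm hmw hm₁ hmw₁
    obtain ⟨κ, hκN, hκc⟩ := exists_central C e e'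
    have hκ : ∀ α : MulAut S, α ∈ F.autGroup S ↔ κ * α * κ⁻¹ ∈ F₁.autGroup S := by
      intro α
      rw [hAI hF D, hAI hF₁ D₁]
      constructor
      · exact fun h => inn_conj κ h
      · intro h
        have h3 := inn_conj κ⁻¹ h
        have h4 : κ⁻¹ * (κ * α * κ⁻¹) * κ⁻¹⁻¹ = α := by group
        rwa [h4] at h3
    refine ⟨κ, hκN.1, hκN.2, hκ, fun k hk α => ?_, fun k hk α => ?_⟩
    · refine side_iff h2 (side_M C) (sideData_M D) (sideData_M D₁) hn hsw hn₁ hsw₁ hk hκ (he k ?_) α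
      intro x
      have h3 := hκc ⟨x, C.M_le x.2⟩
      rw [hk]
      refine ⟨h3.2.1, h3.2.2.1, ?_⟩
      rw [h3.2.2.2]
      have h4 : C.t (x : Ω) = 0 := x.2.2
      show C.z (x : Ω) + e * C.s (x : Ω) + e' * C.t (x : Ω) = _
      rw [h4]; ring
    · refine side_iff h2 (side_L C h2) (sideData_L D) (sideData_L D₁) hm hmw hm₁ hmw₁ hk hκ (he' k ?_) α
      intro x
      have h3 := hκc ⟨x, C.L_le 0 x.2⟩
      rw [hk]
      refine ⟨h3.1, h3.2.2.1, ?_⟩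
      rw [h3.2.2.2]
      have h4 : C.s (x : Ω) = 0 := by rw [x.2.2, zero_mul]
      show C.z (x : Ω) + e * C.s (x : Ω) + e' * C.t (x : Ω) = _
      rw [h4]; ring
  · -- `|K| = 4`
    push Not at h01
    obtain ⟨c, hc0, hc1⟩ := h01
    have hc3 : c ^ 3 = 1 := hK c hc0
    have hc : 1 + c + c ^ 2 = 0 := by
      have h3 : (c - 1) * (1 + c + c ^ 2) = 0 := by linear_combination hc3
      exact (mul_eq_zero.1 h3).resolve_left (sub_ne_zero.2 hc1)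
    obtain ⟨κ, hκN, hκ⟩ := exists_kappa₀ hS hF hF₁ h2 hK D D₁
    let c' : Kˣ := Units.mk0 c hc0
    have hc'3 : c' ^ 2 * c' = 1 := by
      apply Units.ext
      show c ^ 2 * c = 1
      rw [← hc3]; ring
    obtain ⟨h, hh, hh1, hh2⟩ := D.exS c' c' (by rw [hc'3]; exact Δ.one_mem)
    have hhz : ∀ x : S, (x : Ω) ∈ C.Z1 → h x = x := by
      intro x hx
      obtain ⟨h3, h4⟩ := hh2 x hx
      apply Subtype.ext
      refine eq_of_mem_Z1 C h3 hx ?_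
      rw [h4]
      show c ^ 2 * c * C.z x = C.z x
      linear_combination (C.z x) * hc3
    have hcc : ((c' : Kˣ) : K) = c := rfl
    refine ⟨κ, hκN.1, hκN.2, hκ, fun k hk α => ?_, fun k hk α => ?_⟩
    · refine side_iff h2 (side_M C) (sideData_M D) (sideData_M D₁) hn hsw hn₁ hsw₁ hk hκ ?_ α
      refine swap_eq_of_four hS h2 hF hF₁ (side_M C) hn hsw hn₁ hsw₁ hκN hk hκ hc hh ?_ hhz
      intro x hx
      obtain ⟨h3, h4, h5⟩ := hh1 x
      rw [hcc] at h3 h4 h5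
      refine ⟨⟨(h x).2, ?_⟩, h4, ?_⟩
      · rw [h3, hx.2, mul_zero]
      · rw [h5]; ring
    · refine side_iff h2 (side_L C h2) (sideData_L D) (sideData_L D₁) hm hmw hm₁ hmw₁ hk hκ ?_ α
      refine swap_eq_of_four hS h2 hF hF₁ (side_L C h2) hm hmw hm₁ hmw₁ hκN hk hκ hc hh ?_ hhz
      intro x hx
      obtain ⟨h3, h4, h5⟩ := hh1 x
      rw [hcc] at h3 h4 h5
      have h6 : C.s (x : Ω) = 0 := by rw [hx.2, zero_mul]
      refine ⟨⟨(h x).2, ?_⟩, h3, ?_⟩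
      · rw [h4, h6, mul_zero, zero_mul]
      · rw [h5]; ring

end Cfsg.Agent.H18.Kappa
end

-- part: H780/SpFinal
section
/-!
# `p = 2`: the system is realizable (helper780)
-/

set_option autoImplicit false
set_option linter.unusedSectionVars false

universe u v w

namespace Cfsg.Agent.H780

open Cfsg Cfsg.FusionSystem Cfsg.Agent.H802 Cfsg.Agent.H781 Cfsg.Agent.H454.AlperinGL3

variable {Ω : Type u} [Group Ω] {S : Subgroup Ω}

/-- Restriction of an automorphism to an invariant subgroup. -/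
theorem exists_restrict_aut [Finite S] {P : Subgroup Ω} (hP : P ≤ S) (κ : MulAut S)
    (h : ∀ x : S, (x : Ω) ∈ P → ((κ x : S) : Ω) ∈ P) :
    ∃ k : MulAut P, ∀ x : P, ((k x : P) : Ω) = (κ ⟨x, hP x.2⟩ : S) := by
  have hfP : Finite P := finite_of_le hP
  let f : P →* P :=
    { toFun := fun x => ⟨(κ ⟨x, hP x.2⟩ : S), h ⟨x, hP x.2⟩ x.2⟩
      map_one' := by
        have h1 := congrArg Subtype.val (map_one κ)
        exact Subtype.ext h1
      map_mul' := fun x y => by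
        have h1 := congrArg Subtype.val (map_mul κ (⟨x, hP x.2⟩ : S) ⟨y, hP y.2⟩)
        exact Subtype.ext h1 }
  have hf : Function.Injective f := by
    intro x y hxy
    have h0 := congrArg Subtype.val hxy
    have h1 : ((κ ⟨x, hP x.2⟩ : S) : Ω) = (κ ⟨y, hP y.2⟩ : S) := h0
    have h2 := κ.injective (Subtype.ext h1)
    have h3 := congrArg Subtype.val h2
    exact Subtype.ext h3
  exact ⟨MulEquiv.ofBijective f ⟨hf, Finite.surjective_of_injective hf⟩, fun x => rfl⟩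

variable {K : Type v} [Field K]

/-- **A system with data for which the extension exists is realizable.** -/
theorem isRealizable_of_extData [Finite K] [CharP K 2] [Finite S] (hS : IsPGroup 2 S)
    {F : FusionSystem S} (hF : F.IsSaturated 2) {C : SpC S K} {Δ : Subgroup Kˣ}
    (hK : ∀ c : K, c ≠ 0 → c ^ 3 = 1) (D : TwoData F C Δ) {E : Type w} [Group E] [Finite E]
    {ι : S →* E} {ρ : E →* GD Δ} (h : ExtData C Δ ι ρ) : F.IsRealizable 2 := by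
  have h20 : (2 : K) = 0 := two_eq_zero
  obtain ⟨F₁, hreal, hF₁, ⟨T, hT⟩, D₁⟩ := H131.TwoDataExt.twoData_of_extData hS hK h
  obtain ⟨κ, hκ1, hκ2, hκS, hκM, hκL⟩ := H18.Kappa.exists_kappa hS hF hF₁ hK D D₁
  let ι' : S →* E := ι.comp κ.toMonoidHom
  have hι' : Function.Injective ι' := h.inj.comp κ.injective
  have hrange : ι'.range = ι.range := by
    ext y
    constructor
    · rintro ⟨x, rfl⟩
      exact ⟨κ x, rfl⟩
    · rintro ⟨x, rfl⟩
      refine ⟨κ.symm x, ?_⟩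
      show ι (κ (κ.symm x)) = ι x
      rw [MulEquiv.apply_symm_apply]
  set F' := pullback ι' hι' with hF'def
  have hreal' : F'.IsRealizedBy ι' := pullback_isRealizedBy ι' hι'
  have hT' : (T : Subgroup E) = ι'.range := hT.trans hrange.symm
  have hF' : F'.IsSaturated 2 := isSaturated_of_isRealizedBy hreal' T hT'
  have key : ∀ (P : Subgroup Ω) (hP : P ≤ S) (k : MulAut P)
      (_ : ∀ x : P, ((k x : P) : Ω) = (κ ⟨x, hP x.2⟩ : S)) (α : MulAut P),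
      α ∈ F'.autGroup P ↔ k * α * k⁻¹ ∈ F₁.autGroup P := by
    intro P hP k hk α
    have hk' : ∀ x : P, κ ⟨x, hP x.2⟩ = ⟨(k x : P), hP (k x).2⟩ := fun x => Subtype.ext (hk x).symm
    rw [mem_autGroup_iff F' hP, mem_autGroup_iff F₁ hP,
      hreal'.2 P hP _ (fun x => hP (α x).2), hreal.2 P hP _ (fun x => hP ((k * α * k⁻¹) x).2)]
    constructor
    · rintro ⟨g, hg⟩
      refine ⟨g, fun y => ?_⟩
      have h1 := hg (k⁻¹ y)
      have h2 : k (k⁻¹ y) = y := k.apply_symm_apply y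
      have h3 : ι' ⟨(k⁻¹ y : P), hP (k⁻¹ y).2⟩ = ι ⟨y, hP y.2⟩ := by
        show ι (κ ⟨(k⁻¹ y : P), hP (k⁻¹ y).2⟩) = _
        rw [hk', h2]
      rw [h3] at h1
      rw [← h1]
      show ι ⟨((k * α * k⁻¹) y : P), _⟩ = ι (κ ⟨(α (k⁻¹ y) : P), hP (α (k⁻¹ y)).2⟩)
      rw [hk']
      rfl
    · rintro ⟨g, hg⟩
      refine ⟨g, fun x => ?_⟩
      have h1 := hg (k x)
      have h2 : (k * α * k⁻¹) (k x) = k (α x) := by
        rw [MulAut.mul_apply, MulAut.mul_apply]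
        have h3 : k⁻¹ (k x) = x := k.symm_apply_apply x
        rw [h3]
      have h4 : ι ⟨(k (α x) : P), hP (k (α x)).2⟩ = g * ι ⟨(k x : P), hP (k x).2⟩ * g⁻¹ := by
        have h6 := congrArg Subtype.val h2
        have h5 : (⟨((k * α * k⁻¹) (k x) : P), hP ((k * α * k⁻¹) (k x)).2⟩ : S) =
          ⟨(k (α x) : P), hP (k (α x)).2⟩ := Subtype.ext h6
        rw [← h5]
        exact h1
      rw [← hk', ← hk'] at h4
      exact h4
  have hZM : C.Z1 ≤ C.M := C.Z1_le_Z2.trans C.Z2_le_M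
  have hZL : C.Z1 ≤ C.L 0 := C.Z1_le_Z2.trans (C.Z2_le_L 0)
  have hinv : ∀ P : Subgroup Ω, C.Z1 ≤ P → ∀ x : S, (x : Ω) ∈ P → ((κ x : S) : Ω) ∈ P := by
    intro P hP x hx
    have h1 : ((κ x : S) : Ω) = (x : Ω) * ((x⁻¹ * κ x : S) : Ω) := by
      show _ = (x : Ω) * ((x : Ω)⁻¹ * (κ x : S))
      group
    rw [h1]
    exact P.mul_mem hx (hP (hκ2 x))
  obtain ⟨kM, hkM⟩ := exists_restrict_aut C.M_le κ (hinv C.M hZM)
  obtain ⟨kL, hkL⟩ := exists_restrict_aut (C.L_le 0) κ (hinv (C.L 0) hZL)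
  have eM : F.autGroup C.M = F'.autGroup C.M := by
    ext α
    rw [hκM kM hkM α, key C.M C.M_le kM hkM α]
  have eL : F.autGroup (C.L 0) = F'.autGroup (C.L 0) := by
    ext α
    rw [hκL kL hkL α, key (C.L 0) (C.L_le 0) kL hkL α]
  have eS : F.autGroup S = F'.autGroup S := by
    ext α
    rw [hκS α, key S le_rfl κ (fun x => rfl) α]
  have h1 : F ≤ F' := S5082.result 2 hS F hF F' (by
    rintro P (rfl | hP)
    · exact eS.le
    · rcases C.essential_cases_two h20 hS hF hP with rfl | rfl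
      · exact eM.le
      · exact eL.le)
  have h2 : F' ≤ F := S5082.result 2 hS F' hF' F (by
    rintro P (rfl | hP)
    · exact eS.ge
    · rcases C.essential_cases_two h20 hS hF' hP with rfl | rfl
      · exact eM.ge
      · exact eL.ge)
  have h3 : F.IsRealizedBy ι' := by
    refine ⟨hι', fun P hP φ hφ => ?_⟩
    rw [← hreal'.2 P hP φ hφ]
    exact ⟨fun h => h1 P h, fun h => h2 P h⟩
  exact isRealizable_of_isRealizedBy h3 T hT'

end Cfsg.Agent.H780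
end
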