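import Mathlib
import Cfsg.Agent.H780.Heis
import Cfsg.Agent.H780.EssChain
import Cfsg.Agent.S5087
import Cfsg.Agent.H139.Bruhat
set_option linter.all false

-- part: H780/SpDefs
section
/-!
# Coordinates for the Sylow subgroups of `Sp₄(K)` and the actions on its abelian subgroups (helper780)
-/

set_option autoImplicit false

namespace Cfsg.Agent.H780

/-- Coordinates `(t,s,u,z)` on a group which looks like a Sylow `p`-subgroup of `Sp₄(K)`. -/
structure SpCoord (X : Type*) [Group X] (K : Type*) [Field K] where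
  t : X → K
  s : X → K
  u : X → K
  z : X → K
  t_mul : ∀ x y, t (x * y) = t x + t y
  s_mul : ∀ x y, s (x * y) = s x + s y
  u_mul : ∀ x y, u (x * y) = u x + u y + t x * s y
  z_mul : ∀ x y, z (x * y) = z x + z y + 2 * t x * u y + t x ^ 2 * s y
  inj : ∀ x y, t x = t y → s x = s y → u x = u y → z x = z y → x = y
  surj : ∀ a b c d : K, ∃ x, t x = a ∧ s x = b ∧ u x = c ∧ z x = d

/-- `θ_r : (a,b) ↦ (a, b + r a)` on `K × K`. -/
def theta {K : Type*} [Field K] (r : K) : Equiv.Perm (K × K) :=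
  { toFun := fun v => (v.1, v.2 + r * v.1)
    invFun := fun v => (v.1, v.2 - r * v.1)
    left_inv := fun v => by ext <;> simp
    right_inv := fun v => by ext <;> simp }

/-- `φ_t : (s,u,z) ↦ (s, u + t s, z + 2 t u + t² s)` on `K × K × K`. -/
def phi {K : Type*} [Field K] (t : K) : Equiv.Perm (K × K × K) :=
  { toFun := fun v => (v.1, v.2.1 + t * v.1, v.2.2 + 2 * t * v.2.1 + t ^ 2 * v.1)
    invFun := fun v => (v.1, v.2.1 - t * v.1, v.2.2 - 2 * t * v.2.1 + t ^ 2 * v.1)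
    left_inv := fun v => by ext <;> simp; ring
    right_inv := fun v => by ext <;> simp; ring }

@[simp] theorem theta_apply {K : Type*} [Field K] (r a b : K) : theta r (a, b) = (a, b + r * a) := rfl

@[simp] theorem phi_apply {K : Type*} [Field K] (t s u z : K) :
    phi t (s, u, z) = (s, u + t * s, z + 2 * t * u + t ^ 2 * s) := rfl

theorem theta_add {K : Type*} [Field K] (r r' : K) : theta (r + r') = theta r * theta r' := by
  apply Equiv.ext
  rintro ⟨a, b⟩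
  rw [Equiv.Perm.mul_apply, theta_apply, theta_apply, theta_apply]
  ext
  · rfl
  · show b + (r + r') * a = b + r' * a + r * a
    ring

theorem phi_add {K : Type*} [Field K] (t t' : K) : phi (t + t') = phi t * phi t' := by
  apply Equiv.ext
  rintro ⟨s, u, z⟩
  rw [Equiv.Perm.mul_apply, phi_apply, phi_apply, phi_apply]
  ext
  · rfl
  · show u + (t + t') * s = u + t' * s + t * s
    ring
  · show z + 2 * (t + t') * u + (t + t') ^ 2 * s =
      z + 2 * t' * u + t' ^ 2 * s + 2 * t * (u + t' * s) + t ^ 2 * s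
    ring

end Cfsg.Agent.H780
end

-- part: H780/SpBasic
section
/-!
# Coordinates on a Sylow subgroup of `Sp₄(K)`: elementary facts (helper780)
-/

set_option autoImplicit false

universe u

namespace Cfsg.Agent.H780

open Cfsg Cfsg.FusionSystem

/-- Coordinates as total functions on the ambient group. -/
structure SpC {Ω : Type*} [Group Ω] (S : Subgroup Ω) (K : Type*) [Field K] where
  t : Ω → K
  s : Ω → K
  u : Ω → K
  z : Ω → K
  t_mul : ∀ {x y}, x ∈ S → y ∈ S → t (x * y) = t x + t y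
  s_mul : ∀ {x y}, x ∈ S → y ∈ S → s (x * y) = s x + s y
  u_mul : ∀ {x y}, x ∈ S → y ∈ S → u (x * y) = u x + u y + t x * s y
  z_mul : ∀ {x y}, x ∈ S → y ∈ S → z (x * y) = z x + z y + 2 * t x * u y + t x ^ 2 * s y
  inj : ∀ {x y}, x ∈ S → y ∈ S → t x = t y → s x = s y → u x = u y → z x = z y → x = y
  surj : ∀ a b c d : K, ∃ x ∈ S, t x = a ∧ s x = b ∧ u x = c ∧ z x = d

/-- Total coordinates from coordinates on the subgroup. -/
noncomputable def SpCoord.toSpC {Ω : Type*} [Group Ω] {S : Subgroup Ω} {K : Type*} [Field K]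
    (C : SpCoord ↥S K) : SpC S K := by
  classical
  exact
  { t := fun x => if h : x ∈ S then C.t ⟨x, h⟩ else 0
    s := fun x => if h : x ∈ S then C.s ⟨x, h⟩ else 0
    u := fun x => if h : x ∈ S then C.u ⟨x, h⟩ else 0
    z := fun x => if h : x ∈ S then C.z ⟨x, h⟩ else 0
    t_mul := fun {x y} hx hy => by
      simp only [dif_pos hx, dif_pos hy, dif_pos (S.mul_mem hx hy)]
      exact C.t_mul ⟨x, hx⟩ ⟨y, hy⟩
    s_mul := fun {x y} hx hy => by
      simp only [dif_pos hx, dif_pos hy, dif_pos (S.mul_mem hx hy)]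
      exact C.s_mul ⟨x, hx⟩ ⟨y, hy⟩
    u_mul := fun {x y} hx hy => by
      simp only [dif_pos hx, dif_pos hy, dif_pos (S.mul_mem hx hy)]
      exact C.u_mul ⟨x, hx⟩ ⟨y, hy⟩
    z_mul := fun {x y} hx hy => by
      simp only [dif_pos hx, dif_pos hy, dif_pos (S.mul_mem hx hy)]
      exact C.z_mul ⟨x, hx⟩ ⟨y, hy⟩
    inj := fun {x y} hx hy h1 h2 h3 h4 => by
      simp only [dif_pos hx, dif_pos hy] at h1 h2 h3 h4
      exact congrArg Subtype.val (C.inj ⟨x, hx⟩ ⟨y, hy⟩ h1 h2 h3 h4)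
    surj := fun a b c d => by
      obtain ⟨x, h1, h2, h3, h4⟩ := C.surj a b c d
      refine ⟨x, x.2, ?_, ?_, ?_, ?_⟩ <;> simp only [dif_pos x.2] <;> assumption }

/-- Transport of coordinates along an isomorphism. -/
def SpCoord.comap {X Y : Type*} [Group X] [Group Y] {K : Type*} [Field K] (C : SpCoord X K)
    (e : Y ≃* X) : SpCoord Y K where
  t y := C.t (e y)
  s y := C.s (e y)
  u y := C.u (e y)
  z y := C.z (e y)
  t_mul x y := by rw [map_mul, C.t_mul]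
  s_mul x y := by rw [map_mul, C.s_mul]
  u_mul x y := by rw [map_mul, C.u_mul]
  z_mul x y := by rw [map_mul, C.z_mul]
  inj x y h1 h2 h3 h4 := e.injective (C.inj _ _ h1 h2 h3 h4)
  surj a b c d := by
    obtain ⟨x, h1, h2, h3, h4⟩ := C.surj a b c d
    exact ⟨e.symm x, by rw [e.apply_symm_apply]; exact h1, by rw [e.apply_symm_apply]; exact h2,
      by rw [e.apply_symm_apply]; exact h3, by rw [e.apply_symm_apply]; exact h4⟩

namespace SpC

variable {Ω : Type u} [Group Ω] {S : Subgroup Ω} {K : Type*} [Field K] (C : SpC S K)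

theorem t_one : C.t 1 = 0 := by
  have := C.t_mul S.one_mem S.one_mem
  rw [mul_one] at this
  simpa using this

theorem s_one : C.s 1 = 0 := by
  have := C.s_mul S.one_mem S.one_mem
  rw [mul_one] at this
  simpa using this

theorem u_one : C.u 1 = 0 := by
  have := C.u_mul S.one_mem S.one_mem
  rw [mul_one, C.t_one] at this
  simpa using this

theorem z_one : C.z 1 = 0 := by
  have := C.z_mul S.one_mem S.one_mem
  rw [mul_one, C.t_one] at this
  simpa using this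

variable {x y g : Ω}

theorem t_inv (hx : x ∈ S) : C.t x⁻¹ = - C.t x := by
  have := C.t_mul (S.inv_mem hx) hx
  rw [inv_mul_cancel, C.t_one] at this
  linear_combination -this

theorem s_inv (hx : x ∈ S) : C.s x⁻¹ = - C.s x := by
  have := C.s_mul (S.inv_mem hx) hx
  rw [inv_mul_cancel, C.s_one] at this
  linear_combination -this

theorem u_inv (hx : x ∈ S) : C.u x⁻¹ = - C.u x + C.t x * C.s x := by
  have := C.u_mul (S.inv_mem hx) hx
  rw [inv_mul_cancel, C.u_one, C.t_inv hx] at this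
  linear_combination -this

theorem z_inv (hx : x ∈ S) : C.z x⁻¹ = - C.z x + 2 * C.t x * C.u x - C.t x ^ 2 * C.s x := by
  have := C.z_mul (S.inv_mem hx) hx
  rw [inv_mul_cancel, C.z_one, C.t_inv hx] at this
  linear_combination -this

theorem t_conj (hg : g ∈ S) (hx : x ∈ S) : C.t (g * x * g⁻¹) = C.t x := by
  rw [C.t_mul (S.mul_mem hg hx) (S.inv_mem hg), C.t_mul hg hx, C.t_inv hg]; ring

theorem s_conj (hg : g ∈ S) (hx : x ∈ S) : C.s (g * x * g⁻¹) = C.s x := by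
  rw [C.s_mul (S.mul_mem hg hx) (S.inv_mem hg), C.s_mul hg hx, C.s_inv hg]; ring

theorem u_conj (hg : g ∈ S) (hx : x ∈ S) :
    C.u (g * x * g⁻¹) = C.u x + C.t g * C.s x - C.t x * C.s g := by
  rw [C.u_mul (S.mul_mem hg hx) (S.inv_mem hg), C.u_mul hg hx, C.t_mul hg hx, C.u_inv hg, C.s_inv hg]
  ring

theorem z_conj (hg : g ∈ S) (hx : x ∈ S) :
    C.z (g * x * g⁻¹) = C.z x + 2 * C.t g * C.u x + C.t g ^ 2 * C.s x - 2 * C.t x * C.u g
      - C.t x ^ 2 * C.s g := by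
  rw [C.z_mul (S.mul_mem hg hx) (S.inv_mem hg), C.z_mul hg hx, C.t_mul hg hx, C.u_inv hg, C.s_inv hg,
    C.z_inv hg]
  ring

theorem comm_iff (hx : x ∈ S) (hy : y ∈ S) : x * y = y * x ↔
    C.t x * C.s y = C.t y * C.s x ∧
      2 * C.t x * C.u y + C.t x ^ 2 * C.s y = 2 * C.t y * C.u x + C.t y ^ 2 * C.s x := by
  constructor
  · intro h
    have h1 := congrArg C.u h
    have h2 := congrArg C.z h
    rw [C.u_mul hx hy, C.u_mul hy hx] at h1
    rw [C.z_mul hx hy, C.z_mul hy hx] at h2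
    exact ⟨by linear_combination h1, by linear_combination h2⟩
  · rintro ⟨h1, h2⟩
    apply C.inj (S.mul_mem hx hy) (S.mul_mem hy hx)
    · rw [C.t_mul hx hy, C.t_mul hy hx, add_comm]
    · rw [C.s_mul hx hy, C.s_mul hy hx, add_comm]
    · rw [C.u_mul hx hy, C.u_mul hy hx]; linear_combination h1
    · rw [C.z_mul hx hy, C.z_mul hy hx]; linear_combination h2

/-- `M = {t = 0}`. -/
def M : Subgroup Ω where
  carrier := {x | x ∈ S ∧ C.t x = 0}
  one_mem' := ⟨S.one_mem, C.t_one⟩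
  mul_mem' := fun {x y} hx hy => ⟨S.mul_mem hx.1 hy.1, by rw [C.t_mul hx.1 hy.1, hx.2, hy.2, add_zero]⟩
  inv_mem' := fun {x} hx => ⟨S.inv_mem hx.1, by rw [C.t_inv hx.1, hx.2, neg_zero]⟩

theorem mem_M : x ∈ C.M ↔ x ∈ S ∧ C.t x = 0 := Iff.rfl

theorem M_le : C.M ≤ S := fun _ hx => hx.1

/-- `L_m = {s = m t}`. -/
def L (m : K) : Subgroup Ω where
  carrier := {x | x ∈ S ∧ C.s x = m * C.t x}
  one_mem' := ⟨S.one_mem, by rw [C.s_one, C.t_one, mul_zero]⟩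
  mul_mem' := fun {x y} hx hy => ⟨S.mul_mem hx.1 hy.1, by
    rw [C.t_mul hx.1 hy.1, C.s_mul hx.1 hy.1, hx.2, hy.2, mul_add]⟩
  inv_mem' := fun {x} hx => ⟨S.inv_mem hx.1, by rw [C.t_inv hx.1, C.s_inv hx.1, hx.2, mul_neg]⟩

theorem mem_L {m : K} : x ∈ C.L m ↔ x ∈ S ∧ C.s x = m * C.t x := Iff.rfl

theorem L_le (m : K) : C.L m ≤ S := fun _ hx => hx.1

/-- `Z₂ = {t = s = 0}`. -/
def Z2 : Subgroup Ω where
  carrier := {x | x ∈ S ∧ C.t x = 0 ∧ C.s x = 0}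
  one_mem' := ⟨S.one_mem, C.t_one, C.s_one⟩
  mul_mem' := fun {x y} hx hy => ⟨S.mul_mem hx.1 hy.1,
    by rw [C.t_mul hx.1 hy.1, hx.2.1, hy.2.1, add_zero],
    by rw [C.s_mul hx.1 hy.1, hx.2.2, hy.2.2, add_zero]⟩
  inv_mem' := fun {x} hx => ⟨S.inv_mem hx.1, by rw [C.t_inv hx.1, hx.2.1, neg_zero],
    by rw [C.s_inv hx.1, hx.2.2, neg_zero]⟩

theorem mem_Z2 : x ∈ C.Z2 ↔ x ∈ S ∧ C.t x = 0 ∧ C.s x = 0 := Iff.rfl

theorem Z2_le : C.Z2 ≤ S := fun _ hx => hx.1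

/-- `Z₁ = {t = s = u = 0}`, the centre for `p` odd. -/
def Z1 : Subgroup Ω where
  carrier := {x | x ∈ S ∧ C.t x = 0 ∧ C.s x = 0 ∧ C.u x = 0}
  one_mem' := ⟨S.one_mem, C.t_one, C.s_one, C.u_one⟩
  mul_mem' := fun {x y} hx hy => ⟨S.mul_mem hx.1 hy.1,
    by rw [C.t_mul hx.1 hy.1, hx.2.1, hy.2.1, add_zero],
    by rw [C.s_mul hx.1 hy.1, hx.2.2.1, hy.2.2.1, add_zero],
    by rw [C.u_mul hx.1 hy.1, hx.2.2.2, hy.2.2.2, hx.2.1]; ring⟩
  inv_mem' := fun {x} hx => ⟨S.inv_mem hx.1, by rw [C.t_inv hx.1, hx.2.1, neg_zero],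
    by rw [C.s_inv hx.1, hx.2.2.1, neg_zero], by rw [C.u_inv hx.1, hx.2.2.2, hx.2.1]; ring⟩

theorem mem_Z1 : x ∈ C.Z1 ↔ x ∈ S ∧ C.t x = 0 ∧ C.s x = 0 ∧ C.u x = 0 := Iff.rfl

theorem Z1_le : C.Z1 ≤ S := fun _ hx => hx.1

theorem Z1_le_Z2 : C.Z1 ≤ C.Z2 := fun _ hx => ⟨hx.1, hx.2.1, hx.2.2.1⟩

theorem Z2_le_M : C.Z2 ≤ C.M := fun _ hx => ⟨hx.1, hx.2.1⟩

theorem Z2_le_L (m : K) : C.Z2 ≤ C.L m := fun _ hx => ⟨hx.1, by rw [hx.2.1, hx.2.2, mul_zero]⟩

theorem comm_mem_Z2 (hg : g ∈ S) (hx : x ∈ S) : x⁻¹ * (g * x * g⁻¹) ∈ C.Z2 := by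
  have h1 := S.mul_mem (S.mul_mem hg hx) (S.inv_mem hg)
  refine ⟨S.mul_mem (S.inv_mem hx) h1, ?_, ?_⟩
  · rw [C.t_mul (S.inv_mem hx) h1, C.t_conj hg hx, C.t_inv hx]; ring
  · rw [C.s_mul (S.inv_mem hx) h1, C.s_conj hg hx, C.s_inv hx]; ring

theorem comm_mem_Z1_iff (hg : g ∈ S) (hx : x ∈ S) :
    x⁻¹ * (g * x * g⁻¹) ∈ C.Z1 ↔ C.t g * C.s x = C.t x * C.s g := by
  have h1 := S.mul_mem (S.mul_mem hg hx) (S.inv_mem hg)
  have h2 := C.comm_mem_Z2 hg hx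
  have h3 : C.u (x⁻¹ * (g * x * g⁻¹)) = C.t g * C.s x - C.t x * C.s g := by
    rw [C.u_mul (S.inv_mem hx) h1, C.u_conj hg hx, C.u_inv hx, C.s_conj hg hx, C.t_inv hx]; ring
  constructor
  · intro h
    have := h.2.2.2
    rw [h3] at this
    exact sub_eq_zero.1 this
  · intro h
    exact ⟨h2.1, h2.2.1, h2.2.2, by rw [h3]; exact sub_eq_zero.2 h⟩

theorem M_comm (hx : x ∈ C.M) (hy : y ∈ C.M) : x * y = y * x := by
  rw [C.comm_iff hx.1 hy.1, hx.2, hy.2]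
  constructor <;> ring

theorem Z1_comm (hx : x ∈ C.Z1) (hy : y ∈ S) : x * y = y * x := by
  rw [C.comm_iff hx.1 hy, hx.2.1, hx.2.2.1, hx.2.2.2]
  constructor <;> ring

/-- A subgroup of `S` containing `Z₂` is normalized by `S`. -/
theorem conj_mem_of_Z2_le {P : Subgroup Ω} (hP : P ≤ S) (hZ : C.Z2 ≤ P) (hg : g ∈ S) (hx : x ∈ P) :
    g * x * g⁻¹ ∈ P := by
  have h1 := C.comm_mem_Z2 hg (hP hx)
  have h2 : g * x * g⁻¹ = x * (x⁻¹ * (g * x * g⁻¹)) := by group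
  rw [h2]
  exact P.mul_mem hx (hZ h1)

section odd

variable (h2 : (2 : K) ≠ 0)

include h2 in
/-- (`p` odd) the centre. -/
theorem mem_Z1_of_comm (hx : x ∈ S) (h : ∀ y ∈ S, x * y = y * x) : x ∈ C.Z1 := by
  obtain ⟨y, hy, h3, h4, h5, -⟩ := C.surj 1 0 0 0
  obtain ⟨w, hw, h6, h7, h8, -⟩ := C.surj 0 1 0 0
  have h9 := (C.comm_iff hx hy).1 (h y hy)
  have h10 := (C.comm_iff hx hw).1 (h w hw)
  rw [h3, h4, h5] at h9
  rw [h6, h7, h8] at h10
  have h11 : C.s x = 0 := by linear_combination -h9.1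
  have h12 : C.t x = 0 := by linear_combination h10.1
  refine ⟨hx, h12, h11, ?_⟩
  have h13 := h9.2
  rw [h11, h12] at h13
  have h14 : 2 * C.u x = 0 := by linear_combination -h13
  exact (mul_eq_zero.1 h14).resolve_left h2

include h2 in
/-- (`p` odd) an element commuting with an element of `M ∖ Z₁` lies in `M`. -/
theorem t_eq_zero_of_comm (hx : x ∈ C.M) (hxZ : x ∉ C.Z1) (hy : y ∈ S) (h : x * y = y * x) :
    C.t y = 0 := by
  by_contra hty
  have h1 := (C.comm_iff hx.1 hy).1 h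
  rw [hx.2] at h1
  have h3 : C.s x = 0 := by
    have : C.t y * C.s x = 0 := by linear_combination -h1.1
    exact (mul_eq_zero.1 this).resolve_left hty
  have h4 : C.u x = 0 := by
    have h5 := h1.2
    rw [h3] at h5
    have : (2 * C.t y) * C.u x = 0 := by linear_combination -h5
    exact (mul_eq_zero.1 this).resolve_left (mul_ne_zero h2 hty)
  exact hxZ ⟨hx.1, hx.2, h3, h4⟩

omit h2 in
/-- The centralizer of an element outside `M` is abelian. -/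
theorem comm_of_comm {a b : Ω} (hx : x ∈ S) (htx : C.t x ≠ 0) (ha : a ∈ S) (hb : b ∈ S)
    (hax : x * a = a * x) (hbx : x * b = b * x) : a * b = b * a := by
  have h3 := (C.comm_iff hx ha).1 hax
  have h4 := (C.comm_iff hx hb).1 hbx
  rw [C.comm_iff ha hb]
  obtain ⟨h5, h6⟩ := h3
  obtain ⟨h7, h8⟩ := h4
  have h9 : C.t a * C.s b = C.t b * C.s a := by
    apply mul_left_cancel₀ htx
    linear_combination C.t a * h7 - C.t b * h5
  refine ⟨h9, ?_⟩
  apply mul_left_cancel₀ htx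
  linear_combination (C.t a) * h8 - (C.t b) * h6 + (C.t a ^ 2 - C.t a * C.t x) * h7
    - (C.t b ^ 2 - C.t b * C.t x) * h5

end odd

end SpC

end Cfsg.Agent.H780
end

-- part: H780/SpEss
section
/-!
# Essential subgroups of saturated systems over a Sylow subgroup of `Sp₄(K)`, `p` odd (helper780)
-/

set_option autoImplicit false

universe u

namespace Cfsg.Agent.H780

open Cfsg Cfsg.FusionSystem Cfsg.Agent.H802

variable {Ω : Type u} [Group Ω] {S : Subgroup Ω} {K : Type*} [Field K] (C : SpC S K)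

/-- A chain of length two. -/
def chain2 (A B : Subgroup Ω) : ℕ → Subgroup Ω
  | 0 => A
  | 1 => B
  | _ => ⊥

/-- A chain of length three. -/
def chain3 (A B D : Subgroup Ω) : ℕ → Subgroup Ω
  | 0 => A
  | 1 => B
  | 2 => D
  | _ => ⊥

theorem mem_of_chain2 [Finite S] {p : ℕ} [Fact p.Prime] (hS : IsPGroup p S)
    {F : FusionSystem S} {P : Subgroup Ω} (hP : F.IsEssential p P) (A : Subgroup Ω) (hA : A ≤ P)
    (hinv : ∀ α ∈ F.autGroup P, ∀ x : P, (x : Ω) ∈ A → ((α x : P) : Ω) ∈ A)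
    {g : Ω} (hg : g ∈ S) (h1 : ∀ x ∈ P, x⁻¹ * (g * x * g⁻¹) ∈ A)
    (h2 : ∀ x ∈ A, g * x * g⁻¹ = x) : g ∈ P := by
  refine mem_of_chain hS hP 2 (chain2 P A) le_rfl ?_ rfl ?_ hg ?_ ?_
  · rintro (_ | _ | i)
    · exact hA
    · exact bot_le
    · exact le_rfl
  · rintro α hα (_ | _ | i) x hx
    · exact (α x).2
    · exact hinv α hα x hx
    · have hx' : (x : Ω) ∈ (⊥ : Subgroup Ω) := hx
      rw [Subgroup.mem_bot] at hx'
      have hx2 : x = 1 := Subtype.ext hx'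
      rw [hx2, map_one]
      exact Subgroup.one_mem _
  · intro x hx
    have h3 := P.mul_mem hx (hA (h1 x hx))
    rwa [mul_inv_cancel_left] at h3
  · rintro (_ | _ | i) hi x hx hxc
    · exact h1 x hx
    · have h3 : x ∈ A := hxc
      rw [h2 x h3, inv_mul_cancel]
      exact Subgroup.one_mem _
    · omega

theorem mem_of_chain3 [Finite S] {p : ℕ} [Fact p.Prime] (hS : IsPGroup p S)
    {F : FusionSystem S} {P : Subgroup Ω} (hP : F.IsEssential p P) (A B : Subgroup Ω) (hA : A ≤ P)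
    (hB : B ≤ A)
    (hinvA : ∀ α ∈ F.autGroup P, ∀ x : P, (x : Ω) ∈ A → ((α x : P) : Ω) ∈ A)
    (hinvB : ∀ α ∈ F.autGroup P, ∀ x : P, (x : Ω) ∈ B → ((α x : P) : Ω) ∈ B)
    {g : Ω} (hg : g ∈ S) (h1 : ∀ x ∈ P, x⁻¹ * (g * x * g⁻¹) ∈ A)
    (h2 : ∀ x ∈ A, x⁻¹ * (g * x * g⁻¹) ∈ B)
    (h3 : ∀ x ∈ B, g * x * g⁻¹ = x) : g ∈ P := by
  refine mem_of_chain hS hP 3 (chain3 P A B) le_rfl ?_ rfl ?_ hg ?_ ?_
  · rintro (_ | _ | _ | i)
    · exact hA
    · exact hB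
    · exact bot_le
    · exact le_rfl
  · rintro α hα (_ | _ | _ | i) x hx
    · exact (α x).2
    · exact hinvA α hα x hx
    · exact hinvB α hα x hx
    · have hx' : (x : Ω) ∈ (⊥ : Subgroup Ω) := hx
      rw [Subgroup.mem_bot] at hx'
      have hx2 : x = 1 := Subtype.ext hx'
      rw [hx2, map_one]
      exact Subgroup.one_mem _
  · intro x hx
    have h4 := P.mul_mem hx (hA (h1 x hx))
    rwa [mul_inv_cancel_left] at h4
  · rintro (_ | _ | _ | i) hi x hx hxc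
    · exact h1 x hx
    · exact h2 x hxc
    · have h4 : x ∈ B := hxc
      rw [h3 x h4, inv_mul_cancel]
      exact Subgroup.one_mem _
    · omega

/-- A subgroup of `P` characterised by commutation conditions is invariant. -/
theorem center_invariant {P A : Subgroup Ω} (hA : ∀ x ∈ P, x ∈ A ↔ ∀ y ∈ P, x * y = y * x)
    (α : MulAut P) (x : P) (hx : (x : Ω) ∈ A) : ((α x : P) : Ω) ∈ A := by
  rw [hA _ (α x).2]
  rw [hA _ x.2] at hx
  intro y hy
  have h1 : x * α.symm ⟨y, hy⟩ = α.symm ⟨y, hy⟩ * x := Subtype.ext (hx _ (α.symm ⟨y, hy⟩).2)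
  have h2 := congrArg α h1
  rw [map_mul, map_mul, MulEquiv.apply_symm_apply] at h2
  exact congrArg Subtype.val h2

/-- The second centre relative to an invariant subgroup is invariant. -/
theorem second_invariant {P A B : Subgroup Ω} (hPA : ∀ x ∈ P, x ∈ A ↔ ∀ y ∈ P, y⁻¹ * (x * y * x⁻¹) ∈ B)
    (α : MulAut P) (hB : ∀ x : P, (x : Ω) ∈ B → ((α x : P) : Ω) ∈ B) (x : P) (hx : (x : Ω) ∈ A) :
    ((α x : P) : Ω) ∈ A := by
  rw [hPA _ (α x).2]
  rw [hPA _ x.2] at hx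
  intro y hy
  have h1 := hx _ (α.symm ⟨y, hy⟩).2
  have h2 := hB ((α.symm ⟨y, hy⟩)⁻¹ * (x * (α.symm ⟨y, hy⟩) * x⁻¹)) h1
  rw [map_mul, map_mul, map_mul, map_inv, map_inv, MulEquiv.apply_symm_apply] at h2
  exact h2

section odd

variable (h2 : (2 : K) ≠ 0)

include h2 in
/-- A nonabelian subgroup of `S` has centralizer in `Z₁`. -/
theorem SpC.centralizer_le_Z1 {P : Subgroup Ω} (hP : P ≤ S) {a b : Ω} (ha : a ∈ P) (hb : b ∈ P)
    (hab : a * b ≠ b * a) {y : Ω} (hy : y ∈ S) (hyP : ∀ x ∈ P, y * x = x * y) : y ∈ C.Z1 := by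
  by_contra hyZ
  by_cases hty : C.t y = 0
  · have h3 : ∀ x ∈ P, C.t x = 0 := fun x hx =>
      C.t_eq_zero_of_comm h2 ⟨hy, hty⟩ hyZ (hP hx) (hyP x hx)
    exact hab (C.M_comm ⟨hP ha, h3 a ha⟩ ⟨hP hb, h3 b hb⟩)
  · exact hab (C.comm_of_comm hy hty (hP ha) (hP hb) (hyP a ha) (hyP b hb))

include h2 in
/-- Nonabelian essential subgroups are among the `L_m`. -/
theorem SpC.eq_L_of_nonabelian [Finite S] {p : ℕ} [Fact p.Prime] (hS : IsPGroup p S)
    {F : FusionSystem S} (hF : F.IsSaturated p) {P : Subgroup Ω} (hP : F.IsEssential p P)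
    {a b : Ω} (ha : a ∈ P) (hb : b ∈ P) (hab : a * b ≠ b * a) : ∃ m : K, P = C.L m := by
  have hPS := hP.1.1
  have hCP : centralizerIn S P ≤ P := hP.1.2 P (isConj_refl F hPS)
  have hZP : C.Z1 ≤ P := fun z hz => hCP (mem_centralizerIn.2 ⟨hz.1, fun y hy =>
    (C.Z1_comm hz (hPS hy)).symm⟩)
  have hcen : ∀ x ∈ P, x ∈ C.Z1 ↔ ∀ y ∈ P, x * y = y * x := by
    intro x hx
    refine ⟨fun h y hy => C.Z1_comm h (hPS hy), fun h => ?_⟩
    exact C.centralizer_le_Z1 h2 hPS ha hb hab (hPS hx) h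
  have hinvZ : ∀ α ∈ F.autGroup P, ∀ x : P, (x : Ω) ∈ C.Z1 → ((α x : P) : Ω) ∈ C.Z1 :=
    fun α _ x hx => center_invariant hcen α x hx
  have hZfix : ∀ g ∈ S, ∀ x ∈ C.Z1, g * x * g⁻¹ = x := by
    intro g hg x hx
    rw [← C.Z1_comm hx hg, mul_inv_cancel_right]
  -- `Z₂ ≤ P`
  have hZ2P : C.Z2 ≤ P := by
    intro g hg
    refine mem_of_chain2 hS hP C.Z1 hZP hinvZ hg.1 (fun x hx => ?_) (hZfix g hg.1)
    rw [C.comm_mem_Z1_iff hg.1 (hPS hx), hg.2.1, hg.2.2]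
    ring
  by_cases hcase : ∀ x ∈ P, ∀ y ∈ P, C.t x * C.s y = C.t y * C.s x
  · -- proportional
    obtain ⟨x, hx, htx⟩ : ∃ x ∈ P, C.t x ≠ 0 := by
      by_contra hcon
      push Not at hcon
      exact hab (C.M_comm ⟨hPS ha, hcon a ha⟩ ⟨hPS hb, hcon b hb⟩)
    have hsub : ∀ y ∈ P, C.s y = C.s x / C.t x * C.t y := by
      intro y hy
      have h3 := hcase x hx y hy
      rw [div_mul_eq_mul_div, eq_div_iff htx]
      linear_combination h3
    refine ⟨C.s x / C.t x, le_antisymm (fun y hy => ⟨hPS hy, hsub y hy⟩) ?_⟩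
    intro g hg
    refine mem_of_chain2 hS hP C.Z1 hZP hinvZ hg.1 ?_ (hZfix g hg.1)
    intro y hy
    rw [C.comm_mem_Z1_iff hg.1 (hPS hy), hsub y hy, hg.2]
    ring
  · -- `P = S`
    exfalso
    push Not at hcase
    obtain ⟨x, hx, y, hy, hxy⟩ := hcase
    have hsec : ∀ w ∈ P, w ∈ C.Z2 ↔ ∀ v ∈ P, v⁻¹ * (w * v * w⁻¹) ∈ C.Z1 := by
      intro w hw
      constructor
      · intro h v hv
        rw [C.comm_mem_Z1_iff (hPS hw) (hPS hv), h.2.1, h.2.2]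
        ring
      · intro h
        have h3 := (C.comm_mem_Z1_iff (hPS hw) (hPS hx)).1 (h x hx)
        have h4 := (C.comm_mem_Z1_iff (hPS hw) (hPS hy)).1 (h y hy)
        have h5 : C.t x * C.s y - C.t y * C.s x ≠ 0 := sub_ne_zero.2 hxy
        refine ⟨hPS hw, ?_, ?_⟩
        · apply (mul_eq_zero.1 (?_ : (C.t x * C.s y - C.t y * C.s x) * C.t w = 0)).resolve_left h5
          linear_combination (C.t x) * h4 - (C.t y) * h3
        · apply (mul_eq_zero.1 (?_ : (C.t x * C.s y - C.t y * C.s x) * C.s w = 0)).resolve_left h5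
          linear_combination (C.s x) * h4 - (C.s y) * h3
    have hinv2 : ∀ α ∈ F.autGroup P, ∀ x : P, (x : Ω) ∈ C.Z2 → ((α x : P) : Ω) ∈ C.Z2 :=
      fun α hα x hx => second_invariant hsec α (hinvZ α hα) x hx
    apply ne_of_isEssential hS hF hP
    apply le_antisymm hPS
    intro g hg
    refine mem_of_chain3 hS hP C.Z2 C.Z1 hZ2P C.Z1_le_Z2 hinv2 hinvZ hg
      (fun v hv => C.comm_mem_Z2 hg (hPS hv)) (fun v hv => ?_) (hZfix g hg)
    rw [C.comm_mem_Z1_iff hg hv.1, hv.2.1, hv.2.2]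
    ring

include h2 in
/-- Abelian essential subgroups are equal to `M`, if a nontrivial subgroup of `Z₁` is strongly closed. -/
theorem SpC.eq_M_of_abelian [Finite S] {p : ℕ} [Fact p.Prime] (hS : IsPGroup p S)
    {F : FusionSystem S} (hF : F.IsSaturated p) {Q : Subgroup Ω} (hQ : F.StronglyClosed Q)
    (hQ1 : Q ≠ ⊥) (hQZ : Q ≤ C.Z1) {P : Subgroup Ω} (hP : F.IsEssential p P)
    (hab : ∀ a ∈ P, ∀ b ∈ P, a * b = b * a) : P = C.M := by
  have hPS := hP.1.1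
  have hfP : Finite P := finite_of_le hPS
  have hCP : centralizerIn S P ≤ P := hP.1.2 P (isConj_refl F hPS)
  have hZP : C.Z1 ≤ P := fun z hz => hCP (mem_centralizerIn.2 ⟨hz.1, fun y hy =>
    (C.Z1_comm hz (hPS hy)).symm⟩)
  by_cases ht : ∀ x ∈ P, C.t x = 0
  · apply le_antisymm (fun x hx => ⟨hPS hx, ht x hx⟩)
    intro x hx
    exact hCP (mem_centralizerIn.2 ⟨hx.1, fun y hy => C.M_comm ⟨hPS hy, ht y hy⟩ hx⟩)
  · exfalso
    push Not at ht
    obtain ⟨x, hx, htx⟩ := ht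
    have hcentx : ∀ y ∈ S, x * y = y * x → y ∈ P := by
      intro y hy hxy
      exact hCP (mem_centralizerIn.2 ⟨hy, fun w hw =>
        C.comm_of_comm (hPS hx) htx (hPS hw) hy (hab x hx w hw) hxy⟩)
    -- `P ∩ M = Z₁`
    have hPM : ∀ y ∈ P, C.t y = 0 → y ∈ C.Z1 := by
      intro y hy hty
      by_contra hyZ
      exact htx (C.t_eq_zero_of_comm h2 ⟨hPS hy, hty⟩ hyZ (hPS hx) (hab y hy x hx))
    have hcent : ∀ y ∈ P, y ∉ C.Z1 → ∀ w ∈ S, w * y = y * w → w ∈ P := by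
      intro y hy hyZ w hw hwy
      have hty : C.t y ≠ 0 := fun h => hyZ (hPM y hy h)
      exact hCP (mem_centralizerIn.2 ⟨hw, fun v hv =>
        C.comm_of_comm (hPS hy) hty (hPS hv) hw (hab y hy v hv) hwy.symm⟩)
    have hZfix : ∀ g ∈ S, ∀ x ∈ C.Z1, g * x * g⁻¹ = x := by
      intro g hg x hx
      rw [← C.Z1_comm hx hg, mul_inv_cancel_right]
    have hUG : autInducedBy S P ≤ F.autGroup P := autInducedBy_le_autGroup F hPS
    obtain ⟨-, R, hR⟩ := isFullyAutomized_of_isFullyNormalized hS hF hP.2.1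
    apply not_normal_of_isEssential hS hF hP
    refine normal_of_invariant (p := p) (F.autGroup P) (autInducedBy S P) hUG ⟨R, hR⟩
      (C.Z1.subgroupOf P) (Q.subgroupOf P) ?_ ?_ ?_ ?_ ?_ ?_ ?_ ?_
    · exact (hS.to_le hPS).to_subgroup _
    · exact fun y hy => hQZ hy
    · intro hb
      apply hQ1
      rw [Subgroup.eq_bot_iff_forall]
      intro y hy
      have h5 : (⟨y, hZP (hQZ hy)⟩ : P) ∈ Q.subgroupOf P := hy
      rw [hb, Subgroup.mem_bot] at h5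
      exact congrArg Subtype.val h5
    · intro g hg y hy
      have h5 := hQ.2 Q le_rfl ((P.subtype.comp g.toMonoidHom).comp
        (Subgroup.inclusion (hQZ.trans hZP))) (restrict_mem ((mem_autGroup_iff F hPS g).1 hg) _)
        ⟨y, hy⟩
      exact h5
    · intro u hu y hy
      obtain ⟨g, hg, hgu⟩ := (mem_autInducedBy_iff S P u).1 hu
      apply Subtype.ext
      have hy' : (y : Ω) ∈ C.Z1 := hy
      rw [hgu, hZfix g hg _ hy']
    · intro u hu b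
      obtain ⟨g, hg, hgu⟩ := (mem_autInducedBy_iff S P u).1 hu
      show (b : Ω)⁻¹ * (u b : P) ∈ C.Z1
      apply hPM
      · exact P.mul_mem (P.inv_mem b.2) (u b).2
      · rw [hgu]
        exact (C.comm_mem_Z2 hg (hPS b.2)).2.1
    · intro b hb y hy
      have htb : C.t b ≠ 0 := fun h => hb (hPM b b.2 h)
      have hy' : (y : Ω) ∈ C.Z1 := hy
      obtain ⟨g, hg, h3, h4, h5, -⟩ := C.surj 0 0 (-(C.z y / (2 * C.t b))) 0
      have hgZ2 : g ∈ C.Z2 := ⟨hg, h3, h4⟩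
      have hgb : g * b * g⁻¹ = b * y := by
        apply C.inj (S.mul_mem (S.mul_mem hg (hPS b.2)) (S.inv_mem hg))
          (S.mul_mem (hPS b.2) (hPS y.2))
        · rw [C.t_conj hg (hPS b.2), C.t_mul (hPS b.2) (hPS y.2), hy'.2.1, add_zero]
        · rw [C.s_conj hg (hPS b.2), C.s_mul (hPS b.2) (hPS y.2), hy'.2.2.1, add_zero]
        · rw [C.u_conj hg (hPS b.2), C.u_mul (hPS b.2) (hPS y.2), hy'.2.2.1,
            hy'.2.2.2, h3, h4]
          ring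
        · rw [C.z_conj hg (hPS b.2), C.z_mul (hPS b.2) (hPS y.2), hy'.2.2.1,
            hy'.2.2.2, h3, h4, h5]
          field_simp
          ring
      have hgN : g ∈ Subgroup.normalizer (P : Set Ω) := by
        have h6 : ∀ g : Ω, g ∈ C.Z2 → ∀ w ∈ P, g * w * g⁻¹ ∈ P := by
          intro g hgZ w hw
          have h7 : g * w * g⁻¹ = w * (w⁻¹ * (g * w * g⁻¹)) := by group
          rw [h7]
          apply P.mul_mem hw (hZP ?_)
          rw [C.comm_mem_Z1_iff hgZ.1 (hPS hw), hgZ.2.1, hgZ.2.2]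
          ring
        rw [Subgroup.mem_normalizer_iff]
        intro w
        refine ⟨fun hw => h6 g hgZ2 w hw, fun hw => ?_⟩
        have h7 := h6 g⁻¹ (C.Z2.inv_mem hgZ2) _ hw
        have h8 : g⁻¹ * (g * w * g⁻¹) * g⁻¹⁻¹ = w := by group
        rwa [h8] at h7
      obtain ⟨α, hα⟩ := exists_conjAut hgN
      refine ⟨α, (mem_autInducedBy_iff S P α).2 ⟨g, hg, hα⟩, Subtype.ext ?_⟩
      rw [hα]
      exact hgb
    · intro u hu hu1 b hb
      by_contra hbZ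
      obtain ⟨g, hg, hgu⟩ := (mem_autInducedBy_iff S P u).1 hu
      have h5 : g * (b : Ω) = b * g := by
        have h6 := hgu b
        rw [hb] at h6
        calc g * (b : Ω) = (g * (b : Ω) * g⁻¹) * g := by group
          _ = b * g := by rw [← h6]
      have h7 := hcent b b.2 hbZ g hg h5
      apply hu1
      apply MulEquiv.ext
      intro w
      apply Subtype.ext
      rw [hgu, hab g h7 w w.2]
      simp

include h2 in
/-- **Classification of the essential subgroups**, `p` odd. -/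
theorem SpC.essential_cases [Finite S] {p : ℕ} [Fact p.Prime] (hS : IsPGroup p S)
    {F : FusionSystem S} (hF : F.IsSaturated p) {Q : Subgroup Ω} (hQ : F.StronglyClosed Q)
    (hQ1 : Q ≠ ⊥) (hQZ : Q ≤ C.Z1) {P : Subgroup Ω} (hP : F.IsEssential p P) :
    P = C.M ∨ ∃ m : K, P = C.L m := by
  by_cases hab : ∃ a ∈ P, ∃ b ∈ P, a * b ≠ b * a
  · obtain ⟨a, ha, b, hb, hab⟩ := hab
    exact Or.inr (C.eq_L_of_nonabelian h2 hS hF hP ha hb hab)
  · push Not at hab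
    exact Or.inl (C.eq_M_of_abelian h2 hS hF hQ hQ1 hQZ hP hab)

end odd

end Cfsg.Agent.H780
end

-- part: H780/SLSit
section
/-!
# Natural `SL₂(q)`-situations in fusion systems (helper780)
-/

set_option autoImplicit false

universe u v

namespace Cfsg.Agent.H780

open Cfsg Cfsg.FusionSystem Cfsg.Agent.H802

/-- The statement of the `SL₂` lemma. -/
def SL2Prop (K : Type v) [Field K] (p : ℕ) : Prop :=
  ∀ (G : Type u) [Group G] [Finite G] (ρ : G →* Equiv.Perm (K × K))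
    (_hadd : ∀ g v w, ρ g (v + w) = ρ g v + ρ g w) (P : Sylow p G)
    (_hP1 : ∀ g ∈ P, ∃ r : K, ρ g = theta r) (_hP2 : ∀ r : K, ∃ g ∈ P, ρ g = theta r)
    (_hnn : ∃ g b, (ρ g (0, b)).1 ≠ 0),
  ∃ f : K →+ K, (∀ c : K, c ≠ 0 → ∃ h : G, ∀ a b, ρ h (a, b) = (c⁻¹ * a, c * (b - f a) + f (c⁻¹ * a))) ∧
    (∀ r : K, r ≠ 0 → ∃ n : G, ∀ a b, ρ n (a, b) = ((b - f a) / r, f ((b - f a) / r) - r * a)) ∧
    (∀ g : G, (∀ b, (ρ g (0, b)).1 = 0) ∨
      ∃ r : K, ∀ b, (ρ g (0, b)).2 = f (ρ g (0, b)).1 + r * (ρ g (0, b)).1)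

/-- The action on the values of an additive surjection. -/
theorem exists_rho {P : Type*} [Group P] {V : Type*} [AddGroup V] (π : P → V)
    (hπ : ∀ x y, π (x * y) = π x + π y) (hs : Function.Surjective π) (G : Subgroup (MulAut P))
    (hG : ∀ α ∈ G, ∀ x, π x = 0 → π (α x) = 0) :
    ∃ ρ : G →* Equiv.Perm V, (∀ (α : G) x, ρ α (π x) = π (α.1 x)) ∧
      (∀ α v w, ρ α (v + w) = ρ α v + ρ α w) := by
  have h1 : π 1 = 0 := by
    have := hπ 1 1
    rw [mul_one] at this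
    simpa using this
  have hinv : ∀ x, π x⁻¹ = - π x := by
    intro x
    have := hπ x⁻¹ x
    rw [inv_mul_cancel, h1] at this
    exact eq_neg_of_add_eq_zero_left this.symm
  have key : ∀ α ∈ G, ∀ x y, π x = π y → π (α x) = π (α y) := by
    intro α hα x y hxy
    have h2 : π (x⁻¹ * y) = 0 := by rw [hπ, hinv, hxy, neg_add_cancel]
    have h3 := hG α hα _ h2
    rw [map_mul, map_inv, hπ, hinv] at h3
    exact neg_add_eq_zero.1 h3
  let σ := Function.surjInv hs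
  have hσ : ∀ v, π (σ v) = v := Function.surjInv_eq hs
  let act : G → V → V := fun α v => π (α.1 (σ v))
  have hact : ∀ (α : G) x, act α (π x) = π (α.1 x) := fun α x => key α α.2 _ _ (hσ _)
  have hmul : ∀ (α β : G) v, act (α * β) v = act α (act β v) := by
    intro α β v
    show π ((α.1 * β.1) (σ v)) = act α (π (β.1 (σ v)))
    rw [hact]
    rfl
  have hone : ∀ v, act 1 v = v := by
    intro v
    show π ((1 : MulAut P) (σ v)) = v
    rw [MulAut.one_apply]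
    exact hσ v
  refine ⟨{ toFun := fun α =>
              { toFun := act α
                invFun := act α⁻¹
                left_inv := fun v => by rw [← hmul, inv_mul_cancel, hone]
                right_inv := fun v => by rw [← hmul, mul_inv_cancel, hone] }
            map_one' := Equiv.ext hone
            map_mul' := fun α β => Equiv.ext (hmul α β) }, hact, ?_⟩
  intro α v w
  show act α (v + w) = act α v + act α w
  obtain ⟨x, rfl⟩ := hs v
  obtain ⟨y, rfl⟩ := hs w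
  rw [← hπ, hact, hact, hact, map_mul, hπ]

variable {Ω : Type u} [Group Ω] {S : Subgroup Ω} {K : Type v} [Field K]

/-- A natural `SL₂`-situation. -/
theorem sl2_situation [Finite S] {p : ℕ} [Fact p.Prime] (hsl : SL2Prop.{u} K p) (hS : IsPGroup p S)
    {F : FusionSystem S} {P : Subgroup Ω} (hPa : F.IsFullyAutomized p P)
    {G : Subgroup (MulAut P)} (hG : G ≤ F.autGroup P) (hTG : autInducedBy S P ≤ G)
    (π : P → K × K) (hπ : ∀ x y, π (x * y) = π x + π y) (hs : Function.Surjective π)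
    (hker : ∀ α ∈ G, ∀ x, π x = 0 → α x = x)
    (hT1 : ∀ τ ∈ autInducedBy S P, ∃ r, ∀ x, π (τ x) = theta r (π x))
    (hT2 : ∀ r, ∃ τ ∈ autInducedBy S P, ∀ x, π (τ x) = theta r (π x))
    (hnn : ¬ ∀ g ∈ G, ∀ u ∈ autInducedBy S P, g * u * g⁻¹ ∈ autInducedBy S P) :
    ∃ f : K →+ K,
      (∀ c : K, c ≠ 0 → ∃ h ∈ G, (∀ x, π (h x) =
        (c⁻¹ * (π x).1, c * ((π x).2 - f (π x).1) + f (c⁻¹ * (π x).1))) ∧
        ∀ u ∈ autInducedBy S P, h * u * h⁻¹ ∈ autInducedBy S P) ∧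
      (∀ r : K, r ≠ 0 → ∃ n ∈ G, ∀ x, π (n x) =
        (((π x).2 - f (π x).1) / r, f (((π x).2 - f (π x).1) / r) - r * (π x).1)) ∧
      (∀ g ∈ G, (∀ x, (π x).1 = 0 → (π (g x)).1 = 0) ∨
        ∃ r : K, ∀ x, (π x).1 = 0 → (π (g x)).2 = f (π (g x)).1 + r * (π (g x)).1) := by
  have hPS := hPa.1
  have hfP : Finite P := finite_of_le hPS
  obtain ⟨ρ, hρ, hρadd⟩ := exists_rho π hπ hs G (fun α hα x hx => by rw [hker α hα x hx, hx])
  have h1 : π 1 = 0 := by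
    have := hπ 1 1
    rw [mul_one] at this
    simpa using this
  have hinv : ∀ x, π x⁻¹ = - π x := by
    intro x
    have := hπ x⁻¹ x
    rw [inv_mul_cancel, h1] at this
    exact eq_neg_of_add_eq_zero_left this.symm
  -- the chain
  let A : Subgroup P :=
    { carrier := {x | (π x).1 = 0}
      one_mem' := by show (π 1).1 = 0; rw [h1]; rfl
      mul_mem' := fun {x y} hx hy => by
        show (π (x * y)).1 = 0
        rw [hπ, Prod.fst_add, show (π x).1 = 0 from hx, show (π y).1 = 0 from hy, add_zero]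
      inv_mem' := fun {x} hx => by
        show (π x⁻¹).1 = 0
        rw [hinv, Prod.fst_neg, show (π x).1 = 0 from hx, neg_zero] }
  let B : Subgroup P :=
    { carrier := {x | π x = 0}
      one_mem' := h1
      mul_mem' := fun {x y} hx hy => by
        show π (x * y) = 0
        rw [hπ, show π x = 0 from hx, show π y = 0 from hy, add_zero]
      inv_mem' := fun {x} hx => by
        show π x⁻¹ = 0
        rw [hinv, show π x = 0 from hx, neg_zero] }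
  let c : ℕ → Subgroup P := fun i => match i with
    | 0 => ⊤
    | 1 => A
    | 2 => B
    | _ => ⊥
  have hanti : ∀ i, c (i + 1) ≤ c i := by
    rintro (_ | _ | _ | i)
    · exact le_top
    · intro x hx
      show (π x).1 = 0
      rw [show π x = 0 from hx]
      rfl
    · exact bot_le
    · exact le_rfl
  set N := chainStab G 3 c hanti rfl with hN
  have hNp : IsPGroup p N := chainStab_isPGroup (hS.to_le hPS) G 3 c hanti rfl rfl
  have hNmem : ∀ α, α ∈ N ↔ α ∈ G ∧ (∀ x, (π (α x)).1 = (π x).1) ∧ ∀ x, (π x).1 = 0 → π (α x) = π x := by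
    intro α
    rw [hN, mem_chainStab]
    constructor
    · rintro ⟨hα, h⟩
      refine ⟨hα, fun x => ?_, fun x hx => ?_⟩
      · have h3 : (π (x⁻¹ * α x)).1 = 0 := h 0 (by norm_num) x (Subgroup.mem_top x)
        rw [hπ, hinv, Prod.fst_add, Prod.fst_neg] at h3
        exact (neg_add_eq_zero.1 h3).symm
      · have h3 : π (x⁻¹ * α x) = 0 := h 1 (by norm_num) x hx
        rw [hπ, hinv] at h3
        exact (neg_add_eq_zero.1 h3).symm
    · rintro ⟨hα, h, h'⟩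
      refine ⟨hα, ?_⟩
      rintro (_ | _ | _ | i) hi x hx
      · show (π (x⁻¹ * α x)).1 = 0
        rw [hπ, hinv, Prod.fst_add, Prod.fst_neg, h x, neg_add_cancel]
      · show π (x⁻¹ * α x) = 0
        rw [hπ, hinv, h' x hx, neg_add_cancel]
      · rw [hker α hα x hx, inv_mul_cancel]
        exact Subgroup.one_mem _
      · omega
  have hTN : autInducedBy S P ≤ N := by
    intro τ hτ
    rw [hNmem]
    obtain ⟨r, hr⟩ := hT1 τ hτ
    refine ⟨hTG hτ, fun x => by rw [hr]; rfl, fun x hx => ?_⟩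
    rw [hr]
    have h9 : π x = (0, (π x).2) := by rw [← hx]
    rw [h9, theta_apply]
    simp
  have hNT : N ≤ autInducedBy S P := le_autInducedBy_of_le hPa
    (fun α hα => hG ((hNmem α).1 hα).1) hNp hTN
  obtain ⟨R, hR⟩ := exists_sylow_of_le hS hPa hG hTG
  have hmemR : ∀ g : G, g ∈ R ↔ (g : MulAut P) ∈ autInducedBy S P := by
    intro g
    have : g ∈ (R : Subgroup G) ↔ g ∈ (autInducedBy S P).subgroupOf G := by rw [hR]
    exact this
  have hρeq : ∀ (g : G) (r : K), ρ g = theta r ↔ ∀ x, π (g.1 x) = theta r (π x) := by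
    intro g r
    constructor
    · intro h x
      rw [← hρ, h]
    · intro h
      apply Equiv.ext
      intro v
      obtain ⟨x, rfl⟩ := hs v
      rw [hρ]
      exact h x
  have hnn' : ∃ g b, (ρ g (0, b)).1 ≠ 0 := by
    by_contra hcon
    push Not at hcon
    apply hnn
    intro g hg u hu
    apply hNT
    have hu' := (hNmem u).1 (hTN hu)
    -- `g` preserves `A`
    have hgA : ∀ g ∈ G, ∀ x, (π x).1 = 0 → (π (g x)).1 = 0 := by
      intro g hg x hx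
      have h3 := hcon ⟨g, hg⟩ (π x).2
      have h4 : (0, (π x).2) = π x := by rw [← hx]
      rw [h4, hρ] at h3
      exact h3
    rw [hNmem]
    refine ⟨G.mul_mem (G.mul_mem hg (hTG hu)) (G.inv_mem hg), fun x => ?_, fun x hx => ?_⟩
    · have h3 : (π ((g⁻¹ x)⁻¹ * u (g⁻¹ x))).1 = 0 := by
        rw [hπ, hinv, Prod.fst_add, Prod.fst_neg, hu'.2.1, neg_add_cancel]
      have h4 := hgA g hg _ h3
      rw [map_mul, map_inv] at h4
      have h5 : g (g⁻¹ x) = x := g.apply_symm_apply x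
      rw [h5, hπ, hinv, Prod.fst_add, Prod.fst_neg] at h4
      exact (neg_add_eq_zero.1 h4).symm
    · have h6 := hgA g⁻¹ (G.inv_mem hg) x hx
      have h3 : π ((g⁻¹ x)⁻¹ * u (g⁻¹ x)) = 0 := by
        rw [hπ, hinv, hu'.2.2 _ h6, neg_add_cancel]
      have h4 : π (g ((g⁻¹ x)⁻¹ * u (g⁻¹ x))) = 0 := by rw [hker g hg _ h3, h3]
      rw [map_mul, map_inv] at h4
      have h5 : g (g⁻¹ x) = x := g.apply_symm_apply x
      rw [h5, hπ, hinv] at h4
      exact (neg_add_eq_zero.1 h4).symm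
  obtain ⟨f, hf1, hf2, hf3⟩ := hsl G ρ hρadd R
    (fun g hg => by
      obtain ⟨r, hr⟩ := hT1 g ((hmemR g).1 hg)
      exact ⟨r, (hρeq g r).2 hr⟩)
    (fun r => by
      obtain ⟨τ, hτ, hr⟩ := hT2 r
      exact ⟨⟨τ, hTG hτ⟩, (hmemR _).2 hτ, (hρeq _ r).2 hr⟩) hnn'
  refine ⟨f, fun c hc => ?_, fun r hr => ?_, fun g hg => ?_⟩
  · obtain ⟨h, hh⟩ := hf1 c hc
    have hh' : ∀ x, π (h.1 x) = (c⁻¹ * (π x).1, c * ((π x).2 - f (π x).1) + f (c⁻¹ * (π x).1)) := by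
      intro x
      rw [← hρ, ← hh]
    refine ⟨h, h.2, hh', fun u hu => ?_⟩
    apply hNT
    rw [hNmem]
    obtain ⟨r, hr⟩ := hT1 u hu
    have hhinv : ∀ x, π (h.1⁻¹ x) = (c * (π x).1, c⁻¹ * ((π x).2 - f (π x).1) + f (c * (π x).1)) := by
      intro x
      have h3 := hh' (h.1⁻¹ x)
      have h5 : h.1 (h.1⁻¹ x) = x := h.1.apply_symm_apply x
      rw [h5] at h3
      rw [h3]
      have h6 : c * (c⁻¹ * (π (h.1⁻¹ x)).1) = (π (h.1⁻¹ x)).1 := by field_simp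
      ext
      · exact h6.symm
      · show (π (h.1⁻¹ x)).2 = c⁻¹ * ((c * ((π (h.1⁻¹ x)).2 - f (π (h.1⁻¹ x)).1) +
          f (c⁻¹ * (π (h.1⁻¹ x)).1)) - f (c⁻¹ * (π (h.1⁻¹ x)).1)) + f (c * (c⁻¹ * (π (h.1⁻¹ x)).1))
        rw [h6]
        field_simp
        ring
    have hcomp : ∀ x, π ((h.1 * u * h.1⁻¹) x) = ((π x).1, (π x).2 + c ^ 2 * r * (π x).1) := by
      intro x
      rw [MulAut.mul_apply, MulAut.mul_apply, hh', hr, hhinv]
      have h6 : c⁻¹ * (c * (π x).1) = (π x).1 := by field_simp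
      simp only [theta_apply]
      ext
      · exact h6
      · show c * (c⁻¹ * ((π x).2 - f (π x).1) + f (c * (π x).1) + r * (c * (π x).1) - f (c * (π x).1)) +
          f (c⁻¹ * (c * (π x).1)) = (π x).2 + c ^ 2 * r * (π x).1
        rw [h6]
        field_simp
        ring
    refine ⟨G.mul_mem (G.mul_mem h.2 (hTG hu)) (G.inv_mem h.2), fun x => by rw [hcomp], fun x hx => ?_⟩
    rw [hcomp, hx]
    ext
    · exact hx.symm
    · simp
  · obtain ⟨n, hn⟩ := hf2 r hr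
    refine ⟨n, n.2, fun x => ?_⟩
    rw [← hρ, ← hn]
  · have hx0 : ∀ x, (π x).1 = 0 → π (g x) = ρ ⟨g, hg⟩ (0, (π x).2) := by
      intro x hx
      have h4 : ((0 : K), (π x).2) = π x := by rw [← hx]
      rw [h4, hρ]
    rcases hf3 ⟨g, hg⟩ with h | ⟨r, hr⟩
    · left
      intro x hx
      rw [hx0 x hx]
      exact h _
    · right
      refine ⟨r, fun x hx => ?_⟩
      rw [hx0 x hx]
      exact hr _

end Cfsg.Agent.H780
end

-- part: H780/SpTorus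
section
/-!
# The torus coming from an essential `L_m` (helper780)
-/

set_option autoImplicit false

universe u v

namespace Cfsg.Agent.H780

open Cfsg Cfsg.FusionSystem Cfsg.Agent.H802

variable {Ω : Type u} [Group Ω] {S : Subgroup Ω}

/-- If `T = Aut_S(P)` is normal in `G` and `α` conjugates `T` into `G`, then `α` normalizes `T`. -/
theorem conj_mem_of_normal [Finite S] {p : ℕ} [Fact p.Prime] (hS : IsPGroup p S)
    {F : FusionSystem S} {P : Subgroup Ω} (hPa : F.IsFullyAutomized p P)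
    {G : Subgroup (MulAut P)} (hG : G ≤ F.autGroup P) (hTG : autInducedBy S P ≤ G)
    (hTn : ∀ g ∈ G, ∀ u ∈ autInducedBy S P, g * u * g⁻¹ ∈ autInducedBy S P)
    {α : MulAut P} (hα : ∀ u ∈ autInducedBy S P, α * u * α⁻¹ ∈ G) :
    ∀ u ∈ autInducedBy S P, α * u * α⁻¹ ∈ autInducedBy S P := by
  have hfP : Finite P := finite_of_le hPa.1
  obtain ⟨R, hR⟩ := exists_sylow_of_le hS hPa hG hTG
  have hRn : (R : Subgroup G).Normal := by
    refine ⟨fun u hu g => ?_⟩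
    rw [hR] at hu ⊢
    exact hTn g g.2 u hu
  set H : Subgroup (MulAut P) := (autInducedBy S P).map (MulAut.conj α).toMonoidHom with hH
  have hHG : H ≤ G := by
    rintro _ ⟨u, hu, rfl⟩
    exact hα u hu
  have hHp : IsPGroup p H := (isPGroup_autInducedBy hS P).map _
  have h1 : H.subgroupOf G ≤ pCore p G := H794.le_pCore_of_normal_sylow R hRn _
    (hHp.of_equiv (Subgroup.subgroupOfEquivOfLe hHG).symm)
  have h2 := h1.trans (H794.pCore_le_sylow R)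
  intro u hu
  have h3 : (⟨α * u * α⁻¹, hα u hu⟩ : G) ∈ H.subgroupOf G := ⟨u, hu, rfl⟩
  have h4 := h2 h3
  rw [hR] at h4
  exact h4

/-- Extension of an automorphism normalizing `Aut_S(P)` to `S`, for `P` normal in `S`. -/
theorem exists_extension_top [Finite S] {F : FusionSystem S} {P : Subgroup Ω}
    (hPr : F.IsReceptive P) (hPn : ∀ g ∈ S, ∀ x ∈ P, g * x * g⁻¹ ∈ P)
    {α : MulAut P} (hα : α ∈ F.autGroup P)
    (hαn : ∀ u ∈ autInducedBy S P, α * u * α⁻¹ ∈ autInducedBy S P) :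
    ∃ β ∈ F.autGroup S, ∀ (x : Ω) (hx : x ∈ P) (hx' : x ∈ S),
      ((β ⟨x, hx'⟩ : S) : Ω) = (α ⟨x, hx⟩ : P) := by
  have hPS := hPr.1
  have hnorm : ∀ g ∈ S, g ∈ Subgroup.normalizer (P : Set Ω) := by
    intro g hg
    rw [Subgroup.mem_normalizer_iff]
    intro x
    refine ⟨fun hx => hPn g hg x hx, fun hx => ?_⟩
    have h1 := hPn g⁻¹ (S.inv_mem hg) _ hx
    have h2 : g⁻¹ * (g * x * g⁻¹) * g⁻¹⁻¹ = x := by group
    rwa [h2] at h1
  have hαm := (mem_autGroup_iff F hPS α).1 hα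
  have hrange : (P.subtype.comp α.toMonoidHom).range = P := by
    ext x
    constructor
    · rintro ⟨y, rfl⟩
      exact (α y).2
    · intro hx
      refine ⟨α.symm ⟨x, hx⟩, ?_⟩
      show ((α (α.symm ⟨x, hx⟩) : P) : Ω) = x
      rw [MulEquiv.apply_symm_apply]
  obtain ⟨ψ, hψ, hψe⟩ := hPr.2 P _ hαm hrange
  have hext : extender S P (P.subtype.comp α.toMonoidHom) = S := by
    apply le_antisymm (extender_le _ _ _)
    intro g hg
    rw [mem_extender_iff]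
    refine ⟨hg, hnorm g hg, ?_⟩
    obtain ⟨τ, hτ⟩ := exists_conjAut (hnorm g hg)
    have hτ' := hαn τ ((mem_autInducedBy_iff S P τ).2 ⟨g, hg, hτ⟩)
    obtain ⟨h, hh, hhe⟩ := (mem_autInducedBy_iff S P _).1 hτ'
    refine ⟨h, hh, fun x hx => ?_⟩
    have h1 := hhe (α x)
    rw [MulAut.mul_apply, MulAut.mul_apply] at h1
    have h2 : α⁻¹ (α x) = x := α.symm_apply_apply x
    rw [h2] at h1
    have h3 : τ x = ⟨g * x * g⁻¹, hx⟩ := Subtype.ext (hτ x)
    rw [h3] at h1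
    exact h1
  have key : ∀ (E : Subgroup Ω), extender S P (P.subtype.comp α.toMonoidHom) = E → E = S →
      ∃ ψ' ∈ F.Hom S, ∀ (x : Ω) (hP : x ∈ P) (hN : x ∈ S), ψ' ⟨x, hN⟩ = (α ⟨x, hP⟩ : P) := by
    intro E hE hES
    subst hE
    have h4 : ∀ (T : Subgroup Ω) (hT : extender S P (P.subtype.comp α.toMonoidHom) = T),
        ∃ ψ' ∈ F.Hom T, ∀ (x : Ω) (hP : x ∈ P) (hN : x ∈ T), ψ' ⟨x, hN⟩ = (α ⟨x, hP⟩ : P) := by
      rintro T rfl
      exact ⟨ψ, hψ, hψe⟩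
    exact h4 S hES
  obtain ⟨ψ', hψ', hψe'⟩ := key _ rfl hext
  have hr : ψ'.range = S := range_eq_of_mapsTo hψ' (fun x => (F.le_of_mem hψ').2 x)
  obtain ⟨β, hβ, hβe⟩ := exists_aut hψ' hr
  exact ⟨β, hβ, fun x hx hx' => by rw [hβe, hψe' x hx hx']⟩

variable {K : Type v} [Field K] (C : SpC S K)

section odd

variable (h2 : (2 : K) ≠ 0)

include h2

/-- `Z₁` is invariant under `Aut(S)`. -/
theorem SpC.Z1_inv (α : MulAut S) (x : S) (hx : (x : Ω) ∈ C.Z1) : ((α x : S) : Ω) ∈ C.Z1 :=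
  center_invariant (fun _ hx => ⟨fun h _ hy => C.Z1_comm h hy, fun h => C.mem_Z1_of_comm h2 hx h⟩) α x hx

/-- `Z₂` is invariant under `Aut(S)`. -/
theorem SpC.Z2_inv (α : MulAut S) (x : S) (hx : (x : Ω) ∈ C.Z2) : ((α x : S) : Ω) ∈ C.Z2 := by
  refine second_invariant (B := C.Z1) (fun x hx => ?_) α (C.Z1_inv h2 α) x hx
  constructor
  · intro h y hy
    rw [C.comm_mem_Z1_iff hx hy, h.2.1, h.2.2]
    ring
  · intro h
    obtain ⟨y, hy, h3, h4, -, -⟩ := C.surj 1 0 0 0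
    obtain ⟨w, hw, h5, h6, -, -⟩ := C.surj 0 1 0 0
    have h7 := (C.comm_mem_Z1_iff hx hy).1 (h y hy)
    have h8 := (C.comm_mem_Z1_iff hx hw).1 (h w hw)
    rw [h3, h4] at h7
    rw [h5, h6] at h8
    exact ⟨hx, by linear_combination h8, by linear_combination -h7⟩

/-- `M` is invariant under `Aut(S)`. -/
theorem SpC.M_inv (α : MulAut S) (x : S) (hx : (x : Ω) ∈ C.M) : ((α x : S) : Ω) ∈ C.M := by
  -- an element of `Z₂ ∖ Z₁`
  obtain ⟨y, hy, h3, h4, h5, -⟩ := C.surj 0 0 1 0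
  have hyZ2 : y ∈ C.Z2 := ⟨hy, h3, h4⟩
  have hyZ1 : y ∉ C.Z1 := fun h => one_ne_zero (h5.symm.trans h.2.2.2)
  have h6 := C.Z2_inv h2 α ⟨y, hy⟩ hyZ2
  have h7 : ((α ⟨y, hy⟩ : S) : Ω) ∉ C.Z1 := by
    intro h
    have h8 := C.Z1_inv h2 α⁻¹ _ h
    have h9 : α⁻¹ (α ⟨y, hy⟩) = ⟨y, hy⟩ := α.symm_apply_apply _
    rw [h9] at h8
    exact hyZ1 h8
  refine ⟨(α x).2, C.t_eq_zero_of_comm h2 (C.Z2_le_M h6) h7 (α x).2 ?_⟩
  have h8 : (⟨y, hy⟩ : S) * x = x * ⟨y, hy⟩ := Subtype.ext (C.M_comm (C.Z2_le_M hyZ2) hx)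
  have h9 := congrArg α h8
  rw [map_mul, map_mul] at h9
  exact congrArg Subtype.val h9

/-- **The torus of `L_m`.** -/
theorem SpC.exists_torus [Finite S] {p : ℕ} [Fact p.Prime] (hsl : SL2Prop.{u} K p)
    (hS : IsPGroup p S) {F : FusionSystem S} (hF : F.IsSaturated p) {m : K}
    (hP : F.IsEssential p (C.L m)) {c : K} (hc : c ≠ 0) :
    ∃ β ∈ F.autGroup S, (∀ x : S, (x : Ω) ∈ C.Z1 → β x = x) ∧
      (∀ x : S, (x : Ω) ∈ C.Z2 → C.u (β x : S) = c * C.u x) ∧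
      (∀ x : S, C.t (β x : S) = c⁻¹ * C.t x) ∧
      (∀ x : S, C.s (β x : S) - m * C.t (β x : S) = c ^ 2 * (C.s x - m * C.t x)) := by
  set P := C.L m with hPdef
  have hPS : P ≤ S := C.L_le m
  have hfP : Finite P := finite_of_le hPS
  have hPa := isFullyAutomized_of_isFullyNormalized hS hF hP.2.1
  have hPr := isReceptive_of_isFullyNormalized hS hF hP.2.1
  have hZP : C.Z1 ≤ P := C.Z1_le_Z2.trans (C.Z2_le_L m)
  have hnormP : ∀ g ∈ S, ∀ x ∈ P, g * x * g⁻¹ ∈ P := fun g hg x hx =>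
    C.conj_mem_of_Z2_le hPS (C.Z2_le_L m) hg hx
  have hnormal : ∀ g ∈ S, g ∈ Subgroup.normalizer (P : Set Ω) := by
    intro g hg
    rw [Subgroup.mem_normalizer_iff]
    intro x
    refine ⟨fun hx => hnormP g hg x hx, fun hx => ?_⟩
    have h1 := hnormP g⁻¹ (S.inv_mem hg) _ hx
    have h2 : g⁻¹ * (g * x * g⁻¹) * g⁻¹⁻¹ = x := by group
    rwa [h2] at h1
  -- `Z₁` is the centre of `P`
  have hcenP : ∀ x ∈ P, x ∈ C.Z1 ↔ ∀ y ∈ P, x * y = y * x := by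
    intro x hx
    refine ⟨fun h y hy => C.Z1_comm h (hPS hy), fun h => ?_⟩
    obtain ⟨y, hy, h3, h4, h5, -⟩ := C.surj 1 m 0 0
    obtain ⟨w, hw, h6, h7, h8, -⟩ := C.surj 0 0 1 0
    have hyP : y ∈ P := ⟨hy, by rw [h3, h4, mul_one]⟩
    have hwP : w ∈ P := ⟨hw, by rw [h6, h7, mul_zero]⟩
    refine C.centralizer_le_Z1 h2 hPS hyP hwP (fun h9 => ?_) (hPS hx) h
    have h10 := (C.comm_iff hy hw).1 h9
    rw [h3, h4, h5, h6, h7, h8] at h10
    apply h2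
    linear_combination h10.2
  have hZinv : ∀ (α : MulAut P) (x : P), (x : Ω) ∈ C.Z1 → ((α x : P) : Ω) ∈ C.Z1 :=
    fun α x hx => center_invariant hcenP α x hx
  -- the projection
  let w : Ω → K := fun x => C.u x - m / 2 * C.t x ^ 2
  have hw : ∀ x ∈ P, ∀ y ∈ P, w (x * y) = w x + w y := by
    intro x hx y hy
    show C.u (x * y) - m / 2 * C.t (x * y) ^ 2 = (C.u x - m / 2 * C.t x ^ 2) + (C.u y - m / 2 * C.t y ^ 2)
    rw [C.u_mul (hPS hx) (hPS hy), C.t_mul (hPS hx) (hPS hy), hy.2]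
    field_simp
    ring
  let π : P → K × K := fun x => (C.t x, w x)
  have hπ : ∀ x y, π (x * y) = π x + π y := by
    intro x y
    ext
    · exact C.t_mul (hPS x.2) (hPS y.2)
    · exact hw x x.2 y y.2
  have hπs : Function.Surjective π := by
    rintro ⟨a, b⟩
    obtain ⟨x, hx, h3, h4, h5, -⟩ := C.surj a (m * a) (b + m / 2 * a ^ 2) 0
    refine ⟨⟨x, hx, by rw [h3, h4]⟩, ?_⟩
    ext
    · exact h3
    · show C.u x - m / 2 * C.t x ^ 2 = b
      rw [h5, h3]; ring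
  have hπ0 : ∀ x : P, π x = 0 ↔ (x : Ω) ∈ C.Z1 := by
    intro x
    constructor
    · intro h
      have h3 : C.t x = 0 := congrArg Prod.fst h
      have h4 : C.u x - m / 2 * C.t x ^ 2 = 0 := congrArg Prod.snd h
      refine ⟨hPS x.2, h3, by rw [x.2.2, h3, mul_zero], ?_⟩
      rw [h3] at h4
      linear_combination h4
    · intro h
      ext
      · exact h.2.1
      · show C.u x - m / 2 * C.t x ^ 2 = 0
        rw [h.2.1, h.2.2.2]; ring
  have hconjπ : ∀ g ∈ S, ∀ (x y : P), (y : Ω) = g * x * g⁻¹ → π y = theta (m * C.t g - C.s g) (π x) := by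
    intro g hg x y hy
    ext
    · show C.t y = C.t x
      rw [hy, C.t_conj hg (hPS x.2)]
    · show C.u y - m / 2 * C.t y ^ 2 = (C.u x - m / 2 * C.t x ^ 2) + (m * C.t g - C.s g) * C.t x
      rw [hy, C.u_conj hg (hPS x.2), C.t_conj hg (hPS x.2), x.2.2]
      ring
  -- the group `G`
  let G : Subgroup (MulAut P) :=
    { carrier := {α | α ∈ F.autGroup P ∧ ∀ x : P, (x : Ω) ∈ C.Z1 → α x = x}
      one_mem' := ⟨Subgroup.one_mem _, fun x _ => rfl⟩
      mul_mem' := by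
        rintro a b ⟨ha, ha1⟩ ⟨hb, hb1⟩
        exact ⟨Subgroup.mul_mem _ ha hb, fun x hx => by rw [MulAut.mul_apply, hb1 x hx, ha1 x hx]⟩
      inv_mem' := by
        rintro a ⟨ha, ha1⟩
        refine ⟨Subgroup.inv_mem _ ha, fun x hx => ?_⟩
        have h3 := ha1 x hx
        calc a⁻¹ x = a⁻¹ (a x) := by rw [h3]
          _ = x := a.symm_apply_apply x }
  have hG : G ≤ F.autGroup P := fun α hα => hα.1
  have hTG : autInducedBy S P ≤ G := by
    intro τ hτ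
    refine ⟨autInducedBy_le_autGroup F hPS hτ, fun x hx => ?_⟩
    obtain ⟨g, hg, hgτ⟩ := (mem_autInducedBy_iff S P τ).1 hτ
    apply Subtype.ext
    rw [hgτ, ← C.Z1_comm hx hg, mul_inv_cancel_right]
  have hnn : ¬ ∀ g ∈ G, ∀ u ∈ autInducedBy S P, g * u * g⁻¹ ∈ autInducedBy S P := by
    intro h
    apply not_normal_of_isEssential hS hF hP
    intro α hα
    apply conj_mem_of_normal hS hPa hG hTG h
    intro u hu
    refine ⟨Subgroup.mul_mem _ (Subgroup.mul_mem _ hα (hG (hTG hu))) (Subgroup.inv_mem _ hα),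
      fun x hx => ?_⟩
    rw [MulAut.mul_apply, MulAut.mul_apply, (hTG hu).2 _ (hZinv α⁻¹ x hx)]
    exact α.apply_symm_apply x
  obtain ⟨f, hf, -⟩ := sl2_situation hsl hS hPa hG hTG π hπ hπs
    (fun α hα x hx => hα.2 x ((hπ0 x).1 hx))
    (fun τ hτ => by
      obtain ⟨g, hg, hgτ⟩ := (mem_autInducedBy_iff S P τ).1 hτ
      exact ⟨_, fun x => hconjπ g hg x (τ x) (hgτ x)⟩)
    (fun r => by
      obtain ⟨g, hg, h3, h4, -, -⟩ := C.surj 0 (-r) 0 0
      obtain ⟨τ, hτ⟩ := exists_conjAut (hnormal g hg)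
      refine ⟨τ, (mem_autInducedBy_iff S P τ).2 ⟨g, hg, hτ⟩, fun x => ?_⟩
      rw [hconjπ g hg x (τ x) (hτ x), h3, h4, show m * 0 - -r = r by ring]) hnn
  obtain ⟨h, hh, hh1, hh2⟩ := hf c hc
  obtain ⟨β, hβ, hβe⟩ := exists_extension_top hPr hnormP (hG hh) hh2
  have hβP : ∀ (x : P), β ⟨x, hPS x.2⟩ = ⟨h x, hPS (h x).2⟩ := fun x =>
    Subtype.ext (hβe x x.2 (hPS x.2))
  -- `t`
  have htP : ∀ x : P, C.t (h x : P) = c⁻¹ * C.t x := fun x => congrArg Prod.fst (hh1 x)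
  have ht : ∀ x : S, C.t (β x : S) = c⁻¹ * C.t x := by
    intro x
    obtain ⟨l, hl, h3, h4, -, -⟩ := C.surj (C.t x) (m * C.t x) 0 0
    have hlP : l ∈ P := ⟨hl, by rw [h3, h4]⟩
    have hxl : x * (⟨l, hl⟩ : S)⁻¹ * ⟨l, hl⟩ = x := by group
    have hM : ((x * (⟨l, hl⟩ : S)⁻¹ : S) : Ω) ∈ C.M := by
      refine ⟨(x * (⟨l, hl⟩ : S)⁻¹).2, ?_⟩
      show C.t (x * l⁻¹) = 0
      rw [C.t_mul x.2 (S.inv_mem hl), C.t_inv hl, h3, add_neg_cancel]
    have h5 := C.M_inv h2 β _ hM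
    have h6 := htP ⟨l, hlP⟩
    have h7 : (β ⟨l, hl⟩ : S) = ⟨h ⟨l, hlP⟩, hPS (h ⟨l, hlP⟩).2⟩ := hβP ⟨l, hlP⟩
    rw [← hxl, map_mul]
    show C.t ((β (x * (⟨l, hl⟩ : S)⁻¹) : S) * (β ⟨l, hl⟩ : S) : Ω) = c⁻¹ * C.t _
    rw [C.t_mul (β _).2 (β _).2, h5.2, h7, hxl]
    show 0 + C.t (h ⟨l, hlP⟩ : P) = _
    rw [h6, h3, zero_add]
  have hconj : ∀ g : S, m * C.t (β g : S) - C.s (β g : S) = c ^ 2 * (m * C.t g - C.s g) := by
    intro g
    obtain ⟨x, hx, h3, h4, -, -⟩ := C.surj 1 m 0 0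
    have hxP : x ∈ P := ⟨hx, by rw [h3, h4, mul_one]⟩
    have hy : (g : Ω) * x * (g : Ω)⁻¹ ∈ P := hnormP g g.2 x hxP
    have h5 := hconjπ g g.2 ⟨x, hxP⟩ ⟨_, hy⟩ rfl
    have h6 : ((h ⟨_, hy⟩ : P) : Ω) = (β g : S) * (h ⟨x, hxP⟩ : P) * ((β g : S) : Ω)⁻¹ := by
      have h7 : (β (g * ⟨x, hx⟩ * g⁻¹) : S) = β g * β ⟨x, hx⟩ * (β g)⁻¹ := by
        rw [map_mul, map_mul, map_inv]
      have h8 := congrArg Subtype.val h7
      have h9 : β ⟨x, hx⟩ = _ := hβP ⟨x, hxP⟩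
      have h10 : β (g * ⟨x, hx⟩ * g⁻¹) = _ := hβP ⟨_, hy⟩
      rw [h10, h9] at h8
      exact h8
    have h7 := hconjπ (β g : S) (β g).2 (h ⟨x, hxP⟩) (h ⟨_, hy⟩) h6
    rw [hh1, h5, hh1] at h7
    have h8 := congrArg Prod.snd h7
    have hx1 : (π ⟨x, hxP⟩).1 = 1 := h3
    simp only [theta, Equiv.coe_fn_mk, hx1, mul_one] at h8
    have h9 : c * (m * C.t g - C.s g) = (m * C.t (β g : S) - C.s (β g : S)) * c⁻¹ := by
      linear_combination h8
    have h10 : (m * C.t (β g : S) - C.s (β g : S)) = (c * (m * C.t g - C.s g)) * c := by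
      rw [h9]; field_simp
    rw [h10]; ring
  refine ⟨β, hβ, fun x hx => ?_, fun x hx => ?_, ht, fun x => ?_⟩
  · have h3 : x = ⟨x, hPS (hZP hx)⟩ := rfl
    have h4 := hβP ⟨x, hZP hx⟩
    have h5 := hh.2 ⟨x, hZP hx⟩ hx
    rw [h5] at h4
    exact h4
  · have hxP : (x : Ω) ∈ P := C.Z2_le_L m hx
    have h4 : β x = _ := hβP ⟨x, hxP⟩
    rw [h4]
    show C.u (h ⟨x, hxP⟩ : P) = _
    have h5 := hh1 ⟨x, hxP⟩
    have h6 : (π ⟨x, hxP⟩).1 = 0 := hx.2.1
    have h7 : (π ⟨x, hxP⟩).2 = C.u x := by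
      show C.u x - m / 2 * C.t x ^ 2 = C.u x
      rw [hx.2.1]; ring
    rw [h6, h7] at h5
    have h8 := congrArg Prod.snd h5
    have h9 : C.t (h ⟨x, hxP⟩ : P) = 0 := by rw [htP, show C.t (x : Ω) = 0 from hx.2.1, mul_zero]
    have h10 : C.u (h ⟨x, hxP⟩ : P) - m / 2 * C.t (h ⟨x, hxP⟩ : P) ^ 2 = _ := h8
    rw [h9] at h10
    simp only [mul_zero, map_zero, sub_zero, add_zero, ne_eq, OfNat.ofNat_ne_zero, not_false_eq_true,
      zero_pow] at h10
    exact h10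
  · linear_combination -(hconj x)

end odd

end Cfsg.Agent.H780
end

-- part: H780/SpOdd
section
/-!
# Saturated systems over a Sylow subgroup of `Sp₄(K)`, `p` odd (helper780)
-/

set_option autoImplicit false

universe u v

namespace Cfsg.Agent.H780

open Cfsg Cfsg.FusionSystem Cfsg.Agent.H802

/-- The statement of the main lemma for `p` odd. -/
def SymProp (K : Type v) [Field K] (p : ℕ) : Prop :=
  ∀ (G : Type u) [Group G] [Finite G] (ρ : G →* Equiv.Perm (K × K × K)) (_hρ : Function.Injective ρ)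
    (_hadd : ∀ g v w, ρ g (v + w) = ρ g v + ρ g w) (P : Sylow p G)
    (_hP1 : ∀ g ∈ P, ∃ t : K, ρ g = phi t) (_hP2 : ∀ t : K, ∃ g ∈ P, ρ g = phi t)
    (_hN : ∀ g, (∀ z, ∃ z', ρ g (0,0,z) = (0,0,z')) → ∀ x ∈ P, g * x * g⁻¹ ∈ P)
    (_hH : ∀ c : K, c ≠ 0 → ∃ h : G, (∀ z, ρ h (0,0,z) = (0,0,z)) ∧
      (∀ u, ∃ z', ρ h (0,u,0) = (0,c*u,z')) ∧ (∀ s, ∃ u' z', ρ h (s,0,0) = (c^2*s,u',z')))
    (z₀ : K) (_hz₀ : z₀ ≠ 0) (_hfix : ∀ g, ρ g (0,0,z₀) = (0,0,z₀)),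
  ∀ g z, ∃ z', ρ g (0,0,z) = (0,0,z')

variable {Ω : Type u} [Group Ω] {S : Subgroup Ω}

theorem isFullyNormalized_top [Finite S] (F : FusionSystem S) : F.IsFullyNormalized S := by
  refine ⟨le_rfl, fun Q hQ => ?_⟩
  have h1 : normalizerIn S Q ≤ S := inf_le_left
  have h2 : normalizerIn S S = S := by
    apply le_antisymm inf_le_left
    exact le_inf le_rfl Subgroup.le_normalizer
  rw [h2]
  exact Subgroup.card_le_of_le h1

/-- The normality criterion in convenient form. -/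
theorem isNormal_of_essential [Finite S] {p : ℕ} [Fact p.Prime] (hS : IsPGroup p S)
    {F : FusionSystem S} (hF : F.IsSaturated p) {Q : Subgroup Ω}
    (h : ∀ P : Subgroup Ω, (P = S ∨ F.IsEssential p P) → Q ≤ P ∧
      ∀ α ∈ F.autGroup P, ∀ x : P, (x : Ω) ∈ Q → ((α x : P) : Ω) ∈ Q) : F.IsNormal Q := by
  rw [S5087.result p hS F hF Q]
  intro P hP
  refine ⟨(h P hP).1, fun α hα => le_antisymm ?_ ?_⟩
  · rintro _ ⟨x, hx, rfl⟩
    exact (h P hP).2 α hα x hx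
  · intro x hx
    refine ⟨α.symm x, (h P hP).2 α⁻¹ (Subgroup.inv_mem _ hα) x hx, ?_⟩
    exact α.apply_symm_apply x

/-- Restriction of an element of `Aut_F(S)` to an invariant subgroup. -/
theorem exists_restrict [Finite S] {F : FusionSystem S} {P : Subgroup Ω} (hPS : P ≤ S)
    {β : MulAut S} (hβ : β ∈ F.autGroup S) (hP : ∀ x : S, (x : Ω) ∈ P → ((β x : S) : Ω) ∈ P) :
    ∃ α ∈ F.autGroup P, ∀ x : P, ((α x : P) : Ω) = (β ⟨x, hPS x.2⟩ : S) := by
  have hfP : Finite P := finite_of_le hPS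
  have h1 := (mem_autGroup_iff F le_rfl β).1 hβ
  have h2 : ((S.subtype.comp β.toMonoidHom).comp (Subgroup.inclusion hPS)) ∈ F.Hom P :=
    restrict_mem h1 hPS
  have h3 := range_eq_of_mapsTo h2 (fun x => hP ⟨x, hPS x.2⟩ x.2)
  obtain ⟨α, hα, hαe⟩ := exists_aut h2 h3
  exact ⟨α, hα, fun x => hαe x⟩

variable {K : Type v} [Field K] (C : SpC S K)

/-- A chain of length four. -/
def chain4 {X : Type*} [Group X] (A B D : Subgroup X) : ℕ → Subgroup X
  | 0 => ⊤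
  | 1 => A
  | 2 => B
  | 3 => D
  | _ => ⊥

section odd

variable (h2 : (2 : K) ≠ 0)

/-- An automorphism in `F` of `S` acting trivially on the factors of `S > M > Z₂ > Z₁ > 1` is inner. -/
theorem SpC.s_eq_of_chain [Finite S] {p : ℕ} [Fact p.Prime]
    (hS : IsPGroup p S) {F : FusionSystem S} (hF : F.IsSaturated p) {κ : MulAut S}
    (hκ : κ ∈ F.autGroup S) (h1 : ∀ x : S, C.t (κ x : S) = C.t x)
    (h3 : ∀ x : S, (x : Ω) ∈ C.M → C.s (κ x : S) = C.s x)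
    (h4 : ∀ x : S, (x : Ω) ∈ C.Z2 → C.u (κ x : S) = C.u x)
    (h5 : ∀ x : S, (x : Ω) ∈ C.Z1 → κ x = x) (x : S) : C.s (κ x : S) = C.s x := by
  have hSa := isFullyAutomized_of_isFullyNormalized hS hF (isFullyNormalized_top F)
  set c : ℕ → Subgroup S := chain4 (C.M.subgroupOf S) (C.Z2.subgroupOf S) (C.Z1.subgroupOf S) with hc
  have hanti : ∀ i, c (i + 1) ≤ c i := by
    rintro (_ | _ | _ | _ | i)
    · exact le_top
    · exact fun x hx => C.Z2_le_M hx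
    · exact fun x hx => C.Z1_le_Z2 hx
    · exact bot_le
    · exact le_rfl
  set N := chainStab (F.autGroup S) 4 c hanti rfl with hN
  have hNp : IsPGroup p N := chainStab_isPGroup hS _ 4 c hanti rfl rfl
  -- factor conditions in coordinates
  have hmul : ∀ (κ : MulAut S) (x : S), ((x⁻¹ * κ x : S) : Ω) = (x : Ω)⁻¹ * (κ x : S) := fun _ _ => rfl
  have hNmem : ∀ κ : MulAut S, κ ∈ F.autGroup S → (∀ x : S, C.t (κ x : S) = C.t x) →
      (∀ x : S, (x : Ω) ∈ C.M → C.s (κ x : S) = C.s x) →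
      (∀ x : S, (x : Ω) ∈ C.Z2 → C.u (κ x : S) = C.u x) →
      (∀ x : S, (x : Ω) ∈ C.Z1 → κ x = x) → κ ∈ N := by
    intro κ hκ h1 h3 h4 h5
    refine mem_chainStab.2 ⟨hκ, ?_⟩
    have ht : ∀ x : S, C.t ((x : Ω)⁻¹ * (κ x : S)) = 0 := by
      intro x
      rw [C.t_mul (S.inv_mem x.2) (κ x).2, C.t_inv x.2, h1, neg_add_cancel]
    have hs : ∀ x : S, (x : Ω) ∈ C.M → C.s ((x : Ω)⁻¹ * (κ x : S)) = 0 := by
      intro x hx
      rw [C.s_mul (S.inv_mem x.2) (κ x).2, C.s_inv x.2, h3 x hx, neg_add_cancel]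
    rintro (_ | _ | _ | _ | i) hi x hx
    · exact ⟨(x⁻¹ * κ x).2, ht x⟩
    · exact ⟨(x⁻¹ * κ x).2, ht x, hs x hx⟩
    · have hx' : (x : Ω) ∈ C.Z2 := hx
      refine ⟨(x⁻¹ * κ x).2, ht x, hs x (C.Z2_le_M hx'), ?_⟩
      show C.u ((x : Ω)⁻¹ * (κ x : S)) = 0
      rw [C.u_mul (S.inv_mem x.2) (κ x).2, C.u_inv x.2, h4 x hx', h3 x (C.Z2_le_M hx'), hx'.2.1,
        hx'.2.2]
      ring
    · rw [h5 x hx, inv_mul_cancel]
      exact Subgroup.one_mem _
    · omega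
  have hTN : autInducedBy S S ≤ N := by
    intro τ hτ
    obtain ⟨g, hg, hgτ⟩ := (mem_autInducedBy_iff S S τ).1 hτ
    refine hNmem τ (autInducedBy_le_autGroup F le_rfl hτ) (fun x => ?_) (fun x _ => ?_)
      (fun x hx => ?_) (fun x hx => ?_)
    · rw [hgτ, C.t_conj hg x.2]
    · rw [hgτ, C.s_conj hg x.2]
    · rw [hgτ, C.u_conj hg x.2, hx.2.1, hx.2.2]; ring
    · apply Subtype.ext
      rw [hgτ, ← C.Z1_comm hx hg, mul_inv_cancel_right]
  have hNT := le_autInducedBy_of_le hSa (fun α hα => (mem_chainStab.1 hα).1) hNp hTN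
  obtain ⟨g, hg, hgκ⟩ := (mem_autInducedBy_iff S S κ).1 (hNT (hNmem κ hκ h1 h3 h4 h5))
  rw [hgκ, C.s_conj hg x.2]

include h2

/-- At most one `L_m` is essential. -/
theorem SpC.L_unique [Finite S] {p : ℕ} [Fact p.Prime] (hsl : SL2Prop.{u} K p)
    (hS : IsPGroup p S) {F : FusionSystem S} (hF : F.IsSaturated p) {m m' : K}
    (hP : F.IsEssential p (C.L m)) (hP' : F.IsEssential p (C.L m')) : m = m' := by
  obtain ⟨β, hβ, h3, h4, h5, h6⟩ := C.exists_torus h2 hsl hS hF hP (c := -1) (by simp)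
  obtain ⟨β', hβ', h3', h4', h5', h6'⟩ := C.exists_torus h2 hsl hS hF hP' (c := -1) (by simp)
  simp only [even_two, Even.neg_pow, one_pow, one_mul, inv_neg, inv_one, neg_mul] at h5 h5' h6 h6' h4 h4'
  have hs : ∀ x : S, C.s ((β * β') x : S) = C.s x + 2 * (m - m') * C.t x := by
    intro x
    rw [MulAut.mul_apply]
    have h7 := h6 (β' x)
    have h8 := h6' x
    rw [h5, h5'] at h7
    rw [h5'] at h8
    linear_combination h7 + h8
  have key := fun x => C.s_eq_of_chain hS hF (κ := β * β') (Subgroup.mul_mem _ hβ hβ')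
    (fun x => by rw [MulAut.mul_apply, h5, h5', neg_neg])
    (fun x hx => by rw [hs, hx.2, mul_zero, add_zero])
    (fun x hx => by rw [MulAut.mul_apply, h4 _ (C.Z2_inv h2 β' x hx), h4' x hx, neg_neg])
    (fun x hx => by rw [MulAut.mul_apply, h3' x hx, h3 x hx]) x
  obtain ⟨x, hx, h7, -, -, -⟩ := C.surj 1 0 0 0
  have h8 := key ⟨x, hx⟩
  rw [hs, show C.t ((⟨x, hx⟩ : S) : Ω) = 1 from h7] at h8
  have h9 : (2 : K) * (m - m') = 0 := by linear_combination h8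
  exact sub_eq_zero.1 ((mul_eq_zero.1 h9).resolve_left h2)

/-- An essential `L_m` is invariant under `Aut_F(S)`. -/
theorem SpC.L_inv [Finite S] {p : ℕ} [Fact p.Prime] (hsl : SL2Prop.{u} K p)
    (hS : IsPGroup p S) {F : FusionSystem S} (hF : F.IsSaturated p) {m : K}
    (hP : F.IsEssential p (C.L m)) {α : MulAut S} (hα : α ∈ F.autGroup S) (x : S)
    (hx : (x : Ω) ∈ C.L m) : ((α x : S) : Ω) ∈ C.L m := by
  obtain ⟨β, hβ, h3, h4, h5, h6⟩ := C.exists_torus h2 hsl hS hF hP (c := -1) (by simp)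
  simp only [even_two, Even.neg_pow, one_pow, one_mul, inv_neg, inv_one, neg_mul] at h5 h6 h4
  have hsβ : ∀ x : S, C.s (β x : S) = C.s x - 2 * m * C.t x := by
    intro x
    have := h6 x
    rw [h5] at this
    linear_combination this
  -- additivity helper: `t` of products and inverses in `S`
  have ht1 : ∀ a b : S, C.t ((a * b : S) : Ω) = C.t a + C.t b := fun a b => C.t_mul a.2 b.2
  have hs1 : ∀ a b : S, C.s ((a * b : S) : Ω) = C.s a + C.s b := fun a b => C.s_mul a.2 b.2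
  -- `x * β x ∈ M` for all `x`
  have hxM : ∀ x : S, ((x * β x : S) : Ω) ∈ C.M := fun x => ⟨(x * β x).2, by rw [ht1, h5, add_neg_cancel]⟩
  -- `κ = α β α⁻¹ β`
  set κ : MulAut S := α * β * α⁻¹ * β with hκ
  have hκF : κ ∈ F.autGroup S := Subgroup.mul_mem _ (Subgroup.mul_mem _ (Subgroup.mul_mem _ hα hβ)
    (Subgroup.inv_mem _ hα)) hβ
  have hκapp : ∀ x, κ x = α (β (α⁻¹ (β x))) := fun x => rfl
  have hαα : ∀ x, α (α⁻¹ x) = x := fun x => α.apply_symm_apply x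
  -- `t`
  have hκt : ∀ x : S, C.t (κ x : S) = C.t x := by
    intro x
    rw [hκapp]
    -- with `y = α⁻¹ (β x)`: `y * β y ∈ M`, apply `α`
    have h7 := C.M_inv h2 α _ (hxM (α⁻¹ (β x)))
    rw [map_mul, hαα] at h7
    have h8 := h7.2
    rw [ht1, h5] at h8
    linear_combination h8
  have hκs : ∀ x : S, (x : Ω) ∈ C.M → C.s (κ x : S) = C.s x := by
    intro x hx
    rw [hκapp]
    have h7 : ((β x : S) : Ω) ∈ C.M := C.M_inv h2 β x hx
    have h8 : ((α⁻¹ (β x) : S) : Ω) ∈ C.M := C.M_inv h2 α⁻¹ _ h7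
    -- `y⁻¹ * β y ∈ Z₂` for `y ∈ M`
    set y := α⁻¹ (β x) with hy
    have h9 : ((y⁻¹ * β y : S) : Ω) ∈ C.Z2 := by
      refine ⟨(y⁻¹ * β y).2, ?_, ?_⟩
      · rw [ht1, h5]
        have : C.t ((y⁻¹ : S) : Ω) = - C.t y := C.t_inv y.2
        rw [this, h8.2]; ring
      · rw [hs1, hsβ]
        have : C.s ((y⁻¹ : S) : Ω) = - C.s y := C.s_inv y.2
        rw [this, h8.2]; ring
    have h10 := C.Z2_inv h2 α _ h9
    rw [map_mul, map_inv, hy, hαα] at h10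
    have h11 := h10.2.2
    rw [hs1] at h11
    have h12 : C.s (((β x)⁻¹ : S) : Ω) = - C.s (β x : S) := C.s_inv (β x).2
    rw [h12, hsβ, hx.2] at h11
    linear_combination h11
  have hu1 : ∀ a b : S, (a : Ω) ∈ C.Z2 → C.u ((a * b : S) : Ω) = C.u a + C.u b := by
    intro a b ha
    have : C.u ((a * b : S) : Ω) = _ := C.u_mul a.2 b.2
    rw [this, ha.2.1]; ring
  have hκu : ∀ x : S, (x : Ω) ∈ C.Z2 → C.u (κ x : S) = C.u x := by
    intro x hx
    rw [hκapp]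
    have h7 : ((β x : S) : Ω) ∈ C.Z2 := C.Z2_inv h2 β x hx
    have h8 : ((α⁻¹ (β x) : S) : Ω) ∈ C.Z2 := C.Z2_inv h2 α⁻¹ _ h7
    set y := α⁻¹ (β x) with hy
    have h9 : ((y * β y : S) : Ω) ∈ C.Z1 := by
      refine ⟨(y * β y).2, ?_, ?_, ?_⟩
      · rw [ht1, h5, add_neg_cancel]
      · rw [hs1, hsβ, h8.2.1, h8.2.2]; ring
      · rw [hu1 _ _ h8, h4 y h8, add_neg_cancel]
    have h10 := C.Z1_inv h2 α _ h9
    rw [map_mul, hy, hαα] at h10
    have h11 := h10.2.2.2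
    rw [hu1 _ _ h7, h4 x hx] at h11
    linear_combination h11
  have hκ1 : ∀ x : S, (x : Ω) ∈ C.Z1 → κ x = x := by
    intro x hx
    rw [hκapp, h3 x hx, h3 _ (C.Z1_inv h2 α⁻¹ x hx), hαα]
  have key : ∀ x : S, C.s (κ x : S) = C.s x := C.s_eq_of_chain hS hF hκF hκt hκs hκu hκ1
  -- apply to `β⁻¹ (α x)`
  have h7 := key (β⁻¹ (α x))
  have hββ : β (β⁻¹ (α x)) = α x := β.apply_symm_apply _
  have hα'α : α⁻¹ (α x) = x := α.symm_apply_apply x
  rw [hκapp, hββ, hα'α] at h7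
  -- `s (α (β x)) = s (β⁻¹ (α x))`
  have h8 := hsβ (β⁻¹ (α x))
  have h9 := h5 (β⁻¹ (α x))
  rw [hββ] at h8 h9
  -- `x * β x ∈ Z₂`
  have h10 : ((x * β x : S) : Ω) ∈ C.Z2 := by
    refine ⟨(x * β x).2, ?_, ?_⟩
    · rw [ht1, h5, add_neg_cancel]
    · rw [hs1, hsβ, hx.2]; ring
  have h11 := C.Z2_inv h2 α _ h10
  rw [map_mul] at h11
  have h12 := h11.2.2
  rw [hs1] at h12
  refine ⟨(α x).2, ?_⟩
  apply mul_left_cancel₀ h2
  linear_combination h12 - h7 + h8 - 2 * m * h9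

end odd

end Cfsg.Agent.H780
end

-- part: H780/SpOddMain
section
/-!
# Saturated systems over a Sylow subgroup of `Sp₄(K)`, `p` odd: main result (helper780)
-/

set_option autoImplicit false

universe u v

namespace Cfsg.Agent.H780

open Cfsg Cfsg.FusionSystem Cfsg.Agent.H802

variable {Ω : Type u} [Group Ω] {S : Subgroup Ω} {K : Type v} [Field K] (C : SpC S K)

/-- the coordinates on `M` -/
def SpC.c3 (x : C.M) : K × K × K := (C.s x, C.u x, C.z x)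

theorem SpC.c3_mul (x y : C.M) : C.c3 (x * y) = C.c3 x + C.c3 y := by
  have h1 : C.s ((x * y : C.M) : Ω) = C.s x + C.s y := C.s_mul x.2.1 y.2.1
  have h2 : C.u ((x * y : C.M) : Ω) = C.u x + C.u y + C.t x * C.s y := C.u_mul x.2.1 y.2.1
  have h3 : C.z ((x * y : C.M) : Ω) = _ := C.z_mul x.2.1 y.2.1
  rw [x.2.2] at h2 h3
  show (C.s ((x * y : C.M) : Ω), C.u ((x * y : C.M) : Ω), C.z ((x * y : C.M) : Ω)) = _
  rw [h1, h2, h3]
  ext
  · rfl
  · show C.u x + C.u y + 0 * C.s y = C.u x + C.u y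
    ring
  · show C.z x + C.z y + 2 * 0 * C.u y + 0 ^ 2 * C.s y = C.z x + C.z y
    ring

theorem SpC.c3_inj (x y : C.M) (h : C.c3 x = C.c3 y) : x = y := by
  have h1 : C.s x = C.s y := congrArg Prod.fst h
  have h2 : C.u x = C.u y := congrArg (fun v => v.2.1) h
  have h3 : C.z x = C.z y := congrArg (fun v => v.2.2) h
  exact Subtype.ext (C.inj x.2.1 y.2.1 (by rw [x.2.2, y.2.2]) h1 h2 h3)

theorem SpC.c3_surj : Function.Surjective C.c3 := by
  rintro ⟨a, b, c⟩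
  obtain ⟨x, hx, h1, h2, h3, h4⟩ := C.surj 0 a b c
  refine ⟨⟨x, hx, h1⟩, ?_⟩
  show (C.s x, C.u x, C.z x) = _
  rw [h2, h3, h4]

theorem SpC.c3_conj {g : Ω} (hg : g ∈ S) (x y : C.M) (hy : (y : Ω) = g * x * g⁻¹) :
    C.c3 y = phi (C.t g) (C.c3 x) := by
  show (C.s y, C.u y, C.z y) = phi (C.t g) (C.s x, C.u x, C.z x)
  rw [phi_apply, hy, C.s_conj hg x.2.1, C.u_conj hg x.2.1, C.z_conj hg x.2.1, x.2.2]
  ext
  · rfl
  · show C.u x + C.t g * C.s x - 0 * C.s g = C.u x + C.t g * C.s x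
    ring
  · show C.z x + 2 * C.t g * C.u x + C.t g ^ 2 * C.s x - 2 * 0 * C.u g - 0 ^ 2 * C.s g =
      C.z x + 2 * C.t g * C.u x + C.t g ^ 2 * C.s x
    ring

theorem SpC.M_conj_mem {g : Ω} (hg : g ∈ S) {x : Ω} (hx : x ∈ C.M) : g * x * g⁻¹ ∈ C.M :=
  C.conj_mem_of_Z2_le C.M_le C.Z2_le_M hg hx

theorem SpC.M_normalizer {g : Ω} (hg : g ∈ S) : g ∈ Subgroup.normalizer (C.M : Set Ω) := by
  rw [Subgroup.mem_normalizer_iff]
  intro x
  refine ⟨fun hx => C.M_conj_mem hg hx, fun hx => ?_⟩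
  have h1 := C.M_conj_mem (S.inv_mem hg) hx
  have h2 : g⁻¹ * (g * x * g⁻¹) * g⁻¹⁻¹ = x := by group
  rwa [h2] at h1

section odd

variable (h2 : (2 : K) ≠ 0)

include h2

/-- An element of `Aut_F(M)` normalizing `Z₁` normalizes `Aut_S(M)`. -/
theorem SpC.normalizes_of_Z1 [Finite S] {p : ℕ} [Fact p.Prime] (hsl : SL2Prop.{u} K p)
    (hS : IsPGroup p S) {F : FusionSystem S} (hMa : F.IsFullyAutomized p C.M)
    {α : MulAut C.M} (hα : α ∈ F.autGroup C.M) (hαZ : ∀ x : C.M, (x : Ω) ∈ C.Z1 → ((α x : C.M) : Ω) ∈ C.Z1) :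
    ∀ u ∈ autInducedBy S C.M, α * u * α⁻¹ ∈ autInducedBy S C.M := by
  have hPS : C.M ≤ S := C.M_le
  have hfM : Finite C.M := finite_of_le hPS
  -- the group `G`
  let G : Subgroup (MulAut C.M) :=
    { carrier := {α | α ∈ F.autGroup C.M ∧ ∀ x : C.M, (x : Ω) ∈ C.Z1 → α x = x}
      one_mem' := ⟨Subgroup.one_mem _, fun x _ => rfl⟩
      mul_mem' := by
        rintro a b ⟨ha, ha1⟩ ⟨hb, hb1⟩
        exact ⟨Subgroup.mul_mem _ ha hb, fun x hx => by rw [MulAut.mul_apply, hb1 x hx, ha1 x hx]⟩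
      inv_mem' := by
        rintro a ⟨ha, ha1⟩
        refine ⟨Subgroup.inv_mem _ ha, fun x hx => ?_⟩
        have h3 := ha1 x hx
        calc a⁻¹ x = a⁻¹ (a x) := by rw [h3]
          _ = x := a.symm_apply_apply x }
  have hG : G ≤ F.autGroup C.M := fun α hα => hα.1
  have hTG : autInducedBy S C.M ≤ G := by
    intro τ hτ
    refine ⟨autInducedBy_le_autGroup F hPS hτ, fun x hx => ?_⟩
    obtain ⟨g, hg, hgτ⟩ := (mem_autInducedBy_iff S C.M τ).1 hτ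
    apply Subtype.ext
    rw [hgτ, ← C.Z1_comm hx hg, mul_inv_cancel_right]
  by_cases hnn : ∀ g ∈ G, ∀ u ∈ autInducedBy S C.M, g * u * g⁻¹ ∈ autInducedBy S C.M
  · apply conj_mem_of_normal hS hMa hG hTG hnn
    intro u hu
    refine ⟨Subgroup.mul_mem _ (Subgroup.mul_mem _ hα (hG (hTG hu))) (Subgroup.inv_mem _ hα),
      fun x hx => ?_⟩
    -- `α⁻¹` preserves `Z₁`
    have h3 : ((α⁻¹ x : C.M) : Ω) ∈ C.Z1 := by
      have hfZ : Finite C.Z1 := finite_of_le C.Z1_le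
      have hinj : Function.Injective (fun w : C.Z1 =>
          (⟨α ⟨w, C.Z2_le_M (C.Z1_le_Z2 w.2)⟩, hαZ _ w.2⟩ : C.Z1)) := by
        intro a b hab
        have h4 : α ⟨a, C.Z2_le_M (C.Z1_le_Z2 a.2)⟩ = α ⟨b, C.Z2_le_M (C.Z1_le_Z2 b.2)⟩ := by
          have h6 := congrArg Subtype.val hab
          exact Subtype.ext h6
        have h5 := congrArg Subtype.val (α.injective h4)
        exact Subtype.ext h5
      obtain ⟨w, hw⟩ := Finite.surjective_of_injective hinj ⟨x, hx⟩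
      have h4 : α ⟨w, C.Z2_le_M (C.Z1_le_Z2 w.2)⟩ = x := by
        have h6 := congrArg Subtype.val hw
        exact Subtype.ext h6
      have h5 : α⁻¹ x = ⟨w, C.Z2_le_M (C.Z1_le_Z2 w.2)⟩ := by
        rw [← h4]; exact α.symm_apply_apply _
      rw [h5]
      exact w.2
    rw [MulAut.mul_apply, MulAut.mul_apply, (hTG hu).2 _ h3]
    exact α.apply_symm_apply x
  · exfalso
    let π : C.M → K × K := fun x => (C.s x, C.u x)
    have hπc : ∀ x, π x = ((C.c3 x).1, (C.c3 x).2.1) := fun _ => rfl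
    have hπ : ∀ x y, π (x * y) = π x + π y := by
      intro x y
      rw [hπc, C.c3_mul]
      rfl
    have hπs : Function.Surjective π := by
      rintro ⟨a, b⟩
      obtain ⟨x, hx⟩ := C.c3_surj (a, b, 0)
      exact ⟨x, by rw [hπc, hx]⟩
    have hπ0 : ∀ x : C.M, π x = 0 ↔ (x : Ω) ∈ C.Z1 := by
      intro x
      constructor
      · intro h
        exact ⟨x.2.1, x.2.2, congrArg Prod.fst h, congrArg Prod.snd h⟩
      · intro h
        ext
        · exact h.2.2.1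
        · exact h.2.2.2
    have hconj : ∀ g ∈ S, ∀ (x y : C.M), (y : Ω) = g * x * g⁻¹ → π y = theta (C.t g) (π x) := by
      intro g hg x y hy
      have h3 := C.c3_conj hg x y hy
      rw [hπc, h3]
      rfl
    obtain ⟨f, hf, -⟩ := sl2_situation hsl hS hMa hG hTG π hπ hπs
      (fun α hα x hx => hα.2 x ((hπ0 x).1 hx))
      (fun τ hτ => by
        obtain ⟨g, hg, hgτ⟩ := (mem_autInducedBy_iff S C.M τ).1 hτ
        exact ⟨_, fun x => hconj g hg x (τ x) (hgτ x)⟩)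
      (fun r => by
        obtain ⟨g, hg, h3, -, -, -⟩ := C.surj r 0 0 0
        obtain ⟨τ, hτ⟩ := exists_conjAut (C.M_normalizer hg)
        refine ⟨τ, (mem_autInducedBy_iff S C.M τ).2 ⟨g, hg, hτ⟩, fun x => ?_⟩
        rw [hconj g hg x (τ x) (hτ x), h3]) hnn
    obtain ⟨h, hh, hh1, hh2⟩ := hf (-1) (by simp)
    have hhπ : ∀ x, π (h x) = -π x := by
      intro x
      rw [hh1]
      ext
      · simp
      · show -1 * ((π x).2 - f (π x).1) + f ((-1)⁻¹ * (π x).1) = -(π x).2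
        have h4 : (-1 : K)⁻¹ * (π x).1 = -(π x).1 := by rw [inv_neg, inv_one]; ring
        rw [h4, map_neg]
        ring
    have hhs : ∀ x : C.M, (C.c3 (h x)).1 = - (C.c3 x).1 := fun x => congrArg Prod.fst (hhπ x)
    -- the automorphism `τ` induced by an element with `t = 1`
    obtain ⟨g, hg, h3, -, -, -⟩ := C.surj 1 0 0 0
    obtain ⟨τ, hτ⟩ := exists_conjAut (C.M_normalizer hg)
    have hτT : τ ∈ autInducedBy S C.M := (mem_autInducedBy_iff S C.M τ).2 ⟨g, hg, hτ⟩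
    have hτc : ∀ x, C.c3 (τ x) = phi 1 (C.c3 x) := by
      intro x
      rw [C.c3_conj hg x (τ x) (hτ x), h3]
    obtain ⟨g', hg', hg'τ⟩ := (mem_autInducedBy_iff S C.M _).1 (hh2 τ hτT)
    -- `t g' = 1`
    have ht' : C.t g' = 1 := by
      obtain ⟨x, hx⟩ := C.c3_surj (1, 0, 0)
      have h4 := hconj g' hg' (h x) _ (hg'τ (h x))
      rw [MulAut.mul_apply, MulAut.mul_apply, show h⁻¹ (h x) = x from h.symm_apply_apply x, hhπ, hhπ,
        hconj g hg x (τ x) (hτ x), h3] at h4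
      have h5 : π x = (1, 0) := by rw [hπc, hx]
      rw [h5] at h4
      have h6 := congrArg Prod.snd h4
      simp [theta] at h6
      exact h6.symm
    -- `h` commutes with `τ`
    have hcomm : ∀ x, h (τ x) = τ (h x) := by
      intro x
      apply C.c3_inj
      have h4 := C.c3_conj hg' (h x) _ (hg'τ (h x))
      rw [MulAut.mul_apply, MulAut.mul_apply, show h⁻¹ (h x) = x from h.symm_apply_apply x, ht'] at h4
      rw [h4, hτc]
    have hc1 : C.c3 1 = 0 := by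
      have := C.c3_mul 1 1
      rw [mul_one] at this
      simpa using this
    have hcinv : ∀ x, C.c3 x⁻¹ = - C.c3 x := by
      intro x
      have := C.c3_mul x⁻¹ x
      rw [inv_mul_cancel, hc1] at this
      exact eq_neg_of_add_eq_zero_left this.symm
    -- the second difference
    let D : C.M → C.M := fun x => τ (τ x) * (τ x)⁻¹ * (τ x)⁻¹ * x
    have hD : ∀ x, C.c3 (D x) = (0, 0, 2 * (C.c3 x).1) := by
      intro x
      show C.c3 (τ (τ x) * (τ x)⁻¹ * (τ x)⁻¹ * x) = _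
      rw [C.c3_mul, C.c3_mul, C.c3_mul, hcinv, hτc, hτc]
      obtain ⟨a, b, c⟩ := C.c3 x
      rw [phi_apply, phi_apply]
      ext
      · show a + -a + -a + a = 0
        ring
      · show b + 1 * a + 1 * a + -(b + 1 * a) + -(b + 1 * a) + b = 0
        ring
      · show c + 2 * 1 * b + 1 ^ 2 * a + 2 * 1 * (b + 1 * a) + 1 ^ 2 * a + -(c + 2 * 1 * b + 1 ^ 2 * a) +
          -(c + 2 * 1 * b + 1 ^ 2 * a) + c = 2 * a
        ring
    have hDh : ∀ x, h (D x) = D (h x) := by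
      intro x
      show h (τ (τ x) * (τ x)⁻¹ * (τ x)⁻¹ * x) = τ (τ (h x)) * (τ (h x))⁻¹ * (τ (h x))⁻¹ * h x
      rw [map_mul, map_mul, map_mul, map_inv, hcomm, hcomm]
    obtain ⟨x, hx⟩ := C.c3_surj (1, 0, 0)
    have h4 : (D x : Ω) ∈ C.Z1 := by
      rw [← hπ0, hπc, hD]
      rfl
    have h5 := hh.2 _ h4
    have h6 := congrArg C.c3 h5
    rw [hDh, hD, hD, hhs, hx] at h6
    have h7 := congrArg (fun v => v.2.2) h6
    have h8 : (2 : K) * -1 = 2 * 1 := h7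
    apply mul_ne_zero h2 h2
    linear_combination -h8

/-- `M` and `L_m` cannot both be essential if a nontrivial subgroup of `Z₁` is strongly closed. -/
theorem SpC.not_both [Finite S] {p : ℕ} [Fact p.Prime] (hsl : SL2Prop.{u} K p)
    (hsym : SymProp.{u} K p)
    (hS : IsPGroup p S) {F : FusionSystem S} (hF : F.IsSaturated p) {Q : Subgroup Ω}
    (hQ : F.StronglyClosed Q) (hQ1 : Q ≠ ⊥) (hQZ : Q ≤ C.Z1) (hM : F.IsEssential p C.M) {m : K}
    (hL : F.IsEssential p (C.L m)) : False := by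
  have hPS : C.M ≤ S := C.M_le
  have hfM : Finite C.M := finite_of_le hPS
  have hMa := isFullyAutomized_of_isFullyNormalized hS hF hM.2.1
  obtain ⟨q, hq, hq1⟩ : ∃ q ∈ Q, q ≠ 1 := by
    by_contra hcon
    push Not at hcon
    exact hQ1 ((Subgroup.eq_bot_iff_forall Q).2 hcon)
  have hqZ := hQZ hq
  set q' : C.M := ⟨q, C.Z2_le_M (C.Z1_le_Z2 hqZ)⟩ with hq'
  have hcq : C.c3 q' = (0, 0, C.z q) := by
    show (C.s q, C.u q, C.z q) = _
    rw [hqZ.2.2.1, hqZ.2.2.2]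
  have hzq : C.z q ≠ 0 := by
    intro h
    apply hq1
    apply C.inj hqZ.1 S.one_mem
    · rw [hqZ.2.1, C.t_one]
    · rw [hqZ.2.2.1, C.s_one]
    · rw [hqZ.2.2.2, C.u_one]
    · rw [h, C.z_one]
  have hmemZ : ∀ x : C.M, (x : Ω) ∈ C.Z1 ↔ ∃ z, C.c3 x = (0, 0, z) := by
    intro x
    constructor
    · intro h
      refine ⟨C.z x, ?_⟩
      show (C.s x, C.u x, C.z x) = _
      rw [h.2.2.1, h.2.2.2]
    · rintro ⟨z, hz⟩
      exact ⟨x.2.1, x.2.2, congrArg Prod.fst hz, congrArg (fun v => v.2.1) hz⟩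
  let G : Subgroup (MulAut C.M) :=
    { carrier := {α | α ∈ F.autGroup C.M ∧ α q' = q'}
      one_mem' := ⟨Subgroup.one_mem _, rfl⟩
      mul_mem' := by
        rintro a b ⟨ha, ha1⟩ ⟨hb, hb1⟩
        exact ⟨Subgroup.mul_mem _ ha hb, by rw [MulAut.mul_apply, hb1, ha1]⟩
      inv_mem' := by
        rintro a ⟨ha, ha1⟩
        refine ⟨Subgroup.inv_mem _ ha, ?_⟩
        calc a⁻¹ q' = a⁻¹ (a q') := by rw [ha1]
          _ = q' := a.symm_apply_apply q' }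
  have hG : G ≤ F.autGroup C.M := fun α hα => hα.1
  have hTG : autInducedBy S C.M ≤ G := by
    intro τ hτ
    refine ⟨autInducedBy_le_autGroup F hPS hτ, ?_⟩
    obtain ⟨g, hg, hgτ⟩ := (mem_autInducedBy_iff S C.M τ).1 hτ
    apply Subtype.ext
    rw [hgτ, ← C.Z1_comm hqZ hg, mul_inv_cancel_right]
  have hc1 : C.c3 1 = 0 := by
    have := C.c3_mul 1 1
    rw [mul_one] at this
    simpa using this
  have hker : ∀ x, C.c3 x = 0 → x = 1 := fun x hx => C.c3_inj x 1 (by rw [hx, hc1])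
  obtain ⟨ρ, hρ, hρadd⟩ := exists_rho C.c3 C.c3_mul C.c3_surj G
    (fun α _ x hx => by rw [hker x hx, map_one, hc1])
  have hρinj : Function.Injective ρ := by
    intro α β hαβ
    apply Subtype.ext
    apply MulEquiv.ext
    intro x
    apply C.c3_inj
    rw [← hρ, ← hρ, hαβ]
  obtain ⟨R, hR⟩ := exists_sylow_of_le hS hMa hG hTG
  have hmemR : ∀ g : G, g ∈ R ↔ (g : MulAut C.M) ∈ autInducedBy S C.M := by
    intro g
    have : g ∈ (R : Subgroup G) ↔ g ∈ (autInducedBy S C.M).subgroupOf G := by rw [hR]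
    exact this
  have hρeq : ∀ (g : G) (t : K), (∀ x, C.c3 (g.1 x) = phi t (C.c3 x)) → ρ g = phi t := by
    intro g t h
    apply Equiv.ext
    intro v
    obtain ⟨x, rfl⟩ := C.c3_surj v
    rw [hρ]
    exact h x
  have hρZ : ∀ g : G, (∀ z, ∃ z', ρ g (0,0,z) = (0,0,z')) →
      ∀ x : C.M, (x : Ω) ∈ C.Z1 → ((g.1 x : C.M) : Ω) ∈ C.Z1 := by
    intro g h x hx
    obtain ⟨z, hz⟩ := (hmemZ x).1 hx
    obtain ⟨z', hz'⟩ := h z
    rw [hmemZ]
    exact ⟨z', by rw [← hρ, hz, hz']⟩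
  have hmain := hsym G ρ hρinj hρadd R
    (fun g hg => by
      obtain ⟨a, ha, haτ⟩ := (mem_autInducedBy_iff S C.M _).1 ((hmemR g).1 hg)
      exact ⟨C.t a, hρeq g _ (fun x => C.c3_conj ha x _ (haτ x))⟩)
    (fun t => by
      obtain ⟨a, ha, h3, -, -, -⟩ := C.surj t 0 0 0
      obtain ⟨τ, hτ⟩ := exists_conjAut (C.M_normalizer ha)
      have hτT : τ ∈ autInducedBy S C.M := (mem_autInducedBy_iff S C.M τ).2 ⟨a, ha, hτ⟩
      refine ⟨⟨τ, hTG hτT⟩, (hmemR _).2 hτT, hρeq _ _ (fun x => ?_)⟩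
      have h4 := C.c3_conj ha x _ (hτ x)
      rw [h3] at h4
      exact h4)
    (fun g hg x hx => (hmemR _).2 (C.normalizes_of_Z1 h2 hsl hS hMa (hG g.2) (hρZ g hg) _ ((hmemR x).1 hx)))
    (fun c hc => by
      obtain ⟨β, hβ, h3, h4, h5, h6⟩ := C.exists_torus h2 hsl hS hF hL hc
      obtain ⟨α, hα, hαe⟩ := exists_restrict hPS hβ (C.M_inv h2 β)
      have hαZ : ∀ x : C.M, (x : Ω) ∈ C.Z1 → α x = x := by
        intro x hx
        apply Subtype.ext
        rw [hαe]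
        exact congrArg Subtype.val (h3 ⟨x, hPS x.2⟩ hx)
      refine ⟨⟨α, hα, hαZ _ hqZ⟩, fun z => ?_, fun u => ?_, fun s => ?_⟩
      · obtain ⟨x, hx⟩ := C.c3_surj (0, 0, z)
        rw [← hx, hρ]
        show C.c3 (α x) = _
        rw [hαZ x ((hmemZ x).2 ⟨z, hx⟩)]
      · obtain ⟨x, hx⟩ := C.c3_surj (0, u, 0)
        have hxs : C.s x = 0 := congrArg Prod.fst hx
        have hxu : C.u x = u := congrArg (fun v => v.2.1) hx
        have hxZ2 : (x : Ω) ∈ C.Z2 := ⟨x.2.1, x.2.2, hxs⟩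
        refine ⟨C.z (α x : C.M), ?_⟩
        rw [← hx, hρ]
        show (C.s (α x : C.M), C.u (α x : C.M), C.z (α x : C.M)) = _
        rw [hαe]
        have h7 := h4 ⟨x, hPS x.2⟩ hxZ2
        have h8 := (C.Z2_inv h2 β ⟨x, hPS x.2⟩ hxZ2).2.2
        rw [h7, h8]
        show (0, c * C.u x, _) = _
        rw [hxu]
      · obtain ⟨x, hx⟩ := C.c3_surj (s, 0, 0)
        have hxs : C.s x = s := congrArg Prod.fst hx
        refine ⟨C.u (α x : C.M), C.z (α x : C.M), ?_⟩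
        rw [← hx, hρ]
        show (C.s (α x : C.M), C.u (α x : C.M), C.z (α x : C.M)) = _
        have h7 := h6 ⟨x, hPS x.2⟩
        have h8 := (C.M_inv h2 β ⟨x, hPS x.2⟩ x.2).2
        have h9 : C.t (x : Ω) = 0 := x.2.2
        rw [h8] at h7
        have h10 : C.s (α x : C.M) = c ^ 2 * s := by
          rw [hαe]
          have h11 : C.s (((⟨x, hPS x.2⟩ : S) : S) : Ω) = s := hxs
          have h12 : C.t (((⟨x, hPS x.2⟩ : S) : S) : Ω) = 0 := h9
          rw [h11, h12] at h7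
          linear_combination h7
        rw [h10])
    (C.z q) hzq
    (fun g => by
      rw [← hcq, hρ, g.2.2])
  -- `Aut_S(M)` is normal in `G`, hence in `Aut_F(M)`
  have hTn : ∀ g ∈ G, ∀ u ∈ autInducedBy S C.M, g * u * g⁻¹ ∈ autInducedBy S C.M := fun g hg =>
    C.normalizes_of_Z1 h2 hsl hS hMa (hG hg) (hρZ ⟨g, hg⟩ (hmain ⟨g, hg⟩))
  apply not_normal_of_isEssential hS hF hM
  intro α hα
  apply conj_mem_of_normal hS hMa hG hTG hTn
  intro u hu
  refine ⟨Subgroup.mul_mem _ (Subgroup.mul_mem _ hα (hG (hTG hu))) (Subgroup.inv_mem _ hα), ?_⟩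
  have hQM : Q ≤ C.M := fun x hx => C.Z2_le_M (C.Z1_le_Z2 (hQZ hx))
  have h3 : ((α⁻¹ q' : C.M) : Ω) ∈ Q := by
    have h5 := hQ.2 Q le_rfl ((C.M.subtype.comp (α⁻¹ : MulAut C.M).toMonoidHom).comp
      (Subgroup.inclusion hQM)) (restrict_mem ((mem_autGroup_iff F hPS _).1 (Subgroup.inv_mem _ hα)) _)
      ⟨q, hq⟩
    exact h5
  rw [MulAut.mul_apply, MulAut.mul_apply]
  have h4 : u (α⁻¹ q') = α⁻¹ q' := by
    obtain ⟨g, hg, hgτ⟩ := (mem_autInducedBy_iff S C.M u).1 hu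
    apply Subtype.ext
    rw [hgτ, ← C.Z1_comm (hQZ h3) hg, mul_inv_cancel_right]
  rw [h4]
  exact α.apply_symm_apply q'

include C in
/-- **`p` odd: a saturated system over `S` with nontrivial core has a normal centric subgroup.** -/
theorem SpC.odd_main [Finite S] {p : ℕ} [Fact p.Prime] (hsl : SL2Prop.{u} K p)
    (hsym : SymProp.{u} K p) (hS : IsPGroup p S) {F : FusionSystem S} (hF : F.IsSaturated p)
    (hcore : F.core ≠ ⊥) : ∃ Q : Subgroup Ω, F.IsNormal Q ∧ F.IsCentric Q := by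
  have hQn : F.IsNormal F.core := H759.isNormal_core
  have hQs := H759.IsNormal.stronglyClosed hQn
  set Q := F.core with hQdef
  have hQS : Q ≤ S := hQs.1
  by_cases hQZ : Q ≤ C.Z1
  · have hcases := fun P (hP : F.IsEssential p P) => C.essential_cases h2 hS hF hQs hcore hQZ hP
    by_cases hM : F.IsEssential p C.M
    · refine ⟨C.M, isNormal_of_essential hS hF ?_, hM.1⟩
      rintro P (rfl | hP)
      · exact ⟨C.M_le, fun α _ x hx => C.M_inv h2 α x hx⟩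
      · rcases hcases P hP with rfl | ⟨m, rfl⟩
        · exact ⟨le_rfl, fun α _ x _ => (α x).2⟩
        · exact (C.not_both h2 hsl hsym hS hF hQs hcore hQZ hM hP).elim
    · by_cases hL : ∃ m, F.IsEssential p (C.L m)
      · obtain ⟨m, hm⟩ := hL
        refine ⟨C.L m, isNormal_of_essential hS hF ?_, hm.1⟩
        rintro P (rfl | hP)
        · exact ⟨C.L_le m, fun α hα x hx => C.L_inv h2 hsl hS hF hm hα x hx⟩
        · rcases hcases P hP with rfl | ⟨m', rfl⟩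
          · exact (hM hP).elim
          · rw [C.L_unique h2 hsl hS hF hm hP]
            exact ⟨le_rfl, fun α _ x _ => (α x).2⟩
      · have h1 : F.IsNormal S := by
          refine isNormal_of_essential hS hF ?_
          rintro P (rfl | hP)
          · exact ⟨le_rfl, fun α _ x _ => (α x).2⟩
          · rcases hcases P hP with rfl | ⟨m', rfl⟩
            · exact (hM hP).elim
            · exact (hL ⟨m', hP⟩).elim
        exact ⟨S, h1, isCentric_of_stronglyClosed (H759.IsNormal.stronglyClosed h1) inf_le_left⟩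
  · obtain ⟨x, hxQ, hxZ⟩ := SetLike.not_le_iff_exists.1 hQZ
    have hconjQ : ∀ g ∈ S, ∀ y ∈ Q, g * y * g⁻¹ ∈ Q := by
      intro g hg y hy
      exact hQs.2 Q le_rfl (conjHom Q g) (F.conj_mem hQS hg) ⟨y, hy⟩
    by_cases ht : ∃ y ∈ Q, C.t y ≠ 0
    · obtain ⟨y, hyQ, hty⟩ := ht
      refine ⟨Q, hQn, isCentric_of_stronglyClosed hQs ?_⟩
      have hyS := hQS hyQ
      -- an element of `Q ∩ Z₂ ∖ Z₁`
      obtain ⟨g, hg, h3, h4, -, -⟩ := C.surj 0 1 0 0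
      have h5 : y⁻¹ * (g * y * g⁻¹) ∈ Q := Q.mul_mem (Q.inv_mem hyQ) (hconjQ g hg y hyQ)
      have h6 : y⁻¹ * (g * y * g⁻¹) ∉ C.Z1 := by
        rw [C.comm_mem_Z1_iff hg hyS, h3, h4]
        intro h7
        apply hty
        linear_combination -h7
      have h7 := C.Z2_le_M (C.comm_mem_Z2 hg hyS)
      intro w hw
      have hw' := mem_centralizerIn.1 hw
      have htw : C.t w = 0 := C.t_eq_zero_of_comm h2 h7 h6 hw'.1 (hw'.2 _ h5)
      have hwZ : w ∈ C.Z1 := by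
        by_contra hwZ
        exact hty (C.t_eq_zero_of_comm h2 ⟨hw'.1, htw⟩ hwZ hyS (hw'.2 y hyQ).symm)
      -- `Z₁ ≤ Q`
      obtain ⟨a, ha, h8, h9, h10, -⟩ := C.surj 0 0 (-(C.z w / (2 * C.t y))) 0
      have h11 : a * y * a⁻¹ = y * w := by
        apply C.inj (S.mul_mem (S.mul_mem ha hyS) (S.inv_mem ha)) (S.mul_mem hyS hwZ.1)
        · rw [C.t_conj ha hyS, C.t_mul hyS hwZ.1, hwZ.2.1, add_zero]
        · rw [C.s_conj ha hyS, C.s_mul hyS hwZ.1, hwZ.2.2.1, add_zero]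
        · rw [C.u_conj ha hyS, C.u_mul hyS hwZ.1, hwZ.2.2.1, hwZ.2.2.2, h8, h9]
          ring
        · rw [C.z_conj ha hyS, C.z_mul hyS hwZ.1, hwZ.2.2.1, hwZ.2.2.2, h8, h9, h10]
          field_simp
          ring
      have h12 := hconjQ a ha y hyQ
      rw [h11] at h12
      exact (Q.mul_mem_cancel_left hyQ).1 h12
    · push Not at ht
      have hQM : Q ≤ C.M := fun y hy => ⟨hQS hy, ht y hy⟩
      have hCQ : centralizerIn S Q = C.M := by
        apply le_antisymm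
        · intro w hw
          have hw' := mem_centralizerIn.1 hw
          exact ⟨hw'.1, C.t_eq_zero_of_comm h2 (hQM hxQ) hxZ hw'.1 (hw'.2 x hxQ)⟩
        · intro w hw
          exact mem_centralizerIn.2 ⟨hw.1, fun y hy => C.M_comm (hQM hy) hw⟩
      have hBs : F.StronglyClosed (Q ⊔ centralizerIn S Q) := S5255.result p hS F hF Q hQs
      rw [hCQ, sup_eq_right.2 hQM] at hBs
      refine ⟨C.M, H759.isNormal_of_abelian hS hF hBs ?_, isCentric_of_stronglyClosed hBs ?_⟩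
      · rw [Subgroup.commutator_eq_bot_iff_le_centralizer]
        intro a ha
        rw [Subgroup.mem_centralizer_iff]
        intro b hb
        exact C.M_comm hb ha
      · intro y hy
        have h1 := mem_centralizerIn.1 hy
        exact ⟨h1.1, C.t_eq_zero_of_comm h2 (hQM hxQ) hxZ h1.1 (h1.2 x (hQM hxQ))⟩

end odd

end Cfsg.Agent.H780
end

-- part: H454/AlperinGL3
section
/-!
# Fusion in the upper unitriangular group of a group `SL₃(K) ≤ G ≤ GL₃(K)` (task S5260-E)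

`GD Δ` is the group of invertible 3 x 3 matrices with determinant in `Δ`, `T` the upper unitriangular group,
`M`, `M'` the two abelian subgroups of `T` (unipotent radicals of the maximal parabolics).

* `alperin_gl3` : fusion in `T` is generated by the normalisers of `T`, `M`, `M'`;
* `mem_normalizer_M_iff`, `conj_M`, `det_M`, `exists_M` : the normaliser of `M` and its action on `M`;
* `mem_normalizer_M'_iff`, `conj_M'`, `det_M'`, `exists_M'` : the same for `M'`.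
-/

set_option autoImplicit false

namespace Cfsg.Agent.H454.AlperinGL3

open Matrix
open scoped MatrixGroups

variable {K : Type*} [Field K]

/-- The matrices with determinant in `Δ`. -/
abbrev GD (Δ : Subgroup Kˣ) : Subgroup (GL (Fin 3) K) :=
  Δ.comap (Matrix.GeneralLinearGroup.det : GL (Fin 3) K →* Kˣ)

/-- The entries below the diagonal vanish. -/
def Up (x : Matrix (Fin 3) (Fin 3) K) : Prop := x 1 0 = 0 ∧ x 2 0 = 0 ∧ x 2 1 = 0

theorem up_iff (g : GL (Fin 3) K) : g ∈ Cfsg.upperTriangularGL 3 K ↔ Up g.1 := by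
  constructor
  · intro h
    exact ⟨h (by decide : (0 : Fin 3) < 1), h (by decide : (0 : Fin 3) < 2), h (by decide : (1 : Fin 3) < 2)⟩
  · rintro ⟨h1, h2, h3⟩ i j hij
    fin_cases i <;> fin_cases j <;> first | exact h1 | exact h2 | exact h3 | exact absurd hij (by decide)

theorem Up.mul {g h : GL (Fin 3) K} (hg : Up g.1) (hh : Up h.1) : Up (g * h).1 :=
  (up_iff _).1 (mul_mem ((up_iff _).2 hg) ((up_iff _).2 hh))

theorem Up.inv {g : GL (Fin 3) K} (hg : Up g.1) : Up (g⁻¹).1 :=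
  (up_iff _).1 (inv_mem ((up_iff _).2 hg))

theorem fin3 {p : Fin 3 → Prop} (h0 : p 0) (h1 : p 1) (h2 : p 2) : ∀ i, p i := by
  intro i
  fin_cases i
  exacts [h0, h1, h2]

theorem mul_entry (g h : GL (Fin 3) K) (i j : Fin 3) :
    (g * h).1 i j = g.1 i 0 * h.1 0 j + g.1 i 1 * h.1 1 j + g.1 i 2 * h.1 2 j := by
  show (g.1 * h.1) i j = _
  rw [Matrix.mul_apply, Fin.sum_univ_three]

theorem one_entry (i j : Fin 3) : ((1 : GL (Fin 3) K)).1 i j = if i = j then 1 else 0 := by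
  show (1 : Matrix (Fin 3) (Fin 3) K) i j = _
  rw [Matrix.one_apply]

theorem Up.mul_diag {g h : GL (Fin 3) K} (hg : Up g.1) (hh : Up h.1) (i : Fin 3) :
    (g * h).1 i i = g.1 i i * h.1 i i := by
  obtain ⟨h1, h2, h3⟩ := hg
  obtain ⟨k1, k2, k3⟩ := hh
  rw [mul_entry]
  fin_cases i
  · show g.1 0 0 * h.1 0 0 + g.1 0 1 * h.1 1 0 + g.1 0 2 * h.1 2 0 = g.1 0 0 * h.1 0 0
    rw [k1, k2]; ring
  · show g.1 1 0 * h.1 0 1 + g.1 1 1 * h.1 1 1 + g.1 1 2 * h.1 2 1 = g.1 1 1 * h.1 1 1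
    rw [h1, k3]; ring
  · show g.1 2 0 * h.1 0 2 + g.1 2 1 * h.1 1 2 + g.1 2 2 * h.1 2 2 = g.1 2 2 * h.1 2 2
    rw [h2, h3]; ring

theorem Up.diag_mul_inv {g : GL (Fin 3) K} (hg : Up g.1) (i : Fin 3) : g.1 i i * (g⁻¹).1 i i = 1 := by
  rw [← hg.mul_diag hg.inv, mul_inv_cancel, one_entry, if_pos rfl]

/-- Upper unitriangular. -/
def UT (x : Matrix (Fin 3) (Fin 3) K) : Prop := Up x ∧ ∀ i, x i i = 1

theorem UT.mul {g h : GL (Fin 3) K} (hg : UT g.1) (hh : UT h.1) : UT (g * h).1 :=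
  ⟨hg.1.mul hh.1, fun i => by rw [hg.1.mul_diag hh.1, hg.2, hh.2, one_mul]⟩

theorem UT.inv {g : GL (Fin 3) K} (hg : UT g.1) : UT (g⁻¹).1 :=
  ⟨hg.1.inv, fun i => by have := hg.1.diag_mul_inv i; rwa [hg.2, one_mul] at this⟩

theorem UT.one : UT ((1 : GL (Fin 3) K)).1 :=
  ⟨(up_iff _).1 (one_mem _), fun i => by rw [one_entry, if_pos rfl]⟩

/-- `b x b⁻¹` is unitriangular if `b` is triangular, `x` unitriangular. -/
theorem UT.conj {b x : GL (Fin 3) K} (hb : Up b.1) (hx : UT x.1) : UT (b * x * b⁻¹).1 := by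
  refine ⟨(hb.mul hx.1).mul hb.inv, fun i => ?_⟩
  rw [(hb.mul hx.1).mul_diag hb.inv, hb.mul_diag hx.1, hx.2, mul_one, hb.diag_mul_inv]

variable (Δ : Subgroup Kˣ)

/-- The upper unitriangular matrices. -/
def T : Subgroup (GD Δ) where
  carrier := {x | UT x.1.1}
  mul_mem' := fun {_ _} ha hb => UT.mul ha hb
  one_mem' := UT.one
  inv_mem' := fun {_} ha => UT.inv ha

/-- The unitriangular matrices with `x 0 1 = 0`. -/
def M : Subgroup (GD Δ) where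
  carrier := {x | UT x.1.1 ∧ x.1.1 0 1 = 0}
  mul_mem' := by
    rintro a b ⟨ha, ha'⟩ ⟨hb, hb'⟩
    refine ⟨ha.mul hb, ?_⟩
    show (a.1 * b.1).1 0 1 = 0
    rw [mul_entry, ha', hb', hb.1.2.2]
    ring
  one_mem' := ⟨UT.one, by show ((1 : GL (Fin 3) K)).1 0 1 = 0; rw [one_entry, if_neg (by decide)]⟩
  inv_mem' := by
    rintro a ⟨ha, ha'⟩
    refine ⟨ha.inv, ?_⟩
    have h := mul_entry a.1 a.1⁻¹ 0 1
    rw [mul_inv_cancel, one_entry, if_neg (by decide), ha', ha.2, ha.inv.1.2.2] at h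
    show (a.1⁻¹).1 0 1 = 0
    linear_combination -h

/-- The unitriangular matrices with `x 1 2 = 0`. -/
def M' : Subgroup (GD Δ) where
  carrier := {x | UT x.1.1 ∧ x.1.1 1 2 = 0}
  mul_mem' := by
    rintro a b ⟨ha, ha'⟩ ⟨hb, hb'⟩
    refine ⟨ha.mul hb, ?_⟩
    show (a.1 * b.1).1 1 2 = 0
    rw [mul_entry, ha', hb', ha.1.1]
    ring
  one_mem' := ⟨UT.one, by show ((1 : GL (Fin 3) K)).1 1 2 = 0; rw [one_entry, if_neg (by decide)]⟩
  inv_mem' := by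
    rintro a ⟨ha, ha'⟩
    refine ⟨ha.inv, ?_⟩
    have h := mul_entry a.1 a.1⁻¹ 1 2
    rw [mul_inv_cancel, one_entry, if_neg (by decide), ha', ha.2, ha.1.1] at h
    show (a.1⁻¹).1 1 2 = 0
    linear_combination -h

variable {Δ}

theorem mem_T {x : GD Δ} : x ∈ T Δ ↔ UT x.1.1 := Iff.rfl
theorem mem_M {x : GD Δ} : x ∈ M Δ ↔ UT x.1.1 ∧ x.1.1 0 1 = 0 := Iff.rfl
theorem mem_M' {x : GD Δ} : x ∈ M' Δ ↔ UT x.1.1 ∧ x.1.1 1 2 = 0 := Iff.rfl

theorem M_le_T : M Δ ≤ T Δ := fun _ h => h.1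
theorem M'_le_T : M' Δ ≤ T Δ := fun _ h => h.1

/-- Triangular matrices normalise `T`. -/
theorem up_mem_normalizer {b : GD Δ} (hb : Up b.1.1) : b ∈ Subgroup.normalizer (T Δ : Set (GD Δ)) := by
  rw [Subgroup.mem_normalizer_iff]
  intro x
  constructor
  · intro hx
    exact UT.conj hb hx
  · intro hx
    have h := UT.conj (b := b.1⁻¹) hb.inv (x := (b * x * b⁻¹).1) hx
    have e : b.1⁻¹ * (b * x * b⁻¹).1 * b.1⁻¹⁻¹ = x.1 := by
      show b.1⁻¹ * (b.1 * x.1 * b.1⁻¹) * b.1⁻¹⁻¹ = x.1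
      group
    rw [e] at h
    exact h

/-! ### The normaliser of `M` -/

/-- the entries of `g x g⁻¹` for `x ∈ M` -/
theorem conj_entry_M {x : GL (Fin 3) K} (hx : UT x.1) (h01 : x.1 0 1 = 0) (g : GL (Fin 3) K) (i j : Fin 3) :
    (g * x * g⁻¹).1 i j = (if i = j then 1 else 0) +
      (g.1 i 0 * x.1 0 2 + g.1 i 1 * x.1 1 2) * (g⁻¹).1 2 j := by
  obtain ⟨⟨h1, h2, h3⟩, hd⟩ := hx
  have e := mul_entry g g⁻¹ i j
  rw [mul_inv_cancel, one_entry] at e
  rw [mul_entry, mul_entry, mul_entry, mul_entry, h1, h2, h3, hd, hd, hd, h01, e]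
  ring

/-- the entries of `g x g⁻¹` for `x ∈ M'` -/
theorem conj_entry_M' {x : GL (Fin 3) K} (hx : UT x.1) (h12 : x.1 1 2 = 0) (g : GL (Fin 3) K) (i j : Fin 3) :
    (g * x * g⁻¹).1 i j = (if i = j then 1 else 0) +
      g.1 i 0 * (x.1 0 1 * (g⁻¹).1 1 j + x.1 0 2 * (g⁻¹).1 2 j) := by
  obtain ⟨⟨h1, h2, h3⟩, hd⟩ := hx
  have e := mul_entry g g⁻¹ i j
  rw [mul_inv_cancel, one_entry] at e
  rw [mul_entry, mul_entry, mul_entry, mul_entry, h1, h2, h3, hd, hd, hd, h12, e]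
  ring

theorem row_inv {g : GL (Fin 3) K} (h0 : g.1 2 0 = 0) (h1 : g.1 2 1 = 0) :
    (g⁻¹).1 2 0 = 0 ∧ (g⁻¹).1 2 1 = 0 ∧ g.1 2 2 * (g⁻¹).1 2 2 = 1 := by
  have e0 := mul_entry g g⁻¹ 2 0
  have e1 := mul_entry g g⁻¹ 2 1
  have e2 := mul_entry g g⁻¹ 2 2
  rw [mul_inv_cancel, one_entry, if_neg (by decide), h0, h1] at e0 e1
  rw [mul_inv_cancel, one_entry, if_pos rfl, h0, h1] at e2
  have h2 : g.1 2 2 ≠ 0 := by
    rintro h
    rw [h] at e2
    simp at e2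
  refine ⟨?_, ?_, by linear_combination -e2⟩
  · have : g.1 2 2 * (g⁻¹).1 2 0 = 0 := by linear_combination -e0
    exact (mul_eq_zero.1 this).resolve_left h2
  · have : g.1 2 2 * (g⁻¹).1 2 1 = 0 := by linear_combination -e1
    exact (mul_eq_zero.1 this).resolve_left h2

theorem col_inv {g : GL (Fin 3) K} (h0 : g.1 1 0 = 0) (h1 : g.1 2 0 = 0) :
    (g⁻¹).1 1 0 = 0 ∧ (g⁻¹).1 2 0 = 0 ∧ (g⁻¹).1 0 0 * g.1 0 0 = 1 := by
  have e0 := mul_entry g⁻¹ g 0 0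
  have e1 := mul_entry g⁻¹ g 1 0
  have e2 := mul_entry g⁻¹ g 2 0
  rw [inv_mul_cancel, one_entry, if_neg (by decide), h0, h1] at e1 e2
  rw [inv_mul_cancel, one_entry, if_pos rfl, h0, h1] at e0
  have h2 : g.1 0 0 ≠ 0 := by
    rintro h
    rw [h] at e0
    simp at e0
  refine ⟨?_, ?_, by linear_combination -e0⟩
  · have : (g⁻¹).1 1 0 * g.1 0 0 = 0 := by linear_combination -e1
    exact (mul_eq_zero.1 this).resolve_right h2
  · have : (g⁻¹).1 2 0 * g.1 0 0 = 0 := by linear_combination -e2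
    exact (mul_eq_zero.1 this).resolve_right h2

theorem conj_mem_M {g x : GD Δ} (h0 : g.1.1 2 0 = 0) (h1 : g.1.1 2 1 = 0) (hx : x ∈ M Δ) :
    g * x * g⁻¹ ∈ M Δ := by
  obtain ⟨r0, r1, r2⟩ := row_inv h0 h1
  have e := conj_entry_M hx.1 hx.2 g.1
  have e' : ∀ i j, (g * x * g⁻¹ : GD Δ).1.1 i j = (if i = j then 1 else 0) +
      (g.1.1 i 0 * x.1.1 0 2 + g.1.1 i 1 * x.1.1 1 2) * (g.1⁻¹).1 2 j := e
  refine ⟨⟨⟨?_, ?_, ?_⟩, ?_⟩, ?_⟩
  · rw [e', if_neg (by decide), r0]; ring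
  · rw [e', if_neg (by decide), r0]; ring
  · rw [e', if_neg (by decide), r1]; ring
  · intro i
    rw [e', if_pos rfl]
    fin_cases i
    · show 1 + _ * (g.1⁻¹).1 2 0 = 1
      rw [r0]; ring
    · show 1 + _ * (g.1⁻¹).1 2 1 = 1
      rw [r1]; ring
    · show 1 + (g.1.1 2 0 * x.1.1 0 2 + g.1.1 2 1 * x.1.1 1 2) * _ = 1
      rw [h0, h1]; ring
  · rw [e', if_neg (by decide), r1]; ring

theorem conj_mem_M' {g x : GD Δ} (h0 : g.1.1 1 0 = 0) (h1 : g.1.1 2 0 = 0) (hx : x ∈ M' Δ) :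
    g * x * g⁻¹ ∈ M' Δ := by
  obtain ⟨r0, r1, r2⟩ := col_inv h0 h1
  have e := conj_entry_M' hx.1 hx.2 g.1
  have e' : ∀ i j, (g * x * g⁻¹ : GD Δ).1.1 i j = (if i = j then 1 else 0) +
      g.1.1 i 0 * (x.1.1 0 1 * (g.1⁻¹).1 1 j + x.1.1 0 2 * (g.1⁻¹).1 2 j) := e
  refine ⟨⟨⟨?_, ?_, ?_⟩, ?_⟩, ?_⟩
  · rw [e', if_neg (by decide), h0]; ring
  · rw [e', if_neg (by decide), h1]; ring
  · rw [e', if_neg (by decide), h1]; ring
  · intro i
    rw [e', if_pos rfl]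
    fin_cases i
    · show 1 + _ * (_ * (g.1⁻¹).1 1 0 + _ * (g.1⁻¹).1 2 0) = 1
      rw [r0, r1]; ring
    · show 1 + g.1.1 1 0 * _ = 1
      rw [h0]; ring
    · show 1 + g.1.1 2 0 * _ = 1
      rw [h1]; ring
  · rw [e', if_neg (by decide), h0]; ring

/-- The matrix with columns; an element of `GD Δ` from a matrix with determinant in `Δ`. -/
noncomputable def mk (A : Matrix (Fin 3) (Fin 3) K) (δ : Kˣ) (hA : A.det = δ) (hδ : δ ∈ Δ) : GD Δ :=
  ⟨Matrix.GeneralLinearGroup.mkOfDetNeZero A (by rw [hA]; exact δ.ne_zero), by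
    rw [Subgroup.mem_comap]
    have : Matrix.GeneralLinearGroup.det (Matrix.GeneralLinearGroup.mkOfDetNeZero A (by rw [hA]; exact δ.ne_zero)) = δ := by
      apply Units.ext
      rw [Matrix.GeneralLinearGroup.val_det_apply]
      exact hA
    rw [this]
    exact hδ⟩

theorem mk_val (A : Matrix (Fin 3) (Fin 3) K) (δ : Kˣ) (hA : A.det = δ) (hδ : δ ∈ Δ) :
    (mk (Δ := Δ) A δ hA hδ).1.1 = A := rfl

/-- The elementary matrices `x(a,b,c)`. -/
noncomputable def xx (Δ : Subgroup Kˣ) (a b c : K) : GD Δ :=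
  mk !![1, a, c; 0, 1, b; 0, 0, 1] 1 (by simp [Matrix.det_fin_three]) (one_mem _)

theorem xx_val (a b c : K) : (xx Δ a b c).1.1 = !![1, a, c; 0, 1, b; 0, 0, 1] := rfl

theorem xx_mem (a b c : K) : xx Δ a b c ∈ T Δ := by
  refine ⟨⟨?_, ?_, ?_⟩, fun i => ?_⟩
  · rw [xx_val]; simp
  · rw [xx_val]; simp
  · rw [xx_val]; simp
  · rw [xx_val]; fin_cases i <;> simp

theorem mem_normalizer_M_iff {g : GD Δ} :
    g ∈ Subgroup.normalizer (M Δ : Set (GD Δ)) ↔ g.1.1 2 0 = 0 ∧ g.1.1 2 1 = 0 := by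
  constructor
  · intro hg
    rw [Subgroup.mem_normalizer_iff] at hg
    have hx : xx Δ 0 0 1 ∈ M Δ := ⟨xx_mem 0 0 1, by rw [xx_val]; simp⟩
    have h := (hg _).1 hx
    have e : ∀ i j, (g * xx Δ 0 0 1 * g⁻¹ : GD Δ).1.1 i j = (if i = j then 1 else 0) +
      (g.1.1 i 0 * 1 + g.1.1 i 1 * 0) * (g.1⁻¹).1 2 j := fun i j => by
      have := conj_entry_M hx.1 hx.2 g.1 i j
      rw [xx_val] at this
      simpa using this
    have k0 : ∀ i, g.1.1 i 0 * (g.1⁻¹).1 2 0 = 0 := by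
      refine fin3 ?_ ?_ ?_
      · have h' := e 0 0
        rw [h.1.2, if_pos rfl] at h'
        linear_combination -h'
      · have h' := e 1 0
        rw [h.1.1.1, if_neg (by decide)] at h'
        linear_combination -h'
      · have h' := e 2 0
        rw [h.1.1.2.1, if_neg (by decide)] at h'
        linear_combination -h'
    have k1 : ∀ i, g.1.1 i 0 * (g.1⁻¹).1 2 1 = 0 := by
      refine fin3 ?_ ?_ ?_
      · have h' := e 0 1
        rw [h.2, if_neg (by decide)] at h'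
        linear_combination -h'
      · have h' := e 1 1
        rw [h.1.2, if_pos rfl] at h'
        linear_combination -h'
      · have h' := e 2 1
        rw [h.1.1.2.2, if_neg (by decide)] at h'
        linear_combination -h'
    have e0 := mul_entry g.1⁻¹ g.1 0 0
    rw [inv_mul_cancel, one_entry, if_pos rfl] at e0
    have m0 : (g.1⁻¹).1 2 0 = 0 := by
      linear_combination (g.1⁻¹).1 2 0 * e0 + (g.1⁻¹).1 0 0 * k0 0 + (g.1⁻¹).1 0 1 * k0 1 + (g.1⁻¹).1 0 2 * k0 2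
    have m1 : (g.1⁻¹).1 2 1 = 0 := by
      linear_combination (g.1⁻¹).1 2 1 * e0 + (g.1⁻¹).1 0 0 * k1 0 + (g.1⁻¹).1 0 1 * k1 1 + (g.1⁻¹).1 0 2 * k1 2
    have := row_inv m0 m1
    rw [inv_inv] at this
    exact ⟨this.1, this.2.1⟩
  · rintro ⟨h0, h1⟩
    rw [Subgroup.mem_normalizer_iff]
    intro x
    constructor
    · exact conj_mem_M h0 h1
    · intro hx
      obtain ⟨r0, r1, -⟩ := row_inv h0 h1
      have := conj_mem_M (g := g⁻¹) r0 r1 hx
      have e : g⁻¹ * (g * x * g⁻¹) * g⁻¹⁻¹ = x := by group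
      rwa [e] at this

theorem mem_normalizer_M'_iff {g : GD Δ} :
    g ∈ Subgroup.normalizer (M' Δ : Set (GD Δ)) ↔ g.1.1 1 0 = 0 ∧ g.1.1 2 0 = 0 := by
  constructor
  · intro hg
    rw [Subgroup.mem_normalizer_iff] at hg
    have hx : xx Δ 0 0 1 ∈ M' Δ := ⟨xx_mem 0 0 1, by rw [xx_val]; simp⟩
    have h := (hg _).1 hx
    have e : ∀ i j, (g * xx Δ 0 0 1 * g⁻¹ : GD Δ).1.1 i j = (if i = j then 1 else 0) +
      g.1.1 i 0 * (0 * (g.1⁻¹).1 1 j + 1 * (g.1⁻¹).1 2 j) := fun i j => by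
      have := conj_entry_M' hx.1 hx.2 g.1 i j
      rw [xx_val] at this
      simpa using this
    have k1 : ∀ j, g.1.1 1 0 * (g.1⁻¹).1 2 j = 0 := by
      refine fin3 ?_ ?_ ?_
      · have h' := e 1 0
        rw [h.1.1.1, if_neg (by decide)] at h'
        linear_combination -h'
      · have h' := e 1 1
        rw [h.1.2, if_pos rfl] at h'
        linear_combination -h'
      · have h' := e 1 2
        rw [h.2, if_neg (by decide)] at h'
        linear_combination -h'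
    have k2 : ∀ j, g.1.1 2 0 * (g.1⁻¹).1 2 j = 0 := by
      refine fin3 ?_ ?_ ?_
      · have h' := e 2 0
        rw [h.1.1.2.1, if_neg (by decide)] at h'
        linear_combination -h'
      · have h' := e 2 1
        rw [h.1.1.2.2, if_neg (by decide)] at h'
        linear_combination -h'
      · have h' := e 2 2
        rw [h.1.2, if_pos rfl] at h'
        linear_combination -h'
    have e0 := mul_entry g.1⁻¹ g.1 2 2
    rw [inv_mul_cancel, one_entry, if_pos rfl] at e0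
    constructor
    · linear_combination g.1.1 1 0 * e0 + g.1.1 0 2 * k1 0 + g.1.1 1 2 * k1 1 + g.1.1 2 2 * k1 2
    · linear_combination g.1.1 2 0 * e0 + g.1.1 0 2 * k2 0 + g.1.1 1 2 * k2 1 + g.1.1 2 2 * k2 2
  · rintro ⟨h0, h1⟩
    rw [Subgroup.mem_normalizer_iff]
    intro x
    constructor
    · exact conj_mem_M' h0 h1
    · intro hx
      obtain ⟨r0, r1, -⟩ := col_inv h0 h1
      have := conj_mem_M' (g := g⁻¹) r0 r1 hx
      have e : g⁻¹ * (g * x * g⁻¹) * g⁻¹⁻¹ = x := by group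
      rwa [e] at this

theorem det_entries (g : GL (Fin 3) K) : ((Matrix.GeneralLinearGroup.det g : Kˣ) : K) =
    g.1 0 0 * g.1 1 1 * g.1 2 2 - g.1 0 0 * g.1 1 2 * g.1 2 1 - g.1 0 1 * g.1 1 0 * g.1 2 2 +
      g.1 0 1 * g.1 1 2 * g.1 2 0 + g.1 0 2 * g.1 1 0 * g.1 2 1 - g.1 0 2 * g.1 1 1 * g.1 2 0 := by
  rw [Matrix.GeneralLinearGroup.val_det_apply]
  exact Matrix.det_fin_three _

/-- The action of `N(M)` on `M` (columns). -/
theorem conj_M {g : GD Δ} (hg : g ∈ Subgroup.normalizer (M Δ : Set (GD Δ))) :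
    ∃ A : Matrix (Fin 2) (Fin 2) K,
      A = (g.1.1 2 2)⁻¹ • !![g.1.1 0 0, g.1.1 0 1; g.1.1 1 0, g.1.1 1 1] ∧ g.1.1 2 2 ≠ 0 ∧
      A.det * (g.1.1 2 2) ^ 3 = ((Matrix.GeneralLinearGroup.det g.1 : Kˣ) : K) ∧
      ∀ x ∈ M Δ, ![(g * x * g⁻¹).1.1 0 2, (g * x * g⁻¹).1.1 1 2] = A *ᵥ ![x.1.1 0 2, x.1.1 1 2] := by
  obtain ⟨h0, h1⟩ := mem_normalizer_M_iff.1 hg
  obtain ⟨r0, r1, r2⟩ := row_inv h0 h1
  have h2 : g.1.1 2 2 ≠ 0 := by
    intro h
    rw [h] at r2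
    simp at r2
  have e3 : (g.1⁻¹).1 2 2 = (g.1.1 2 2)⁻¹ := by
    exact eq_inv_of_mul_eq_one_left (by linear_combination r2)
  refine ⟨_, rfl, h2, ?_, fun x hx => ?_⟩
  · rw [det_entries, h0, h1, Matrix.det_smul, Matrix.det_fin_two]
    simp only [Matrix.of_apply, Matrix.cons_val', Matrix.cons_val_zero, Matrix.cons_val_one, Matrix.empty_val',
      Matrix.cons_val_fin_one, Fintype.card_fin]
    field_simp
    ring
  · have e := conj_entry_M hx.1 hx.2 g.1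
    have e0 : (g * x * g⁻¹).1.1 0 2 = _ := e 0 2
    have e1 : (g * x * g⁻¹).1.1 1 2 = _ := e 1 2
    rw [e0, e1, e3, if_neg (by decide), if_neg (by decide)]
    ext i
    fin_cases i
    · simp [Matrix.mulVec, dotProduct, Fin.sum_univ_two]
      ring
    · simp [Matrix.mulVec, dotProduct, Fin.sum_univ_two]
      ring

/-- Every matrix which can occur does occur. -/
theorem exists_M (A : Matrix (Fin 2) (Fin 2) K) (d δ : Kˣ) (hδ : δ ∈ Δ) (h : A.det * (d : K) ^ 3 = δ) :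
    ∃ g ∈ Subgroup.normalizer (M Δ : Set (GD Δ)), g.1.1 2 2 = d ∧
      ∀ x ∈ M Δ, ![(g * x * g⁻¹).1.1 0 2, (g * x * g⁻¹).1.1 1 2] = A *ᵥ ![x.1.1 0 2, x.1.1 1 2] := by
  obtain ⟨g, hgv⟩ : ∃ g : GD Δ, g.1.1 = !![d * A 0 0, d * A 0 1, 0; d * A 1 0, d * A 1 1, 0; 0, 0, (d : K)] :=
    ⟨mk _ δ (by
      rw [← h, Matrix.det_fin_three, Matrix.det_fin_two]
      simp
      ring) hδ, rfl⟩
  have hg : g ∈ Subgroup.normalizer (M Δ : Set (GD Δ)) := by
    rw [mem_normalizer_M_iff, hgv]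
    simp
  obtain ⟨B, hB, h2, -, hB'⟩ := conj_M hg
  have e : B = A := by
    rw [hB, hgv]
    have hd : (d : K) ≠ 0 := d.ne_zero
    ext i j
    fin_cases i <;> fin_cases j <;> simp [hd]
  refine ⟨g, hg, by rw [hgv]; simp, ?_⟩
  rwa [e] at hB'

/-- The action of `N(M')` on `M'` (rows). -/
theorem conj_M' {g : GD Δ} (hg : g ∈ Subgroup.normalizer (M' Δ : Set (GD Δ))) :
    ∃ A : Matrix (Fin 2) (Fin 2) K,
      A = g.1.1 0 0 • !![(g.1⁻¹).1 1 1, (g.1⁻¹).1 1 2; (g.1⁻¹).1 2 1, (g.1⁻¹).1 2 2] ∧ g.1.1 0 0 ≠ 0 ∧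
      A.det * ((Matrix.GeneralLinearGroup.det g.1 : Kˣ) : K) = (g.1.1 0 0) ^ 3 ∧
      ∀ x ∈ M' Δ, ![(g * x * g⁻¹).1.1 0 1, (g * x * g⁻¹).1.1 0 2] = ![x.1.1 0 1, x.1.1 0 2] ᵥ* A := by
  obtain ⟨h0, h1⟩ := mem_normalizer_M'_iff.1 hg
  obtain ⟨r0, r1, r2⟩ := col_inv h0 h1
  have h2 : g.1.1 0 0 ≠ 0 := by
    intro h
    rw [h] at r2
    simp at r2
  refine ⟨_, rfl, h2, ?_, fun x hx => ?_⟩
  · have e1 := det_entries g.1⁻¹
    rw [r0, r1] at e1
    have e2 : ((Matrix.GeneralLinearGroup.det g.1⁻¹ : Kˣ) : K) * ((Matrix.GeneralLinearGroup.det g.1 : Kˣ) : K) = 1 := by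
      rw [← Units.val_mul, ← map_mul, inv_mul_cancel, map_one, Units.val_one]
    rw [Matrix.det_smul, Matrix.det_fin_two]
    simp only [Matrix.of_apply, Matrix.cons_val', Matrix.cons_val_zero, Matrix.cons_val_one, Matrix.empty_val',
      Matrix.cons_val_fin_one, Fintype.card_fin]
    rw [e1] at e2
    linear_combination (g.1.1 0 0) ^ 3 * e2 - ((g.1⁻¹).1 1 1 * (g.1⁻¹).1 2 2 - (g.1⁻¹).1 1 2 * (g.1⁻¹).1 2 1) *
      ((Matrix.GeneralLinearGroup.det g.1 : Kˣ) : K) * (g.1.1 0 0) ^ 2 * r2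
  · have e := conj_entry_M' hx.1 hx.2 g.1
    have e0 : (g * x * g⁻¹).1.1 0 1 = _ := e 0 1
    have e1 : (g * x * g⁻¹).1.1 0 2 = _ := e 0 2
    rw [e0, e1, if_neg (by decide), if_neg (by decide)]
    ext i
    fin_cases i
    · simp [Matrix.vecMul, dotProduct, Fin.sum_univ_two]
      ring
    · simp [Matrix.vecMul, dotProduct, Fin.sum_univ_two]
      ring

/-- Every matrix which can occur does occur. -/
theorem exists_M' (A : Matrix (Fin 2) (Fin 2) K) (d δ : Kˣ) (hδ : δ ∈ Δ) (h : A.det * (δ : K) = (d : K) ^ 3) :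
    ∃ g ∈ Subgroup.normalizer (M' Δ : Set (GD Δ)), g.1.1 0 0 = d ∧
      ∀ x ∈ M' Δ, ![(g * x * g⁻¹).1.1 0 1, (g * x * g⁻¹).1.1 0 2] = ![x.1.1 0 1, x.1.1 0 2] ᵥ* A := by
  have hd : (d : K) ≠ 0 := d.ne_zero
  have hd' : (δ : K) ≠ 0 := δ.ne_zero
  obtain ⟨g, hgv⟩ : ∃ g : GD Δ, g.1.1 = !![(d : K)⁻¹, 0, 0; 0, (d : K)⁻¹ * A 0 0, (d : K)⁻¹ * A 0 1;
      0, (d : K)⁻¹ * A 1 0, (d : K)⁻¹ * A 1 1] :=
    ⟨mk _ δ⁻¹ (by
      rw [Units.val_inv_eq_inv_val, Matrix.det_fin_three]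
      rw [Matrix.det_fin_two] at h
      simp
      field_simp
      linear_combination h) (inv_mem hδ), rfl⟩
  have hg0 : g ∈ Subgroup.normalizer (M' Δ : Set (GD Δ)) := by
    rw [mem_normalizer_M'_iff, hgv]
    simp
  have hg := inv_mem hg0
  obtain ⟨B, hB, h2, -, hB'⟩ := conj_M' hg
  obtain ⟨h0, h1⟩ := mem_normalizer_M'_iff.1 hg0
  obtain ⟨r0, r1, r2⟩ := col_inv h0 h1
  have e00 : (g.1⁻¹).1 0 0 = d := by
    have e1 : g.1.1 0 0 = (d : K)⁻¹ := by rw [hgv]; rfl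
    rw [e1] at r2
    calc (g.1⁻¹).1 0 0 = (g.1⁻¹).1 0 0 * (d : K)⁻¹ * d := by field_simp
      _ = d := by rw [r2, one_mul]
  have e : B = A := by
    rw [hB]
    have e1 : (g⁻¹ : GD Δ).1⁻¹ = g.1 := by
      show g.1⁻¹⁻¹ = g.1
      rw [inv_inv]
    rw [e1, hgv]
    have e2 : (g⁻¹ : GD Δ).1.1 0 0 = d := e00
    rw [e2]
    ext i j
    fin_cases i <;> fin_cases j <;> simp [hd]
  refine ⟨g⁻¹, hg, e00, ?_⟩
  rwa [e] at hB'

/-! ### Fusion -/

/-- A simple reflection of determinant one. -/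
noncomputable def s1 (Δ : Subgroup Kˣ) : GD Δ :=
  ⟨⟨!![0, 1, 0; -1, 0, 0; 0, 0, 1], !![0, -1, 0; 1, 0, 0; 0, 0, 1],
    by ext i j; fin_cases i <;> fin_cases j <;> simp [Matrix.mul_apply, Fin.sum_univ_three],
    by ext i j; fin_cases i <;> fin_cases j <;> simp [Matrix.mul_apply, Fin.sum_univ_three]⟩, by
    rw [Subgroup.mem_comap]
    have e : Matrix.GeneralLinearGroup.det (⟨!![0, 1, 0; -1, 0, 0; 0, 0, 1], !![0, -1, 0; 1, 0, 0; 0, 0, 1],
      by ext i j; fin_cases i <;> fin_cases j <;> simp [Matrix.mul_apply, Fin.sum_univ_three],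
      by ext i j; fin_cases i <;> fin_cases j <;> simp [Matrix.mul_apply, Fin.sum_univ_three]⟩ : GL (Fin 3) K) = 1 := by
      apply Units.ext
      rw [Matrix.GeneralLinearGroup.val_det_apply]
      simp [Matrix.det_fin_three]
    rw [e]
    exact one_mem _⟩

/-- A simple reflection of determinant one. -/
noncomputable def s2 (Δ : Subgroup Kˣ) : GD Δ :=
  ⟨⟨!![1, 0, 0; 0, 0, 1; 0, -1, 0], !![1, 0, 0; 0, 0, -1; 0, 1, 0],
    by ext i j; fin_cases i <;> fin_cases j <;> simp [Matrix.mul_apply, Fin.sum_univ_three],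
    by ext i j; fin_cases i <;> fin_cases j <;> simp [Matrix.mul_apply, Fin.sum_univ_three]⟩, by
    rw [Subgroup.mem_comap]
    have e : Matrix.GeneralLinearGroup.det (⟨!![1, 0, 0; 0, 0, 1; 0, -1, 0], !![1, 0, 0; 0, 0, -1; 0, 1, 0],
      by ext i j; fin_cases i <;> fin_cases j <;> simp [Matrix.mul_apply, Fin.sum_univ_three],
      by ext i j; fin_cases i <;> fin_cases j <;> simp [Matrix.mul_apply, Fin.sum_univ_three]⟩ : GL (Fin 3) K) = 1 := by
      apply Units.ext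
      rw [Matrix.GeneralLinearGroup.val_det_apply]
      simp [Matrix.det_fin_three]
    rw [e]
    exact one_mem _⟩

theorem s1_val : (s1 Δ).1.1 = !![0, 1, 0; -1, 0, 0; 0, 0, 1] := rfl
theorem s1_inv : ((s1 Δ).1⁻¹).1 = !![0, -1, 0; 1, 0, 0; 0, 0, 1] := rfl
theorem s2_val : (s2 Δ).1.1 = !![1, 0, 0; 0, 0, 1; 0, -1, 0] := rfl
theorem s2_inv : ((s2 Δ).1⁻¹).1 = !![1, 0, 0; 0, 0, -1; 0, 1, 0] := rfl

theorem s1_mem : s1 Δ ∈ Subgroup.normalizer (M Δ : Set (GD Δ)) := by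
  rw [mem_normalizer_M_iff, s1_val]
  simp

theorem s2_mem : s2 Δ ∈ Subgroup.normalizer (M' Δ : Set (GD Δ)) := by
  rw [mem_normalizer_M'_iff, s2_val]
  simp

theorem conj_s1 (x : GL (Fin 3) K) : ((s1 Δ).1⁻¹ * x * (s1 Δ).1).1 =
    !![x.1 1 1, -x.1 1 0, -x.1 1 2; -x.1 0 1, x.1 0 0, x.1 0 2; -x.1 2 1, x.1 2 0, x.1 2 2] := by
  show ((s1 Δ).1⁻¹).1 * x.1 * (s1 Δ).1.1 = _
  rw [s1_val, s1_inv]
  ext i j
  fin_cases i <;> fin_cases j <;> simp [Matrix.vecMul, dotProduct, Matrix.mul_apply, Fin.sum_univ_three]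

theorem conj_s2 (x : GL (Fin 3) K) : ((s2 Δ).1⁻¹ * x * (s2 Δ).1).1 =
    !![x.1 0 0, -x.1 0 2, x.1 0 1; -x.1 2 0, x.1 2 2, -x.1 2 1; x.1 1 0, -x.1 1 2, x.1 1 1] := by
  show ((s2 Δ).1⁻¹).1 * x.1 * (s2 Δ).1.1 = _
  rw [s2_val, s2_inv]
  ext i j
  fin_cases i <;> fin_cases j <;> simp [Matrix.vecMul, dotProduct, Matrix.mul_apply, Fin.sum_univ_three]

/-- The set of diagonal matrices. -/
def Dg (x : Matrix (Fin 3) (Fin 3) K) : Prop :=
  x 0 1 = 0 ∧ x 0 2 = 0 ∧ x 1 0 = 0 ∧ x 1 2 = 0 ∧ x 2 0 = 0 ∧ x 2 1 = 0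

theorem Dg.up {x : Matrix (Fin 3) (Fin 3) K} (h : Dg x) : Up x := ⟨h.2.2.1, h.2.2.2.2.1, h.2.2.2.2.2⟩

open Cfsg.Agent.H139.Bruhat in
theorem perm_one {h : GL (Fin 3) K} (hh : Dg h.1) :
    ∃ h' : GL (Fin 3) K, Dg h'.1 ∧ permGL K 3 (Equiv.swap 0 1) * h = h' * (s1 Δ).1 := by
  refine ⟨permGL K 3 (Equiv.swap 0 1) * h * (s1 Δ).1⁻¹, ?_, by group⟩
  obtain ⟨h1, h2, h3, h4, h5, h6⟩ := hh
  have e : ∀ i j, (permGL K 3 (Equiv.swap 0 1) * h * (s1 Δ).1⁻¹).1 i j =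
      h.1 ((Equiv.swap 0 1 : Equiv.Perm (Fin 3))⁻¹ i) 0 * ((s1 Δ).1⁻¹).1 0 j +
      h.1 ((Equiv.swap 0 1 : Equiv.Perm (Fin 3))⁻¹ i) 1 * ((s1 Δ).1⁻¹).1 1 j +
      h.1 ((Equiv.swap 0 1 : Equiv.Perm (Fin 3))⁻¹ i) 2 * ((s1 Δ).1⁻¹).1 2 j := by
    intro i j
    rw [mul_entry]
    have : ∀ k, (permGL K 3 (Equiv.swap 0 1) * h).1 i k = h.1 ((Equiv.swap 0 1 : Equiv.Perm (Fin 3))⁻¹ i) k :=
      fun k => permGL_mul_apply _ _ _ _
    rw [this, this, this]
  rw [s1_inv] at e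
  have t0 : (Equiv.swap 0 1 : Equiv.Perm (Fin 3))⁻¹ 0 = 1 := by decide
  have t1 : (Equiv.swap 0 1 : Equiv.Perm (Fin 3))⁻¹ 1 = 0 := by decide
  have t2 : (Equiv.swap 0 1 : Equiv.Perm (Fin 3))⁻¹ 2 = 2 := by decide
  refine ⟨?_, ?_, ?_, ?_, ?_, ?_⟩
  all_goals (rw [e]; simp only [t0, t1, t2, h1, h2, h3, h4, h5, h6]; simp)

open Cfsg.Agent.H139.Bruhat in
theorem perm_two {h : GL (Fin 3) K} (hh : Dg h.1) :
    ∃ h' : GL (Fin 3) K, Dg h'.1 ∧ permGL K 3 (Equiv.swap 1 2) * h = h' * (s2 Δ).1 := by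
  refine ⟨permGL K 3 (Equiv.swap 1 2) * h * (s2 Δ).1⁻¹, ?_, by group⟩
  obtain ⟨h1, h2, h3, h4, h5, h6⟩ := hh
  have e : ∀ i j, (permGL K 3 (Equiv.swap 1 2) * h * (s2 Δ).1⁻¹).1 i j =
      h.1 ((Equiv.swap 1 2 : Equiv.Perm (Fin 3))⁻¹ i) 0 * ((s2 Δ).1⁻¹).1 0 j +
      h.1 ((Equiv.swap 1 2 : Equiv.Perm (Fin 3))⁻¹ i) 1 * ((s2 Δ).1⁻¹).1 1 j +
      h.1 ((Equiv.swap 1 2 : Equiv.Perm (Fin 3))⁻¹ i) 2 * ((s2 Δ).1⁻¹).1 2 j := by
    intro i j
    rw [mul_entry]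
    have : ∀ k, (permGL K 3 (Equiv.swap 1 2) * h).1 i k = h.1 ((Equiv.swap 1 2 : Equiv.Perm (Fin 3))⁻¹ i) k :=
      fun k => permGL_mul_apply _ _ _ _
    rw [this, this, this]
  rw [s2_inv] at e
  have t0 : (Equiv.swap 1 2 : Equiv.Perm (Fin 3))⁻¹ 0 = 0 := by decide
  have t1 : (Equiv.swap 1 2 : Equiv.Perm (Fin 3))⁻¹ 1 = 2 := by decide
  have t2 : (Equiv.swap 1 2 : Equiv.Perm (Fin 3))⁻¹ 2 = 1 := by decide
  refine ⟨?_, ?_, ?_, ?_, ?_, ?_⟩
  all_goals (rw [e]; simp only [t0, t1, t2, h1, h2, h3, h4, h5, h6]; simp)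

/-- The six Weyl group representatives of determinant one. -/
def Wl (w : GD Δ) : Prop := w = 1 ∨ w = s1 Δ ∨ w = s2 Δ ∨ w = s1 Δ * s2 Δ ∨ w = s2 Δ * s1 Δ ∨ w = s1 Δ * (s2 Δ * s1 Δ)

open Cfsg.Agent.H139.Bruhat in
theorem perm_all (σ : Equiv.Perm (Fin 3)) {h : GL (Fin 3) K} (hh : Dg h.1) :
    ∃ h' : GL (Fin 3) K, Dg h'.1 ∧ ∃ w : GD Δ, Wl w ∧ permGL K 3 σ * h = h' * w.1 := by
  have hσ : ∀ σ : Equiv.Perm (Fin 3), σ = 1 ∨ σ = Equiv.swap 0 1 ∨ σ = Equiv.swap 1 2 ∨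
      σ = Equiv.swap 0 1 * Equiv.swap 1 2 ∨ σ = Equiv.swap 1 2 * Equiv.swap 0 1 ∨
      σ = Equiv.swap 0 1 * (Equiv.swap 1 2 * Equiv.swap 0 1) := by decide
  obtain ⟨a1, ha1, e1⟩ := perm_one (Δ := Δ) hh
  obtain ⟨a2, ha2, e2⟩ := perm_two (Δ := Δ) hh
  obtain ⟨b1, hb1, f1⟩ := perm_one (Δ := Δ) ha2
  obtain ⟨b2, hb2, f2⟩ := perm_two (Δ := Δ) ha1
  obtain ⟨c1, hc1, g1⟩ := perm_one (Δ := Δ) hb2
  rcases hσ σ with rfl | rfl | rfl | rfl | rfl | rfl
  · exact ⟨h, hh, 1, Or.inl rfl, by rw [map_one, one_mul]; exact (mul_one h).symm⟩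
  · exact ⟨a1, ha1, s1 Δ, Or.inr (Or.inl rfl), e1⟩
  · exact ⟨a2, ha2, s2 Δ, Or.inr (Or.inr (Or.inl rfl)), e2⟩
  · refine ⟨b1, hb1, s1 Δ * s2 Δ, Or.inr (Or.inr (Or.inr (Or.inl rfl))), ?_⟩
    rw [map_mul, mul_assoc, e2, ← mul_assoc, f1, mul_assoc]
    rfl
  · refine ⟨b2, hb2, s2 Δ * s1 Δ, Or.inr (Or.inr (Or.inr (Or.inr (Or.inl rfl)))), ?_⟩
    rw [map_mul, mul_assoc, e1, ← mul_assoc, f2, mul_assoc]
    rfl
  · refine ⟨c1, hc1, s1 Δ * (s2 Δ * s1 Δ), Or.inr (Or.inr (Or.inr (Or.inr (Or.inr rfl)))), ?_⟩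
    rw [map_mul, map_mul, mul_assoc, mul_assoc, e1, ← mul_assoc (permGL K 3 (Equiv.swap 1 2)), f2, mul_assoc b2,
      ← mul_assoc (permGL K 3 (Equiv.swap 0 1)), g1, mul_assoc]
    rfl

/-- **Bruhat decomposition** in `GD Δ`. -/
theorem bruhat (g : GD Δ) : ∃ b w v : GD Δ, Up b.1.1 ∧ Wl w ∧ v ∈ T Δ ∧ g = b * w * v := by
  obtain ⟨u, hu, σ, v, hv, e⟩ := Cfsg.Agent.H139.Bruhat.bruhat g.1
  rw [up_iff] at hu hv
  -- the diagonal part of `v`
  have hdet : (Matrix.diagonal fun i => v.1 i i).det ≠ 0 := by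
    rw [Matrix.det_diagonal]
    apply Finset.prod_ne_zero_iff.2
    intro i _ h
    have := hv.diag_mul_inv i
    rw [h, zero_mul] at this
    exact zero_ne_one this
  obtain ⟨h, hh⟩ : ∃ h : GL (Fin 3) K, h.1 = Matrix.diagonal fun i => v.1 i i :=
    ⟨Matrix.GeneralLinearGroup.mkOfDetNeZero _ hdet, rfl⟩
  have hD : Dg h.1 := by
    rw [hh]
    refine ⟨?_, ?_, ?_, ?_, ?_, ?_⟩ <;> exact Matrix.diagonal_apply_ne _ (by decide)
  have hT : UT (h⁻¹ * v).1 := by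
    refine ⟨(hD.up.inv).mul hv, fun i => ?_⟩
    rw [(hD.up.inv).mul_diag hv]
    have e1 := hD.up.diag_mul_inv i
    have e2 : h.1 i i = v.1 i i := by rw [hh, Matrix.diagonal_apply_eq]
    rw [← e2, mul_comm]
    exact e1
  obtain ⟨h', hh', w, hw, ew⟩ := perm_all (Δ := Δ) σ hD
  have hdetT : ∀ x : GL (Fin 3) K, UT x.1 → Matrix.GeneralLinearGroup.det x = 1 := by
    intro x hx
    apply Units.ext
    rw [det_entries, hx.1.1, hx.1.2.1, hx.1.2.2, hx.2, hx.2, hx.2]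
    simp
  have hvm : h⁻¹ * v ∈ GD Δ := by
    rw [Subgroup.mem_comap, hdetT _ hT]
    exact one_mem _
  have eg : g.1 = u * h' * w.1 * (h⁻¹ * v) := by
    rw [e]
    calc u * Cfsg.Agent.H139.Bruhat.permGL K 3 σ * v = u * (Cfsg.Agent.H139.Bruhat.permGL K 3 σ * h) * (h⁻¹ * v) := by group
      _ = _ := by rw [ew]; group
  have hb : u * h' ∈ GD Δ := by
    have : u * h' = g.1 * (h⁻¹ * v)⁻¹ * w.1⁻¹ := by rw [eg]; group
    rw [this]
    exact mul_mem (mul_mem g.2 (inv_mem hvm)) (inv_mem w.2)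
  exact ⟨⟨u * h', hb⟩, w, ⟨h⁻¹ * v, hvm⟩, hu.mul hh'.up, hw, hT, Subtype.ext eg⟩

section Alperin

variable {L : Subgroup (GD Δ) → GD Δ → Prop}

/-- All the `T`-fusion induced by `g` is in `L`. -/
def Good (L : Subgroup (GD Δ) → GD Δ → Prop) (g : GD Δ) : Prop :=
  ∀ P ≤ T Δ, P.map (MulAut.conj g⁻¹).toMonoidHom ≤ T Δ → L P g

theorem map_conj_mul (P : Subgroup (GD Δ)) (g g' : GD Δ) : P.map (MulAut.conj (g * g')⁻¹).toMonoidHom =
    (P.map (MulAut.conj g⁻¹).toMonoidHom).map (MulAut.conj g'⁻¹).toMonoidHom := by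
  rw [Subgroup.map_map]
  congr 1
  ext x : 1
  show (g * g')⁻¹ * x * (g * g')⁻¹⁻¹ = g'⁻¹ * (g⁻¹ * x * g⁻¹⁻¹) * g'⁻¹⁻¹
  group

theorem map_conj_le {N : Subgroup (GD Δ)} {g : GD Δ} (hg : g ∈ Subgroup.normalizer (N : Set (GD Δ))) {P : Subgroup (GD Δ)}
    (hP : P ≤ N) : P.map (MulAut.conj g⁻¹).toMonoidHom ≤ N := by
  rintro _ ⟨x, hx, rfl⟩
  have := (Subgroup.mem_normalizer_iff.1 (inv_mem hg) x).1 (hP hx)
  exact this

/-- **Fusion in the unitriangular group** is generated by the normalisers of `T`, `M`, `M'`. -/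
theorem alperin_gl3 (L : Subgroup (GD Δ) → GD Δ → Prop)
    (hmono : ∀ P P' g, P' ≤ P → L P g → L P' g)
    (hcomp : ∀ P g g', P ≤ T Δ → P.map (MulAut.conj g⁻¹).toMonoidHom ≤ T Δ →
      P.map (MulAut.conj (g * g')⁻¹).toMonoidHom ≤ T Δ → L P g → L (P.map (MulAut.conj g⁻¹).toMonoidHom) g' →
      L P (g * g'))
    (hT : ∀ g ∈ Subgroup.normalizer (T Δ : Set (GD Δ)), L (T Δ) g)
    (hM : ∀ g ∈ Subgroup.normalizer (M Δ : Set (GD Δ)), L (M Δ) g)
    (hM' : ∀ g ∈ Subgroup.normalizer (M' Δ : Set (GD Δ)), L (M' Δ) g) :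
    ∀ P ≤ T Δ, ∀ g, P.map (MulAut.conj g⁻¹).toMonoidHom ≤ T Δ → L P g := by
  -- elements of `N(T)`
  have hN : ∀ b ∈ Subgroup.normalizer (T Δ : Set (GD Δ)), ∀ g, Good L g → Good L (b * g) := by
    intro b hb g hg P hP hPg
    have h1 := map_conj_le hb hP
    refine hcomp P b g hP h1 hPg (hmono _ _ _ hP (hT b hb)) (hg _ h1 ?_)
    rw [← map_conj_mul]
    exact hPg
  have hN' : ∀ b ∈ Subgroup.normalizer (T Δ : Set (GD Δ)), ∀ g, Good L g → Good L (g * b) := by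
    intro b hb g hg P hP hPg
    have h1 : P.map (MulAut.conj g⁻¹).toMonoidHom ≤ T Δ := by
      have := map_conj_le (inv_mem hb) hPg
      rw [← map_conj_mul, mul_inv_cancel_right] at this
      exact this
    exact hcomp P g b hP h1 hPg (hg P hP h1) (hmono _ _ _ h1 (hT b hb))
  -- extension by `s1`, `s2`
  have hs1 : ∀ w, Good L w → (∀ x ∈ T Δ, (s1 Δ * w)⁻¹ * x * (s1 Δ * w) ∈ T Δ → x.1.1 0 1 = 0) → Good L (s1 Δ * w) := by
    intro w hw hx P hP hPw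
    have hPM : P ≤ M Δ := by
      intro x hxP
      refine ⟨hP hxP, hx x (hP hxP) ?_⟩
      have h : (s1 Δ * w)⁻¹ * x * (s1 Δ * w)⁻¹⁻¹ ∈ T Δ := hPw (Subgroup.mem_map_of_mem _ hxP)
      rwa [inv_inv] at h
    have h1 : P.map (MulAut.conj (s1 Δ)⁻¹).toMonoidHom ≤ T Δ := (map_conj_le s1_mem hPM).trans M_le_T
    refine hcomp P _ w hP h1 hPw (hmono _ _ _ hPM (hM _ s1_mem)) (hw _ h1 ?_)
    rw [← map_conj_mul]
    exact hPw
  have hs2 : ∀ w, Good L w → (∀ x ∈ T Δ, (s2 Δ * w)⁻¹ * x * (s2 Δ * w) ∈ T Δ → x.1.1 1 2 = 0) → Good L (s2 Δ * w) := by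
    intro w hw hx P hP hPw
    have hPM : P ≤ M' Δ := by
      intro x hxP
      refine ⟨hP hxP, hx x (hP hxP) ?_⟩
      have h : (s2 Δ * w)⁻¹ * x * (s2 Δ * w)⁻¹⁻¹ ∈ T Δ := hPw (Subgroup.mem_map_of_mem _ hxP)
      rwa [inv_inv] at h
    have h1 : P.map (MulAut.conj (s2 Δ)⁻¹).toMonoidHom ≤ T Δ := (map_conj_le s2_mem hPM).trans M'_le_T
    refine hcomp P _ w hP h1 hPw (hmono _ _ _ hPM (hM' _ s2_mem)) (hw _ h1 ?_)
    rw [← map_conj_mul]
    exact hPw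
  have g1 : Good L (1 : GD Δ) := fun P hP _ => hmono _ _ _ hP (hT 1 (one_mem _))
  have c1 : ∀ x : GD Δ, ((s1 Δ)⁻¹ * x * s1 Δ).1.1 =
    !![x.1.1 1 1, -x.1.1 1 0, -x.1.1 1 2; -x.1.1 0 1, x.1.1 0 0, x.1.1 0 2; -x.1.1 2 1, x.1.1 2 0, x.1.1 2 2] :=
    fun x => conj_s1 x.1
  have c2 : ∀ x : GD Δ, ((s2 Δ)⁻¹ * x * s2 Δ).1.1 =
    !![x.1.1 0 0, -x.1.1 0 2, x.1.1 0 1; -x.1.1 2 0, x.1.1 2 2, -x.1.1 2 1; x.1.1 1 0, -x.1.1 1 2, x.1.1 1 1] :=
    fun x => conj_s2 x.1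
  have gs1 : Good L (s1 Δ) := by
    have := hs1 1 g1 (fun x _ h => by
      rw [mul_one] at h
      have := h.1.1
      rw [c1] at this
      simpa using this)
    rwa [mul_one] at this
  have gs2 : Good L (s2 Δ) := by
    have := hs2 1 g1 (fun x _ h => by
      rw [mul_one] at h
      have := h.1.2.2
      rw [c2] at this
      simpa using this)
    rwa [mul_one] at this
  have e12 : ∀ x : GD Δ, (s1 Δ * s2 Δ)⁻¹ * x * (s1 Δ * s2 Δ) = (s2 Δ)⁻¹ * ((s1 Δ)⁻¹ * x * s1 Δ) * s2 Δ :=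
    fun x => by group
  have e21 : ∀ x : GD Δ, (s2 Δ * s1 Δ)⁻¹ * x * (s2 Δ * s1 Δ) = (s1 Δ)⁻¹ * ((s2 Δ)⁻¹ * x * s2 Δ) * s1 Δ :=
    fun x => by group
  have e121 : ∀ x : GD Δ, (s1 Δ * (s2 Δ * s1 Δ))⁻¹ * x * (s1 Δ * (s2 Δ * s1 Δ)) =
      (s1 Δ)⁻¹ * ((s2 Δ)⁻¹ * ((s1 Δ)⁻¹ * x * s1 Δ) * s2 Δ) * s1 Δ := fun x => by group
  have gs12 : Good L (s1 Δ * s2 Δ) := hs1 _ gs2 (fun x _ h => by
    rw [e12] at h
    have := h.1.2.1
    rw [c2, c1] at this
    simpa using this)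
  have gs21 : Good L (s2 Δ * s1 Δ) := hs2 _ gs1 (fun x _ h => by
    rw [e21] at h
    have := h.1.2.1
    rw [c1, c2] at this
    simpa using this)
  have gs121 : Good L (s1 Δ * (s2 Δ * s1 Δ)) := hs1 _ gs21 (fun x _ h => by
    rw [e121] at h
    have := h.1.2.2
    rw [c1, c2, c1] at this
    simpa using this)
  intro P hP g hg
  obtain ⟨b, w, v, hb, hw, hv, rfl⟩ := bruhat g
  have gw : Good L w := by
    rcases hw with rfl | rfl | rfl | rfl | rfl | rfl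
    exacts [g1, gs1, gs2, gs12, gs21, gs121]
  exact hN' v (Subgroup.le_normalizer hv) _ (hN b (up_mem_normalizer hb) w gw) P hP hg

end Alperin

/-! ### Coordinates on `T` -/

theorem T_mul {x y : GD Δ} (hx : x ∈ T Δ) (hy : y ∈ T Δ) :
    (x * y).1.1 0 1 = x.1.1 0 1 + y.1.1 0 1 ∧ (x * y).1.1 1 2 = x.1.1 1 2 + y.1.1 1 2 ∧
      (x * y).1.1 0 2 = x.1.1 0 2 + y.1.1 0 2 + x.1.1 0 1 * y.1.1 1 2 := by
  obtain ⟨⟨h1, h2, h3⟩, h4⟩ := hx
  obtain ⟨⟨k1, k2, k3⟩, k4⟩ := hy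
  refine ⟨?_, ?_, ?_⟩
  · show (x.1 * y.1).1 0 1 = _
    rw [mul_entry, h4, k4, k3]; ring
  · show (x.1 * y.1).1 1 2 = _
    rw [mul_entry, h4, k4, h1]; ring
  · show (x.1 * y.1).1 0 2 = _
    rw [mul_entry, h4, k4]; ring

theorem T_ext {x y : GD Δ} (hx : x ∈ T Δ) (hy : y ∈ T Δ) (h01 : x.1.1 0 1 = y.1.1 0 1)
    (h12 : x.1.1 1 2 = y.1.1 1 2) (h02 : x.1.1 0 2 = y.1.1 0 2) : x = y := by
  obtain ⟨⟨h1, h2, h3⟩, h4⟩ := hx
  obtain ⟨⟨k1, k2, k3⟩, k4⟩ := hy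
  apply Subtype.ext
  apply Units.ext
  ext i j
  revert i
  refine fin3 ?_ ?_ ?_ <;> revert j <;> refine fin3 ?_ ?_ ?_
  · rw [h4, k4]
  · exact h01
  · exact h02
  · rw [h1, k1]
  · rw [h4, k4]
  · exact h12
  · rw [h2, k2]
  · rw [h3, k3]
  · rw [h4, k4]

theorem xx_coord (a b c : K) : (xx Δ a b c).1.1 0 1 = a ∧ (xx Δ a b c).1.1 1 2 = b ∧ (xx Δ a b c).1.1 0 2 = c :=
  ⟨rfl, rfl, rfl⟩

theorem eq_xx {x : GD Δ} (hx : x ∈ T Δ) : x = xx Δ (x.1.1 0 1) (x.1.1 1 2) (x.1.1 0 2) :=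
  T_ext hx (xx_mem _ _ _) rfl rfl rfl

end Cfsg.Agent.H454.AlperinGL3
end
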